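import Cfsg.Agent.Lib.Ico.Group
import Cfsg.Agent.Lib.Ico.BridgeData
import Cfsg.Agent.Lib.Sporadic.J2Perm.Main

/-! The bridge between the icosian reflection group and the coded group on 100 points. -/

set_option autoImplicit false

namespace CfsgLib.Ico

open Cfsg.Spor Quaternion CfsgLib.Comp

theorem exists_lineMap (g : twoJ2) (i : Fin 315) :
    ∃ j, (g : Equiv.Perm icoLeech) * lineRefl i * (g : Equiv.Perm icoLeech)⁻¹ = lineRefl j := by
  have h : (g : Equiv.Perm icoLeech) * lineRefl i * (g : Equiv.Perm icoLeech)⁻¹ ∈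
      {f : Equiv.Perm icoLeech | IsIcoReflection f} := by
    rw [lineRefl, conj_reflPerm (twoJ2_le_autGroup g.2)]
    exact isIcoReflection_iff.2 ⟨_, _, rfl⟩
  rw [reflSet_eq] at h
  obtain ⟨j, e⟩ := h
  exact ⟨j, e.symm⟩

/-- The permutation of lines given by conjugation. -/
noncomputable def lineMap (g : twoJ2) (i : Fin 315) : Fin 315 := (exists_lineMap g i).choose

theorem lineMap_spec (g : twoJ2) (i : Fin 315) :
    (g : Equiv.Perm icoLeech) * lineRefl i * (g : Equiv.Perm icoLeech)⁻¹ = lineRefl (lineMap g i) :=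
  (exists_lineMap g i).choose_spec

theorem lineMap_mul (g h : twoJ2) (i : Fin 315) : lineMap (g * h) i = lineMap g (lineMap h i) := by
  apply lineRefl_injective
  rw [← lineMap_spec, ← lineMap_spec g, ← lineMap_spec h, Subgroup.coe_mul, mul_inv_rev]
  simp only [mul_assoc]

theorem lineMap_one (i : Fin 315) : lineMap 1 i = i := by
  apply lineRefl_injective
  rw [← lineMap_spec]
  simp

theorem lineMap_surjective (g : twoJ2) : Function.Surjective (lineMap g) := fun j =>
  ⟨lineMap g⁻¹ j, by rw [← lineMap_mul, mul_inv_cancel, lineMap_one]⟩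

theorem key_mulT {k : ℕ} (hk : k < 120) {t : T} (ht : InL t = true) :
    key (mulT (unit k) t) = key t :=
  key_eq_of_refl (inL_mulT (inP_unit hk) ht) ht fun x => qrefl_mulT hk ht x

/-- Read an entry of a packed permutation of lines. -/
def get9 (w i : ℕ) : ℕ := Nat.mod (Nat.shiftRight w (Nat.mul 9 i)) 512

/-- Check of a packed permutation of lines against a reflection. -/
def rowB (r : T) (w : ℕ) : List T → ℕ → Bool
  | [], _ => true
  | t :: l, i =>
    Nat.blt (get9 w i) 315 && Nat.beq (key (reflF r t)) (keyTab.getD (get9 w i) 0) && rowB r w l (i + 1)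

theorem rowB_spec {r : T} {w : ℕ} : ∀ {l : List T} {i : ℕ}, rowB r w l i = true → ∀ n (h : n < l.length),
    get9 w (i + n) < 315 ∧ key (reflF r l[n]) = keyTab.getD (get9 w (i + n)) 0
  | [], _, _, n, h => absurd h (by simp)
  | t :: l, i, hb, n, h => by
    rw [rowB, Bool.and_eq_true, Bool.and_eq_true, Nat.blt_eq, Nat.beq_eq] at hb
    cases n with
    | zero => exact ⟨hb.1.1, hb.1.2⟩
    | succ n =>
      have := rowB_spec hb.2 n (Nat.lt_of_succ_lt_succ h)
      rw [show i + 1 + n = i + (n + 1) by omega] at this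
      simpa using this

theorem moves_row_check :
    moveTab.all (fun m => Nat.blt m.1 315 && rowB (rep m.1) m.2.1 repTab 0) = true := by
  decide +kernel

theorem move_lt {m : ℕ × ℕ × ℕ} (hm : m ∈ moveTab) : m.1 < 315 := by
  have h := List.all_eq_true.1 moves_row_check m hm
  rw [Bool.and_eq_true, Nat.blt_eq] at h
  exact h.1

/-- A listed reflection in the group. -/
noncomputable def moveEl {m : ℕ × ℕ × ℕ} (hm : m ∈ moveTab) : twoJ2 :=
  ⟨lineRefl ⟨m.1, move_lt hm⟩, lineRefl_mem _⟩

theorem lineMap_move {m : ℕ × ℕ × ℕ} (hm : m ∈ moveTab) (i : Fin 315) :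
    (lineMap (moveEl hm) i : ℕ) = get9 m.2.1 i := by
  have h := List.all_eq_true.1 moves_row_check m hm
  rw [Bool.and_eq_true] at h
  obtain ⟨hj, hk⟩ := rowB_spec h.2 i (by rw [repTab_length]; exact i.2)
  rw [Nat.zero_add] at hj hk
  rw [← rep_eq_getElem i.2] at hk
  set a : Fin 315 := ⟨m.1, move_lt hm⟩
  have hL := inL_reflF (inL_rep a.2) (qip_repV a) (inL_rep i.2)
  obtain ⟨k, hk', j, hj', e⟩ := exists_rep hL (by
    rw [← qip_embV_iff, ← embV_reflF (inL_rep a.2) (inL_rep i.2),
      qip_qrefl (r := embV (rep a)) ((qip_embV_iff _).2 (nsum_rep a.2))]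
    exact (qip_embV_iff _).2 (nsum_rep i.2))
  have hmap : lineMap (moveEl hm) i = ⟨j, hj'⟩ := by
    apply lineRefl_injective
    rw [← lineMap_spec]
    show lineRefl a * lineRefl i * (lineRefl a)⁻¹ = _
    refine Equiv.ext fun x => Subtype.ext ?_
    have hc := conj_reflPerm (twoJ2_le_autGroup (lineRefl_mem a)) (repV i) (qip_repV i)
    rw [show lineRefl i = reflPerm (repV i) (qip_repV i) from rfl, hc]
    show qrefl (qrefl (embV (rep a)) (embV (rep i))) x = qrefl (embV (rep j)) x
    rw [embV_reflF (inL_rep a.2) (inL_rep i.2), e, qrefl_mulT hk' (inL_rep hj')]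
  rw [hmap]
  refine key_injective hj' hj ?_
  rw [e, key_mulT hk' (inL_rep hj')] at hk
  rw [hk, rep_eq_getElem hj]
  obtain ⟨-, hl⟩ := keyTab_nodup
  have hmk := map_key_of_keysB key_checks
  have hlt : get9 m.2.1 i < keyTab.length := by omega
  have hget : keyTab.getD (get9 m.2.1 i) 0 = keyTab[get9 m.2.1 i] := List.getD_eq_getElem ..
  rw [hget]
  simp only [← hmk, List.getElem_map]

/-- Membership of a line in one of the 100 sets. -/
def memF (p : Fin 100) (i : Fin 315) : Bool := (famTab.getD p 0).testBit i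

/-- The element maps one set onto another. -/
def Rel (g : twoJ2) (p q : Fin 100) : Prop := ∀ i, memF q (lineMap g i) = memF p i

theorem fam_checks : (ndB famTab && famTab.all (fun w => Nat.blt w (2 ^ 315)) && Nat.beq famTab.length 100) = true := by
  decide +kernel

theorem memF_injective {p q : Fin 100} (h : ∀ i, memF p i = memF q i) : p = q := by
  have hc := fam_checks
  simp only [Bool.and_eq_true, List.all_eq_true, Nat.blt_eq, Nat.beq_eq] at hc
  obtain ⟨⟨hn, hlt⟩, hl⟩ := hc
  have e : ∀ r : Fin 100, famTab.getD r 0 = famTab[(r : ℕ)]'(show (r : ℕ) < famTab.length by omega) := fun r => List.getD_eq_getElem ..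
  refine Fin.ext ((List.Nodup.getElem_inj_iff (nodup_of_ndB hn)
    (hi := (show (p : ℕ) < famTab.length by omega)) (hj := (show (q : ℕ) < famTab.length by omega))).1 (Nat.eq_of_testBit_eq fun i => ?_))
  by_cases hi : i < 315
  · have := h ⟨i, hi⟩
    simp only [memF, e] at this
    exact this
  · have h1 := hlt _ (List.getElem_mem (h := (show (p : ℕ) < famTab.length by omega)))
    have h2 := hlt _ (List.getElem_mem (h := (show (q : ℕ) < famTab.length by omega)))
    have hp : 2 ^ 315 ≤ 2 ^ i := Nat.pow_le_pow_right (by norm_num) (by omega)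
    rw [Nat.testBit_lt_two_pow (h1.trans_le hp), Nat.testBit_lt_two_pow (h2.trans_le hp)]

theorem rel_right {g : twoJ2} {p q q' : Fin 100} (h : Rel g p q) (h' : Rel g p q') : q = q' :=
  memF_injective fun j => by
    obtain ⟨i, rfl⟩ := lineMap_surjective g j
    rw [h i, h' i]

theorem rel_left {g : twoJ2} {p p' q : Fin 100} (h : Rel g p q) (h' : Rel g p' q) : p = p' :=
  memF_injective fun i => by rw [← h i, ← h' i]

theorem rel_mul {g h : twoJ2} {p q r : Fin 100} (h1 : Rel h p q) (h2 : Rel g q r) : Rel (g * h) p r :=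
  fun i => by rw [lineMap_mul, h2, h1]

/-- Check of the permutation of sets given by a listed reflection. -/
noncomputable def setB (m : ℕ × ℕ × ℕ) : Bool :=
  PermCode.okb 100 m.2.2 && PermCode.sift 100 J2Perm.j2Chain m.2.2 &&
    PermCode.allLt 100 fun p => PermCode.allLt 315 fun i =>
      (famTab.getD p 0).testBit i == (famTab.getD (PermCode.get m.2.2 p) 0).testBit (get9 m.2.1 i)

theorem moves_set_check : moveTab.all setB = true := by decide +kernel

theorem rel_move {m : ℕ × ℕ × ℕ} (hm : m ∈ moveTab) (p : Fin 100) :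
    ∃ q : Fin 100, (q : ℕ) = PermCode.get m.2.2 p ∧ Rel (moveEl hm) p q := by
  have h := List.all_eq_true.1 moves_set_check m hm
  simp only [setB, Bool.and_eq_true] at h
  refine ⟨⟨_, (PermCode.ok_of_okb h.1.1).1 p p.2⟩, rfl, fun i => ?_⟩
  have := eq_of_beq (PermCode.allLt_spec (PermCode.allLt_spec h.2 p p.2) i i.2)
  simp only [memF, lineMap_move hm i]
  exact this.symm

/-- The listed reflections as a set. -/
def moveSet : Set twoJ2 := {g | ∃ m, ∃ hm : m ∈ moveTab, g = moveEl hm}

/-- Check of one step of the generating tree. -/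
def genEdgeB (x : ℕ × ℕ × ℕ) : Bool :=
  Nat.blt x.1 315 && Nat.blt x.2.1 315 && Nat.blt x.2.2 moveTab.length &&
    Nat.beq (get9 (moveTab.getD x.2.2 (0, 0, 0)).2.1 x.2.1) x.1

theorem gen_tree_check :
    treeB (fun x => x.1) (fun x => x.2.1) genEdgeB genTree genSeed (2 ^ 315 - 1) = true := by
  decide +kernel

theorem seed_check :
    ((List.range 320).all fun i => !genSeed.testBit i || moveTab.any fun m => Nat.beq m.1 i) = true ∧
      genSeed < 2 ^ 320 := by
  decide +kernel

theorem closure_moveSet : Subgroup.closure moveSet = ⊤ := by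
  have key : ∀ i, i < 315 → ∀ hi : i < 315,
      (⟨lineRefl ⟨i, hi⟩, lineRefl_mem _⟩ : twoJ2) ∈ Subgroup.closure moveSet := by
    intro i h
    refine treeB_sound (P := fun i => ∀ hi : i < 315,
      (⟨lineRefl ⟨i, hi⟩, lineRefl_mem _⟩ : twoJ2) ∈ Subgroup.closure moveSet) gen_tree_check ?_ ?_ i
      (testBit_full h)
    · intro x _ hx hp hi
      simp only [genEdgeB, Bool.and_eq_true, Nat.blt_eq, Nat.beq_eq] at hx
      obtain ⟨⟨⟨h1, h2⟩, h3⟩, e⟩ := hx
      rw [List.getD_eq_getElem (hn := h3)] at e
      have hm : moveTab[x.2.2] ∈ moveTab := List.getElem_mem _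
      have hmap : lineMap (moveEl hm) ⟨x.2.1, h2⟩ = ⟨x.1, hi⟩ :=
        Fin.ext ((lineMap_move hm _).trans e)
      have hmem : moveEl hm ∈ Subgroup.closure moveSet := Subgroup.subset_closure ⟨_, hm, rfl⟩
      have heq : (⟨lineRefl ⟨x.1, hi⟩, lineRefl_mem _⟩ : twoJ2) =
          moveEl hm * ⟨lineRefl ⟨x.2.1, h2⟩, lineRefl_mem _⟩ * (moveEl hm)⁻¹ :=
        Subtype.ext (by
          show lineRefl ⟨x.1, hi⟩ = _
          rw [← hmap, ← lineMap_spec]
          rfl)
      rw [heq]
      exact mul_mem (mul_mem hmem (hp h2)) (inv_mem hmem)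
    · intro j hj hi
      have hs := List.all_eq_true.1 seed_check.1 j (List.mem_range.2 (by omega))
      simp only [hj, Bool.not_true, Bool.false_or, List.any_eq_true, Nat.beq_eq] at hs
      obtain ⟨m, hm, rfl⟩ := hs
      exact Subgroup.subset_closure ⟨m, hm, rfl⟩
  refine (Subgroup.eq_top_iff' _).2 fun g => ?_
  have hall : ∀ f ∈ twoJ2, ∀ hf : f ∈ twoJ2, (⟨f, hf⟩ : twoJ2) ∈ Subgroup.closure moveSet := by
    intro f hf
    induction hf using Subgroup.closure_induction with
    | mem f hf =>
      intro hf'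
      have h' : f ∈ Set.range lineRefl := reflSet_eq ▸ (hf : f ∈ {f | IsIcoReflection f})
      obtain ⟨i, rfl⟩ := h'
      exact key i i.2 i.2
    | one => intro _; exact one_mem _
    | mul a b ha hb iha ihb => intro _; exact mul_mem (iha ha) (ihb hb)
    | inv a ha iha => intro _; exact inv_mem (iha ha)
  exact hall g g.2 g.2

theorem exists_rel (g : twoJ2) : ∀ p, ∃ q, Rel g p q := by
  have hg : g ∈ Subgroup.closure moveSet := closure_moveSet ▸ Subgroup.mem_top g
  induction hg using Subgroup.closure_induction with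
  | mem g hg =>
    obtain ⟨m, hm, rfl⟩ := hg
    exact fun p => (rel_move hm p).imp fun q h => h.2
  | one => exact fun p => ⟨p, fun i => by rw [lineMap_one]⟩
  | mul a b _ _ ha hb =>
    intro p
    obtain ⟨q, hq⟩ := hb p
    obtain ⟨r, hr⟩ := ha q
    exact ⟨r, rel_mul hq hr⟩
  | inv a _ ha =>
    intro q
    choose f hf using ha
    have hinj : Function.Injective f := fun p p' e => rel_left (hf p) (e ▸ hf p')
    obtain ⟨p, rfl⟩ := Finite.injective_iff_surjective.1 hinj q
    refine ⟨p, fun i => ?_⟩
    have := hf p (lineMap a⁻¹ i)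
    rw [← lineMap_mul, mul_inv_cancel, lineMap_one] at this
    exact this.symm

/-- The set to which a set is moved. -/
noncomputable def setMap (g : twoJ2) (p : Fin 100) : Fin 100 := (exists_rel g p).choose

theorem setMap_spec (g : twoJ2) (p : Fin 100) : Rel g p (setMap g p) := (exists_rel g p).choose_spec

theorem setMap_mul (g h : twoJ2) (p : Fin 100) : setMap (g * h) p = setMap g (setMap h p) :=
  rel_right (setMap_spec _ _) (rel_mul (setMap_spec h p) (setMap_spec g _))

theorem setMap_one (p : Fin 100) : setMap 1 p = p :=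
  rel_right (setMap_spec 1 p) fun i => by rw [lineMap_one]

/-- The permutation of the 100 sets. -/
noncomputable def setPerm (g : twoJ2) : Equiv.Perm (Fin 100) where
  toFun := setMap g
  invFun := setMap g⁻¹
  left_inv p := by rw [← setMap_mul, inv_mul_cancel, setMap_one]
  right_inv p := by rw [← setMap_mul, mul_inv_cancel, setMap_one]

/-- The action on the 100 sets. -/
noncomputable def toPerm100 : twoJ2 →* Equiv.Perm (Fin 100) where
  toFun := setPerm
  map_one' := Equiv.ext setMap_one
  map_mul' g h := Equiv.ext fun p => setMap_mul g h p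

theorem toPerm100_move {m : ℕ × ℕ × ℕ} (hm : m ∈ moveTab) :
    toPerm100 (moveEl hm) = PermCode.val 100 m.2.2 := by
  have h := List.all_eq_true.1 moves_set_check m hm
  simp only [setB, Bool.and_eq_true] at h
  refine (PermCode.val_eq_of h.1.1 _ fun p => ?_).symm
  obtain ⟨q, hq, hr⟩ := rel_move hm p
  rw [← hq]
  exact congrArg Fin.val (rel_right (setMap_spec (moveEl hm) p) hr)

/-- Product of listed permutations along a word. -/
noncomputable def wordP : List ℕ → ℕ
  | [] => PermCode.one 100
  | a :: l => PermCode.mul 100 (moveTab.getD a (0, 0, 0)).2.2 (wordP l)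

theorem wordP_spec : ∀ w : List ℕ, (∀ a ∈ w, a < moveTab.length) →
    PermCode.Ok 100 (wordP w) ∧ PermCode.val 100 (wordP w) ∈ toPerm100.range
  | [], _ => ⟨PermCode.ok_one (by norm_num), by
      rw [wordP, PermCode.val_one (by norm_num)]; exact one_mem _⟩
  | a :: l, hw => by
    have ha := hw a (List.mem_cons_self ..)
    obtain ⟨h1, h2⟩ := wordP_spec l fun b hb => hw b (List.mem_cons_of_mem _ hb)
    have h := List.all_eq_true.1 moves_set_check _ (List.getElem_mem ha)
    simp only [setB, Bool.and_eq_true] at h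
    have hok := PermCode.ok_of_okb h.1.1
    rw [wordP, List.getD_eq_getElem (hn := ha)]
    refine ⟨PermCode.ok_mul (by norm_num) hok h1, ?_⟩
    rw [PermCode.val_mul (by norm_num) hok h1]
    exact mul_mem ⟨_, toPerm100_move (List.getElem_mem ha)⟩ h2

theorem words_check :
    (genWords.all (fun w => w.all fun a => Nat.blt a moveTab.length) &&
      J2Perm.j2Gens.all (fun s => genWords.any fun w => Nat.beq (wordP w) s)) = true := by
  decide +kernel

theorem range_toPerm100 : toPerm100.range = J2Perm.J2sub := by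
  refine le_antisymm ?_ ((Subgroup.closure_le _).2 ?_)
  · rw [MonoidHom.range_eq_map, ← closure_moveSet, MonoidHom.map_closure, Subgroup.closure_le]
    rintro _ ⟨g, ⟨m, hm, rfl⟩, rfl⟩
    have h := List.all_eq_true.1 moves_set_check m hm
    simp only [setB, Bool.and_eq_true] at h
    rw [toPerm100_move hm]
    exact PermCode.mem_span J2Perm.j2_check h.1.1 h.1.2
  · rintro _ ⟨s, hs, rfl⟩
    have h := words_check
    simp only [Bool.and_eq_true, List.all_eq_true, List.any_eq_true, Nat.blt_eq, Nat.beq_eq] at h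
    obtain ⟨w, hw, rfl⟩ := h.2 s hs
    exact (wordP_spec w (h.1 w hw)).2

theorem ker_toPerm100 : toPerm100.ker = Subgroup.center twoJ2 := by
  have : Finite twoJ2 := Nat.finite_of_card_ne_zero (by rw [card_twoJ2]; norm_num)
  have hi := Subgroup.index_ker toPerm100
  rw [range_toPerm100, J2Perm.card_J2sub] at hi
  have hc := toPerm100.ker.index_mul_card
  rw [hi, card_twoJ2] at hc
  refine (Subgroup.eq_of_le_of_card_ge (fun z hz => ?_) ?_).symm
  · refine MonoidHom.mem_ker.2 (Equiv.ext fun p => rel_right (setMap_spec z p) fun i => ?_)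
    have : lineMap z i = i := by
      apply lineRefl_injective
      rw [← lineMap_spec]
      have h := congrArg Subtype.val (Subgroup.mem_center_iff.1 hz ⟨lineRefl i, lineRefl_mem i⟩)
      simp only [Subgroup.coe_mul] at h
      rw [← h, mul_inv_cancel_right]
    rw [this]
    rfl
  · rw [card_center.1]; omega

/-- The Hall–Janko group of the icosian lattice is the coded group on 100 points. -/
noncomputable def bridge : J2 ≃* J2Perm.J2sub :=
  (QuotientGroup.quotientMulEquivOfEq ker_toPerm100.symm).trans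
    ((QuotientGroup.quotientKerEquivRange toPerm100).trans (MulEquiv.subgroupCongr range_toPerm100))

theorem bridge_mk (g : twoJ2) :
    ((bridge (QuotientGroup.mk g) : J2Perm.J2sub) : Equiv.Perm (Fin 100)) = toPerm100 g := rfl

end CfsgLib.Ico
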