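import Cfsg.Agent.Lib.Ico.Lines

/-! Automorphisms of the icosian lattice in exact coordinates. -/

set_option autoImplicit false

namespace CfsgLib.Ico

open Cfsg.Spor Quaternion

/-- Linear isometries of the lattice. -/
def IsAuto (f : Equiv.Perm icoLeech) : Prop :=
  (∀ x y z : icoLeech, (z : Fin 3 → ℍ[ℝ]) = (x : Fin 3 → ℍ[ℝ]) + y →
      (f z : Fin 3 → ℍ[ℝ]) = (f x : Fin 3 → ℍ[ℝ]) + f y) ∧
  (∀ a ∈ icosians, ∀ x z : icoLeech, (z : Fin 3 → ℍ[ℝ]) = (fun t => a * (x : Fin 3 → ℍ[ℝ]) t) →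
      (f z : Fin 3 → ℍ[ℝ]) = fun t => a * (f x : Fin 3 → ℍ[ℝ]) t) ∧
  (∀ x y : icoLeech, qip (f x : Fin 3 → ℍ[ℝ]) (f y) = qip (x : Fin 3 → ℍ[ℝ]) y)

theorem add_mem_icoLeech {v w : Fin 3 → ℍ[ℝ]} (hv : v ∈ icoLeech) (hw : w ∈ icoLeech) :
    v + w ∈ icoLeech := by
  have h := sub_mem_icoLeech hv (smul_mem_icoLeech (neg_mem (one_mem icosians)) hw)
  have e : v - (fun t => (-1 : ℍ[ℝ]) * w t) = v + w := by
    funext t
    simp only [Pi.sub_apply, Pi.add_apply, neg_mul, one_mul, sub_neg_eq_add]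
  rwa [e] at h

/-- The group of linear isometries. -/
def autGroup : Subgroup (Equiv.Perm icoLeech) where
  carrier := {f | IsAuto f}
  one_mem' := ⟨fun _ _ _ h => h, fun _ _ _ _ h => h, fun _ _ => rfl⟩
  mul_mem' {f g} hf hg :=
    ⟨fun x y z h => hf.1 _ _ _ (hg.1 x y z h), fun a ha x z h => hf.2.1 a ha _ _ (hg.2.1 a ha x z h),
      fun x y => (hf.2.2 _ _).trans (hg.2.2 x y)⟩
  inv_mem' {f} hf := by
    refine ⟨fun x y z h => ?_, fun a ha x z h => ?_, fun x y => ?_⟩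
    · have hm := add_mem_icoLeech (f⁻¹ x).2 (f⁻¹ y).2
      have e := hf.1 (f⁻¹ x) (f⁻¹ y) ⟨_, hm⟩ rfl
      simp only [Equiv.Perm.coe_inv, Equiv.apply_symm_apply] at e
      rw [← h] at e
      have e2 := Subtype.ext e
      rw [Equiv.Perm.coe_inv, ← e2, Equiv.symm_apply_apply]
    · have hm := smul_mem_icoLeech ha (f⁻¹ x).2
      have e := hf.2.1 a ha (f⁻¹ x) ⟨_, hm⟩ rfl
      simp only [Equiv.Perm.coe_inv, Equiv.apply_symm_apply] at e
      rw [← h] at e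
      have e2 := Subtype.ext e
      rw [Equiv.Perm.coe_inv, ← e2, Equiv.symm_apply_apply]
    · have e := hf.2.2 (f⁻¹ x) (f⁻¹ y)
      simp only [Equiv.Perm.coe_inv, Equiv.apply_symm_apply] at e
      exact e.symm

theorem half_smul_add (a b : ℍ[ℝ]) : (1 / 2 : ℝ) • a + (1 / 2 : ℝ) • b = (1 / 2 : ℝ) • (a + b) :=
  (smul_add _ _ _).symm

theorem qip_add (x y r : Fin 3 → ℍ[ℝ]) : qip (x + y) r = qip x r + qip y r := by
  simp only [qip, Pi.add_apply, add_mul, Finset.sum_add_distrib]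

theorem qip_lmul (a : ℍ[ℝ]) (x r : Fin 3 → ℍ[ℝ]) : qip (fun t => a * x t) r = a * qip x r := by
  simp only [qip, Finset.mul_sum, mul_assoc]

theorem star_qip (x r : Fin 3 → ℍ[ℝ]) : star (qip x r) = qip r x := by
  simp only [qip, star_sum, star_mul, star_star]

theorem qip_qrefl {r : Fin 3 → ℍ[ℝ]} (h4 : qip r r = 4) (x y : Fin 3 → ℍ[ℝ]) :
    qip (qrefl r x) (qrefl r y) = qip x y := by
  have key : ∀ m n : ℍ[ℝ], qip (fun t => x t - m * r t) (fun t => y t - n * r t) =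
      qip x y - qip x r * star n - m * qip r y + m * qip r r * star n := by
    intro m n
    simp only [qip, Fin.sum_univ_three, star_sub, star_mul]
    noncomm_ring
  show qip (fun t => x t - ((1 / 2 : ℝ) • qip x r) * r t) (fun t => y t - ((1 / 2 : ℝ) • qip y r) * r t) = _
  rw [key, h4, Quaternion.star_smul, star_qip, show (4 : ℍ[ℝ]) = (4 : ℝ) • (1 : ℍ[ℝ]) by
    rw [← Algebra.algebraMap_eq_smul_one, map_ofNat]]
  simp only [mul_smul_comm, smul_mul_assoc, mul_one, smul_smul]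
  module

theorem reflPerm_mem_autGroup (r : icoLeech) (h4 : qip (r : Fin 3 → ℍ[ℝ]) r = 4) :
    reflPerm r h4 ∈ autGroup := by
  refine ⟨fun x y z h => ?_, fun a ha x z h => ?_, fun x y => qip_qrefl h4 _ _⟩
  · funext t
    simp only [reflPerm_apply, Pi.add_apply, qrefl, h, qip_add, smul_add, add_mul]
    abel
  · funext t
    simp only [reflPerm_apply, qrefl, h, qip_lmul, mul_sub]
    rw [← mul_smul_comm, mul_assoc]

theorem twoJ2_le_autGroup : twoJ2 ≤ autGroup :=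
  (Subgroup.closure_le _).2 fun f hf => by
    obtain ⟨r, h4, rfl⟩ := isIcoReflection_iff.1 hf
    exact reflPerm_mem_autGroup r h4

theorem auto_qrefl {f : Equiv.Perm icoLeech} (hf : f ∈ autGroup) (r : icoLeech)
    (x : icoLeech) (z : icoLeech) (hz : (z : Fin 3 → ℍ[ℝ]) = qrefl (r : Fin 3 → ℍ[ℝ]) x) :
    (f z : Fin 3 → ℍ[ℝ]) = qrefl (f r : Fin 3 → ℍ[ℝ]) (f x) := by
  obtain ⟨m, hm, e⟩ := exists_qip x.2 r.2
  have e' : qip (f x : Fin 3 → ℍ[ℝ]) (f r) = 2 * m := by rw [hf.2.2 x r, e]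
  have hmr := smul_mem_icoLeech (neg_mem hm) r.2
  have h1 := hf.1 x ⟨_, hmr⟩ z (by
    funext t
    rw [hz]
    simp only [Pi.add_apply, qrefl, e, half_smul_two_mul, neg_mul, sub_eq_add_neg])
  have h2 := hf.2.1 (-m) (neg_mem hm) r ⟨_, hmr⟩ rfl
  rw [h1, h2]
  funext t
  simp only [Pi.add_apply, qrefl, e', half_smul_two_mul, neg_mul, sub_eq_add_neg]

theorem conj_reflPerm {f : Equiv.Perm icoLeech} (hf : f ∈ autGroup) (r : icoLeech)
    (h4 : qip (r : Fin 3 → ℍ[ℝ]) r = 4) :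
    f * reflPerm r h4 * f⁻¹ = reflPerm (f r) (by rw [hf.2.2]; exact h4) := by
  refine Equiv.ext fun y => Subtype.ext ?_
  rw [Equiv.Perm.mul_apply, Equiv.Perm.mul_apply, reflPerm_apply,
    auto_qrefl hf r (f⁻¹ y) _ (reflPerm_apply r h4 _)]
  simp only [Equiv.Perm.coe_inv, Equiv.apply_symm_apply]

/-- A triple as a lattice vector. -/
noncomputable def vec (t : T) (h : InL t = true) : icoLeech := ⟨embV t, embV_mem h⟩

/-- Image of a triple under the map sending the axes to three given vectors. -/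
def applyM (M : T × T × T) (x : T) : T :=
  (halve (mulF x.1 M.1.1 + mulF x.2.1 M.2.1.1 + mulF x.2.2 M.2.2.1),
    halve (mulF x.1 M.1.2.1 + mulF x.2.1 M.2.1.2.1 + mulF x.2.2 M.2.2.2.1),
    halve (mulF x.1 M.1.2.2 + mulF x.2.1 M.2.1.2.2 + mulF x.2.2 M.2.2.2.2))

theorem eq_two_mul_of_emb {w o : Q} (h : 2 * emb o = emb w) : w = 2 * o := by
  refine (emb_injective ?_).symm
  rw [← h, two_mul, two_mul, emb_add]

/-- An automorphism is given by the images of the axes. -/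
theorem apply_axis {f : Equiv.Perm icoLeech} (hf : f ∈ autGroup) {a b c x o : T}
    (ha : InL a = true) (hb : InL b = true) (hc : InL c = true) (hx : InL x = true)
    (ho : InL o = true)
    (h0 : f (vec (axisT 0) (inL_axisT 0)) = vec a ha) (h1 : f (vec (axisT 1) (inL_axisT 1)) = vec b hb)
    (h2 : f (vec (axisT 2) (inL_axisT 2)) = vec c hc) (he : f (vec x hx) = vec o ho) :
    mulF x.1 a.1 + mulF x.2.1 b.1 + mulF x.2.2 c.1 = 2 * o.1 ∧
    mulF x.1 a.2.1 + mulF x.2.1 b.2.1 + mulF x.2.2 c.2.1 = 2 * o.2.1 ∧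
    mulF x.1 a.2.2 + mulF x.2.1 b.2.2 + mulF x.2.2 c.2.2 = 2 * o.2.2 := by
  obtain ⟨x0, x1, x2, -⟩ := (inL_iff _).1 hx
  obtain ⟨a0, a1, a2, -⟩ := (inL_iff _).1 ha
  obtain ⟨b0, b1, b2, -⟩ := (inL_iff _).1 hb
  obtain ⟨c0, c1, c2, -⟩ := (inL_iff _).1 hc
  set e0 := vec (axisT 0) (inL_axisT 0)
  set e1 := vec (axisT 1) (inL_axisT 1)
  set e2 := vec (axisT 2) (inL_axisT 2)
  set X := vec x hx
  have m0 := smul_mem_icoLeech (emb_mem x0) e0.2
  have m1 := smul_mem_icoLeech (emb_mem x1) e1.2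
  have m2 := smul_mem_icoLeech (emb_mem x2) e2.2
  have m01 := add_mem_icoLeech m0 m1
  have htwo : (2 : ℍ[ℝ]) ∈ icosians := by
    rw [← one_add_one_eq_two]; exact add_mem (one_mem _) (one_mem _)
  have m := smul_mem_icoLeech htwo X.2
  have hsum : (fun t => (2 : ℍ[ℝ]) * (X : Fin 3 → ℍ[ℝ]) t) =
      ((fun t => emb x.1 * (e0 : Fin 3 → ℍ[ℝ]) t) + fun t => emb x.2.1 * (e1 : Fin 3 → ℍ[ℝ]) t) +
        fun t => emb x.2.2 * (e2 : Fin 3 → ℍ[ℝ]) t := by
    funext t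
    simp only [Pi.add_apply]
    show (2 : ℍ[ℝ]) * embV x t = emb x.1 * embV (axisT 0) t + emb x.2.1 * embV (axisT 1) t +
      emb x.2.2 * embV (axisT 2) t
    rw [embV_axisT, embV_axisT, embV_axisT]
    fin_cases t <;> simp [embV, two_mul, mul_two]
  have k1 := hf.1 ⟨_, m01⟩ ⟨_, m2⟩ ⟨_, m⟩ hsum
  have k2 := hf.1 ⟨_, m0⟩ ⟨_, m1⟩ ⟨_, m01⟩ rfl
  rw [hf.2.1 _ htwo X ⟨_, m⟩ rfl, k2, hf.2.1 _ (emb_mem x0) e0 ⟨_, m0⟩ rfl,
    hf.2.1 _ (emb_mem x1) e1 ⟨_, m1⟩ rfl, hf.2.1 _ (emb_mem x2) e2 ⟨_, m2⟩ rfl, h0, h1, h2, he] at k1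
  have k : ∀ t, (2 : ℍ[ℝ]) * embV o t =
      emb x.1 * embV a t + emb x.2.1 * embV b t + emb x.2.2 * embV c t := fun t => congrFun k1 t
  refine ⟨eq_two_mul_of_emb ?_, eq_two_mul_of_emb ?_, eq_two_mul_of_emb ?_⟩
  · rw [emb_add, emb_add, ← mulP_eq, ← mulP_eq, ← mulP_eq, emb_mulP x0 a0, emb_mulP x1 b0,
      emb_mulP x2 c0]
    simpa [embV] using k 0
  · rw [emb_add, emb_add, ← mulP_eq, ← mulP_eq, ← mulP_eq, emb_mulP x0 a1, emb_mulP x1 b1,
      emb_mulP x2 c1]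
    simpa [embV] using k 1
  · rw [emb_add, emb_add, ← mulP_eq, ← mulP_eq, ← mulP_eq, emb_mulP x0 a2, emb_mulP x1 b2,
      emb_mulP x2 c2]
    simpa [embV] using k 2

theorem applyM_eq {f : Equiv.Perm icoLeech} (hf : f ∈ autGroup) {a b c x o : T}
    (ha : InL a = true) (hb : InL b = true) (hc : InL c = true) (hx : InL x = true)
    (ho : InL o = true)
    (h0 : f (vec (axisT 0) (inL_axisT 0)) = vec a ha) (h1 : f (vec (axisT 1) (inL_axisT 1)) = vec b hb)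
    (h2 : f (vec (axisT 2) (inL_axisT 2)) = vec c hc) (he : f (vec x hx) = vec o ho) :
    applyM (a, b, c) x = o := by
  obtain ⟨e1, e2, e3⟩ := apply_axis hf ha hb hc hx ho h0 h1 h2 he
  simp only [applyM, e1, e2, e3, halve_two_mul]

theorem exists_vec (x : icoLeech) : ∃ t, ∃ h : InL t = true, x = vec t h := by
  obtain ⟨t, h, e⟩ := mem_icoLeech_iff.1 x.2
  exact ⟨t, h, Subtype.ext e.symm⟩

theorem vec_inj {s t : T} {hs : InL s = true} {ht : InL t = true} (h : vec s hs = vec t ht) : s = t :=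
  embV_injective (congrArg Subtype.val h)

theorem ext_axis {f g : Equiv.Perm icoLeech} (hf : f ∈ autGroup) (hg : g ∈ autGroup)
    (h : ∀ s, f (vec (axisT s) (inL_axisT s)) = g (vec (axisT s) (inL_axisT s))) : f = g := by
  refine Equiv.ext fun x => ?_
  obtain ⟨t, ht, rfl⟩ := exists_vec x
  obtain ⟨a, ha, e0⟩ := exists_vec (f (vec (axisT 0) (inL_axisT 0)))
  obtain ⟨b, hb, e1⟩ := exists_vec (f (vec (axisT 1) (inL_axisT 1)))
  obtain ⟨c, hc, e2⟩ := exists_vec (f (vec (axisT 2) (inL_axisT 2)))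
  obtain ⟨o, ho, eo⟩ := exists_vec (f (vec t ht))
  obtain ⟨o', ho', eo'⟩ := exists_vec (g (vec t ht))
  rw [eo, eo']
  refine Subtype.ext (congrArg embV ?_)
  rw [← applyM_eq hf ha hb hc ht ho e0 e1 e2 eo,
    ← applyM_eq hg ha hb hc ht ho' ((h 0).symm.trans e0) ((h 1).symm.trans e1) ((h 2).symm.trans e2) eo']

/-- The reflection in doubled coordinates. -/
def reflF (r x : T) : T :=
  let s := halve (mulF x.1 (star r.1) + mulF x.2.1 (star r.2.1) + mulF x.2.2 (star r.2.2))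
  (x.1 - mulF s r.1, x.2.1 - mulF s r.2.1, x.2.2 - mulF s r.2.2)

theorem embV_reflF {r x : T} (hr : InL r = true) (hx : InL x = true) :
    qrefl (embV r) (embV x) = embV (reflF r x) := by
  obtain ⟨r0, r1, r2, -⟩ := (inL_iff _).1 hr
  obtain ⟨x0, x1, x2, -⟩ := (inL_iff _).1 hx
  obtain ⟨m, hm, e⟩ := exists_qip (embV_mem hx) (embV_mem hr)
  obtain ⟨s, hs, rfl⟩ := mem_icosians_iff.1 hm
  have hW : mulF x.1 (star r.1) + mulF x.2.1 (star r.2.1) + mulF x.2.2 (star r.2.2) = 2 * s := by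
    refine eq_two_mul_of_emb ?_
    rw [← e, qip, Fin.sum_univ_three, emb_add, emb_add, ← mulP_eq, ← mulP_eq, ← mulP_eq,
      emb_mulP x0 (inP_star r0), emb_mulP x1 (inP_star r1), emb_mulP x2 (inP_star r2)]
    simp [embV, emb_star]
  simp only [reflF, hW, halve_two_mul]
  funext t
  show embV x t - ((1 / 2 : ℝ) • qip (embV x) (embV r)) * embV r t = _
  rw [e, half_smul_two_mul]
  fin_cases t <;> simp [embV, emb_sub, ← mulP_eq, emb_mulP, hs, r0, r1, r2]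

theorem inL_reflF {r x : T} (hr : InL r = true) (h4 : qip (embV r) (embV r) = 4) (hx : InL x = true) :
    InL (reflF r x) = true := by
  have hm := qrefl_mem (embV_mem hr) (embV_mem hx)
  rw [embV_reflF hr hx] at hm
  obtain ⟨o, ho, e⟩ := mem_icoLeech_iff.1 hm
  rwa [← embV_injective e]

theorem lineRefl_vec (i : Fin 315) {x : T} (hx : InL x = true) :
    lineRefl i (vec x hx) = vec (reflF (rep i) x) (inL_reflF (inL_rep i.2) (qip_repV i) hx) :=
  Subtype.ext (embV_reflF (inL_rep i.2) hx)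

theorem auto_mulT {f : Equiv.Perm icoLeech} (hf : f ∈ autGroup) {k : ℕ} (hk : k < 120) {t o : T}
    (ht : InL t = true) (ho : InL o = true) (h : f (vec t ht) = vec o ho) :
    f (vec (mulT (unit k) t) (inL_mulT (inP_unit hk) ht)) =
      vec (mulT (unit k) o) (inL_mulT (inP_unit hk) ho) := by
  refine Subtype.ext ?_
  rw [hf.2.1 _ (emb_mem (inP_unit hk)) (vec t ht) _ (embV_mulT (inP_unit hk) ht), h]
  exact (embV_mulT (inP_unit hk) ho).symm

end CfsgLib.Ico
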