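import Cfsg.Agent.Lib.Ico.Bridge
import Mathlib.GroupTheory.GroupAction.ConjAct

/-! The class of the reflections in the Hall–Janko group: 315 elements with centralisers of order 1920. -/

set_option autoImplicit false

namespace CfsgLib.Ico

open Cfsg.Spor Quaternion CfsgLib.Comp

/-- A reflection in the group. -/
noncomputable def reflEl (i : Fin 315) : twoJ2 := ⟨lineRefl i, lineRefl_mem i⟩

/-- The image of a reflection. -/
noncomputable def reflJ (i : Fin 315) : J2 := QuotientGroup.mk (reflEl i)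

theorem key_lineMap (a i : Fin 315) :
    key (rep (lineMap (reflEl a) i)) = key (reflF (rep a) (rep i)) := by
  have hL := inL_reflF (inL_rep a.2) (qip_repV a) (inL_rep i.2)
  obtain ⟨k, hk, j, hj, e⟩ := exists_rep hL (by
    rw [← qip_embV_iff, ← embV_reflF (inL_rep a.2) (inL_rep i.2),
      qip_qrefl (r := embV (rep a)) ((qip_embV_iff _).2 (nsum_rep a.2))]
    exact (qip_embV_iff _).2 (nsum_rep i.2))
  have hmap : lineMap (reflEl a) i = ⟨j, hj⟩ := by
    apply lineRefl_injective
    rw [← lineMap_spec]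
    show lineRefl a * lineRefl i * (lineRefl a)⁻¹ = _
    refine Equiv.ext fun x => Subtype.ext ?_
    have hc := conj_reflPerm (twoJ2_le_autGroup (lineRefl_mem a)) (repV i) (qip_repV i)
    rw [show lineRefl i = reflPerm (repV i) (qip_repV i) from rfl, hc]
    show qrefl (qrefl (embV (rep a)) (embV (rep i))) x = qrefl (embV (rep j)) x
    rw [embV_reflF (inL_rep a.2) (inL_rep i.2), e, qrefl_mulT hk (inL_rep hj)]
  rw [hmap, e, key_mulT hk (inL_rep hj)]

theorem lineMap_central {z : twoJ2} (hz : z ∈ Subgroup.center twoJ2) (i : Fin 315) : lineMap z i = i := by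
  apply lineRefl_injective
  rw [← lineMap_spec]
  have h := congrArg Subtype.val (Subgroup.mem_center_iff.1 hz ⟨lineRefl i, lineRefl_mem i⟩)
  simp only [Subgroup.coe_mul] at h
  rw [← h, mul_inv_cancel_right]

theorem lineMap_of_mk_eq {g h : twoJ2} (e : (QuotientGroup.mk g : J2) = QuotientGroup.mk h) (i : Fin 315) :
    lineMap g i = lineMap h i := by
  have hz : g⁻¹ * h ∈ Subgroup.center twoJ2 := QuotientGroup.eq.1 e
  conv_rhs => rw [show h = g * (g⁻¹ * h) by group, lineMap_mul, lineMap_central hz]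

/-- Separation of the first reflection from the others. -/
def sepB (j : ℕ) : Bool :=
  Nat.beq j 0 || (List.range 315).any fun k =>
    !Nat.beq (key (reflF (rep j) (rep k))) (key (reflF (rep 0) (rep k)))

theorem sep_check : (List.range 315).all sepB = true := by decide +kernel

theorem reflJ_eq_zero {j : Fin 315} (h : reflJ j = reflJ 0) : j = 0 := by
  by_contra hne
  have hs := List.all_eq_true.1 sep_check j (List.mem_range.2 j.2)
  have hne' : (j : ℕ) ≠ 0 := fun e => hne (Fin.ext e)
  simp only [sepB, Bool.or_eq_true, Nat.beq_eq, List.any_eq_true, Bool.not_eq_true', hne', false_or] at hs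
  obtain ⟨k, hk, e⟩ := hs
  have hj := key_lineMap j ⟨k, List.mem_range.1 hk⟩
  have h0 := key_lineMap 0 ⟨k, List.mem_range.1 hk⟩
  rw [lineMap_of_mk_eq h] at hj
  rw [show key (reflF (rep j) (rep k)) = key (reflF (rep 0) (rep k)) from hj.symm.trans h0] at e
  simp at e

theorem reflJ_conj (g : twoJ2) (i : Fin 315) :
    (QuotientGroup.mk g : J2) * reflJ i * (QuotientGroup.mk g)⁻¹ = reflJ (lineMap g i) := by
  have : g * reflEl i * g⁻¹ = reflEl (lineMap g i) := Subtype.ext (lineMap_spec g i)
  rw [reflJ, reflJ, ← this]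
  rfl

theorem exists_lineMap_eq (i j : Fin 315) : ∃ g : twoJ2, lineMap g i = j := by
  obtain ⟨g, hg, e⟩ := reflection_conj (isIcoReflection_lineRefl i) (isIcoReflection_lineRefl j)
  exact ⟨⟨g, hg⟩, lineRefl_injective ((lineMap_spec ⟨g, hg⟩ i).symm.trans e)⟩

theorem reflJ_injective : Function.Injective reflJ := by
  intro i j h
  obtain ⟨g, hg⟩ := exists_lineMap_eq i 0
  have : reflJ (lineMap g j) = reflJ (lineMap g i) := by rw [← reflJ_conj, ← reflJ_conj, h]
  rw [hg] at this
  have h0 := reflJ_eq_zero this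
  exact (Finite.injective_iff_surjective.2 (lineMap_surjective g)) (hg.trans h0.symm)

theorem orbit_reflJ : MulAction.orbit (ConjAct J2) (reflJ 0) = Set.range reflJ := by
  ext x
  constructor
  · rintro ⟨c, rfl⟩
    obtain ⟨g, hg⟩ := QuotientGroup.mk_surjective (ConjAct.ofConjAct c)
    refine ⟨lineMap g 0, ?_⟩
    show reflJ (lineMap g 0) = c • reflJ 0
    rw [ConjAct.smul_def, ← hg, reflJ_conj]
  · rintro ⟨i, rfl⟩
    obtain ⟨g, rfl⟩ := exists_lineMap_eq 0 i
    exact ⟨ConjAct.toConjAct (QuotientGroup.mk g), by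
      show ConjAct.toConjAct (QuotientGroup.mk g : J2) • reflJ 0 = _
      rw [ConjAct.smul_def, ConjAct.ofConjAct_toConjAct, reflJ_conj]⟩

theorem card_centralizer_reflJ : Nat.card (Subgroup.centralizer {reflJ 0}) = 1920 := by
  have hi := MulAction.index_stabilizer (ConjAct J2) (reflJ 0)
  rw [orbit_reflJ, Set.ncard_range_of_injective reflJ_injective, Nat.card_fin] at hi
  have hm := Subgroup.card_mul_index (MulAction.stabilizer (ConjAct J2) (reflJ 0))
  have hc : Nat.card (ConjAct J2) = 604800 := (Nat.card_congr ConjAct.ofConjAct.toEquiv).trans card_J2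
  rw [hi, hc] at hm
  have he : Nat.card (Subgroup.centralizer {reflJ 0}) =
      Nat.card (MulAction.stabilizer (ConjAct J2) (reflJ 0)) := by
    rw [ConjAct.stabilizer_eq_centralizer]
    exact Nat.card_congr (Equiv.subtypeEquiv ConjAct.toConjAct.toEquiv fun _ => Iff.rfl)
  rw [he]
  exact Nat.eq_of_mul_eq_mul_right (by norm_num : 0 < 315) (hm.trans (by norm_num))

theorem exists_conj_reflJ (f : Equiv.Perm icoLeech) (hf : IsIcoReflection f) (hfm : f ∈ twoJ2) :
    ∃ x : J2, x * reflJ 0 * x⁻¹ = QuotientGroup.mk ⟨f, hfm⟩ := by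
  have h : f ∈ Set.range lineRefl := reflSet_eq ▸ (hf : f ∈ {f | IsIcoReflection f})
  obtain ⟨i, rfl⟩ := h
  obtain ⟨g, rfl⟩ := exists_lineMap_eq 0 i
  exact ⟨QuotientGroup.mk g, reflJ_conj g 0⟩

end CfsgLib.Ico
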