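import Cfsg.Agent.Lib.Ico.CentData
import Cfsg.Agent.Lib.Ico.Class
import Cfsg.Agent.Lib.LargeXS.OfCommutators
import Mathlib.GroupTheory.SpecificGroups.Alternating

/-! The centraliser of a reflection on 100 points: an extraspecial group of order 32 extended by degree five. -/

set_option autoImplicit false

namespace CfsgLib.Ico.Cent

open CfsgLib.Comp

/-- The coded centraliser. -/
noncomputable def cent : Subgroup (Equiv.Perm (Fin 100)) := PermCode.span 100 centGens

/-- The action of the centraliser on the five blocks as a code group. -/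
noncomputable def top : Subgroup (Equiv.Perm (Fin 5)) := PermCode.span 5 topGens

/-- The block of a point. -/
def blk (x : Fin 100) : Option (Fin 5) :=
  if h : blkTab.getD x 5 < 5 then some ⟨_, h⟩ else none

theorem blk_surjective : ∀ i : Fin 5, ∃ x : Fin 100, blk x = some i := by decide +kernel

/-- A permutation of points inducing one of blocks. -/
def Rel (g : Equiv.Perm (Fin 100)) (s : Equiv.Perm (Fin 5)) : Prop := ∀ x, blk (g x) = (blk x).map s

theorem rel_unique {g : Equiv.Perm (Fin 100)} {s s' : Equiv.Perm (Fin 5)} (h : Rel g s) (h' : Rel g s') :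
    s = s' := Equiv.ext fun i => by
  obtain ⟨x, hx⟩ := blk_surjective i
  have e := (h x).symm.trans (h' x)
  rw [hx] at e
  exact Option.some.inj e

theorem rel_one : Rel 1 1 := fun x => by simp

theorem rel_mul {g g' : Equiv.Perm (Fin 100)} {s s' : Equiv.Perm (Fin 5)} (h : Rel g s) (h' : Rel g' s') :
    Rel (g * g') (s * s') := fun x => by
  rw [Equiv.Perm.mul_apply, h, h', Option.map_map]
  rfl

theorem rel_inv {g : Equiv.Perm (Fin 100)} {s : Equiv.Perm (Fin 5)} (h : Rel g s) : Rel g⁻¹ s⁻¹ := fun x => by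
  have e := h (g⁻¹ x)
  rw [Equiv.Perm.coe_inv, Equiv.apply_symm_apply] at e
  rw [e, Option.map_map, Equiv.Perm.coe_inv, Equiv.Perm.coe_inv, Equiv.symm_comp_self, Option.map_id, id_eq]

/-- Check that a code of points induces a code of blocks. -/
def pairB (c d : ℕ) : Bool :=
  (List.range 100).all fun x =>
    Nat.beq (blkTab.getD (PermCode.get c x) 5)
      (bif Nat.blt (blkTab.getD x 5) 5 then PermCode.get d (blkTab.getD x 5) else 5)

theorem blk_eq_of {v : ℕ} {x : Fin 100} (h : blkTab.getD x 5 = v) :
    blk x = if h' : v < 5 then some ⟨v, h'⟩ else none := by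
  subst h; rfl

theorem rel_of_pairB {c d : ℕ} (hc : PermCode.okb 100 c = true) (hd : PermCode.okb 5 d = true)
    (h : pairB c d = true) : Rel (PermCode.val 100 c) (PermCode.val 5 d) := fun x => by
  have e := List.all_eq_true.1 h x (List.mem_range.2 x.2)
  rw [Nat.beq_eq] at e
  have hv : ((PermCode.val 100 c x : Fin 100) : ℕ) = PermCode.get c x := PermCode.val_apply (PermCode.ok_of_okb hc) x
  rw [← hv] at e
  rw [blk_eq_of e]
  by_cases hx : blkTab.getD x 5 < 5
  · have hb : blk x = some ⟨_, hx⟩ := dif_pos hx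
    have hlt := (PermCode.ok_of_okb hd).1 _ hx
    rw [hb, Option.map_some]
    simp only [show Nat.blt (blkTab.getD x 5) 5 = true from Nat.blt_eq.symm ▸ hx, cond_true, dif_pos hlt]
    exact congrArg some (Fin.ext (PermCode.val_apply (PermCode.ok_of_okb hd) ⟨_, hx⟩).symm)
  · have hb : blk x = none := dif_neg hx
    have : Nat.blt (blkTab.getD x 5) 5 = false := Bool.eq_false_iff.2 (by rw [Ne, Nat.blt_eq]; exact hx)
    rw [hb, Option.map_none]
    simp only [this, cond_false]
    exact dif_neg (by norm_num)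

theorem gens_check : (centGens.zip topGens).all (fun p =>
    PermCode.okb 100 p.1 && PermCode.okb 5 p.2 && pairB p.1 p.2) = true ∧
    centGens.length = 2 ∧ topGens.length = 2 := by
  decide +kernel

theorem rel_gen (n : ℕ) (h : n < centGens.length) (h' : n < topGens.length) :
    Rel (PermCode.val 100 centGens[n]) (PermCode.val 5 topGens[n]) := by
  have hz : n < (centGens.zip topGens).length := by rw [List.length_zip]; omega
  have hm : (centGens[n], topGens[n]) ∈ centGens.zip topGens := by
    have := List.getElem_mem hz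
    rwa [List.getElem_zip] at this
  have hh := List.all_eq_true.1 gens_check.1 _ hm
  simp only [Bool.and_eq_true] at hh
  exact rel_of_pairB hh.1.1 hh.1.2 hh.2

theorem exists_rel {g : Equiv.Perm (Fin 100)} (hg : g ∈ cent) : ∃ s ∈ top, Rel g s := by
  induction hg using Subgroup.closure_induction with
  | mem g hg =>
    obtain ⟨c, hc, rfl⟩ := hg
    obtain ⟨n, hn, rfl⟩ := List.mem_iff_getElem.1 hc
    have hn' : n < topGens.length := by rw [gens_check.2.2]; rw [gens_check.2.1] at hn; exact hn
    exact ⟨_, PermCode.one_le 5 topGens (List.getElem_mem hn'), rel_gen n hn hn'⟩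
  | one => exact ⟨1, one_mem _, rel_one⟩
  | mul a b _ _ ha hb =>
    obtain ⟨s, hs, hs'⟩ := ha
    obtain ⟨t, ht, ht'⟩ := hb
    exact ⟨s * t, mul_mem hs ht, rel_mul hs' ht'⟩
  | inv a _ ha =>
    obtain ⟨s, hs, hs'⟩ := ha
    exact ⟨s⁻¹, inv_mem hs, rel_inv hs'⟩

/-- The action of a group on the five blocks. -/
noncomputable def blockHomOf (K : Subgroup (Equiv.Perm (Fin 100))) (h : ∀ g ∈ K, ∃ s, Rel g s) :
    K →* Equiv.Perm (Fin 5) where
  toFun g := (h g g.2).choose
  map_one' := rel_unique (h _ (1 : K).2).choose_spec rel_one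
  map_mul' a b := rel_unique (h _ (a * b).2).choose_spec (rel_mul (h a a.2).choose_spec (h b b.2).choose_spec)

/-- The action of the centraliser on the five blocks. -/
noncomputable def blockHom : cent →* Equiv.Perm (Fin 5) :=
  blockHomOf cent fun _ hg => (exists_rel hg).imp fun _ h => h.2

theorem blockHom_eq (g : cent) {s : Equiv.Perm (Fin 5)} (h : Rel g s) : blockHom g = s :=
  rel_unique (Exists.choose_spec ((exists_rel g.2).imp fun _ h => h.2)) h

theorem range_eq_top : blockHom.range = top := by
  refine le_antisymm ?_ ((Subgroup.closure_le _).2 ?_)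
  · rintro _ ⟨g, rfl⟩
    obtain ⟨s, hs, hr⟩ := exists_rel g.2
    rw [blockHom_eq g hr]
    exact hs
  · rintro _ ⟨d, hd, rfl⟩
    obtain ⟨n, hn, rfl⟩ := List.mem_iff_getElem.1 hd
    have hn' : n < centGens.length := by rw [gens_check.2.1]; rw [gens_check.2.2] at hn; exact hn
    exact ⟨⟨_, PermCode.one_le 100 centGens (List.getElem_mem hn')⟩, blockHom_eq _ (rel_gen n hn' hn)⟩

theorem top_eq_alternating : top = alternatingGroup (Fin 5) := by
  have h60 : Nat.card (alternatingGroup (Fin 5)) = 60 := by
    rw [nat_card_alternatingGroup, Nat.card_fin]; rfl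
  refine Subgroup.eq_of_le_of_card_ge ((Subgroup.closure_le _).2 ?_) (by rw [h60]; exact top_card.ge)
  rintro _ ⟨d, hd, rfl⟩
  have hs : ∀ d ∈ topGens, PermCode.okb 5 d = true := by decide +kernel
  have h := hs d hd
  have key : ∀ d ∈ topGens, ∀ s : Equiv.Perm (Fin 5),
      (∀ i : Fin 5, (s i : ℕ) = PermCode.get d i) → Equiv.Perm.sign s = 1 := by
    decide +kernel
  rw [SetLike.mem_coe, Equiv.Perm.mem_alternatingGroup]
  exact key d hd _ fun i => PermCode.val_apply (PermCode.ok_of_okb h) i

theorem card_ker : Nat.card blockHom.ker = 32 := by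
  have hi := Subgroup.index_ker blockHom
  rw [range_eq_top, show Nat.card top = 60 from top_card] at hi
  have hm := blockHom.ker.card_mul_index
  rw [hi, show Nat.card cent = 1920 from cent_card] at hm
  omega

/-- Check of a listed element of the kernel. -/
noncomputable def memB (c : ℕ) : Bool :=
  PermCode.okb 100 c && PermCode.sift 100 centChain c && pairB c (PermCode.one 5) &&
    Nat.beq (PermCode.build 100 fun i => PermCode.get c i) c

theorem q_check : (qTab.all memB && Nat.beq qTab.length 32 && incB 0 qTab) = true := by decide +kernel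

theorem q_mem {c : ℕ} (hc : c ∈ qTab) : PermCode.Ok 100 c ∧
    ∃ h : PermCode.val 100 c ∈ cent, (⟨_, h⟩ : cent) ∈ blockHom.ker := by
  have h := q_check
  simp only [Bool.and_eq_true, List.all_eq_true, memB] at h
  obtain ⟨⟨⟨h1, h2⟩, h3⟩, -⟩ := h.1.1 c hc
  have hm := PermCode.mem_span cent_check h1 h2
  have hone : PermCode.okb 5 (PermCode.one 5) = true := by decide +kernel
  have hr := rel_of_pairB h1 hone h3
  rw [PermCode.val_one (by norm_num)] at hr
  exact ⟨PermCode.ok_of_okb h1, hm, MonoidHom.mem_ker.2 (blockHom_eq _ hr)⟩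

theorem build_congr : ∀ {k : ℕ} {f g : ℕ → ℕ}, (∀ i < k, f i = g i) → PermCode.build k f = PermCode.build k g
  | 0, _, _, _ => rfl
  | k + 1, f, g, h => by
    rw [PermCode.build_succ, PermCode.build_succ, build_congr fun i hi => h i (by omega), h k (by omega)]

theorem val_q_inj {c d : ℕ} (hc : c ∈ qTab) (hd : d ∈ qTab)
    (h : PermCode.val 100 c = PermCode.val 100 d) : c = d := by
  have hh := q_check
  simp only [Bool.and_eq_true, List.all_eq_true, memB, Nat.beq_eq] at hh
  rw [← (hh.1.1 c hc).2, ← (hh.1.1 d hd).2]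
  refine build_congr fun i hi => ?_
  rw [← PermCode.val_apply (q_mem hc).1 ⟨i, hi⟩, ← PermCode.val_apply (q_mem hd).1 ⟨i, hi⟩, h]

theorem exists_code (x : blockHom.ker) : ∃ c ∈ qTab, ((x : cent) : Equiv.Perm (Fin 100)) = PermCode.val 100 c := by
  have hh := q_check
  simp only [Bool.and_eq_true, Nat.beq_eq] at hh
  let f : Fin qTab.length → blockHom.ker := fun n =>
    ⟨⟨_, (q_mem (List.getElem_mem n.2)).2.choose⟩, (q_mem (List.getElem_mem n.2)).2.choose_spec⟩
  have hnd : qTab.Nodup := (incB_spec hh.2).2.imp fun hxy => Nat.ne_of_lt hxy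
  have hinj : Function.Injective f := fun m n e =>
    Fin.ext ((List.Nodup.getElem_inj_iff hnd).1 (val_q_inj (List.getElem_mem m.2) (List.getElem_mem n.2)
      (congrArg (fun y : blockHom.ker => ((y : cent) : Equiv.Perm (Fin 100))) e)))
  have hb : Function.Bijective f := (Nat.bijective_iff_injective_and_card f).2
    ⟨hinj, by rw [Nat.card_fin, hh.1.2, card_ker]⟩
  obtain ⟨n, rfl⟩ := hb.2 x
  exact ⟨_, List.getElem_mem n.2, rfl⟩

/-- The relations of the kernel. -/
noncomputable def relB : Bool :=
  qTab.all fun a =>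
    (Nat.beq (PermCode.mul 100 a a) (PermCode.one 100) || Nat.beq (PermCode.mul 100 a a) centCode) &&
    (qTab.all fun b => Nat.beq (PermCode.mul 100 a b) (PermCode.mul 100 b a) ||
      Nat.beq (PermCode.mul 100 a b) (PermCode.mul 100 centCode (PermCode.mul 100 b a))) &&
    (Nat.beq a (PermCode.one 100) || Nat.beq a centCode ||
      qTab.any fun b => !Nat.beq (PermCode.mul 100 a b) (PermCode.mul 100 b a)) &&
    Nat.beq (PermCode.mul 100 a centCode) (PermCode.mul 100 centCode a) &&
    Nat.beq (PermCode.build 100 fun i => PermCode.get (PermCode.mul 100 a a) i) (PermCode.mul 100 a a)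

theorem rel_check : relB = true := by decide +kernel

theorem code_mem : (qTab.any fun a => Nat.beq a centCode) = true ∧
    (qTab.any fun a => Nat.beq a (PermCode.one 100)) = true ∧
    Nat.beq centCode (PermCode.one 100) = false := by
  decide +kernel

theorem isExtraspecial_ker : Cfsg.IsExtraspecial 2 blockHom.ker := by
  have hn : (100 : ℕ) ≤ 256 := by norm_num
  obtain ⟨hcq, h1q, hc1⟩ := code_mem
  simp only [List.any_eq_true, Nat.beq_eq, exists_eq_right] at hcq h1q
  obtain ⟨hok, hcm, hck⟩ := q_mem hcq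
  set z : blockHom.ker := ⟨⟨_, hcm⟩, hck⟩
  have hrel := rel_check
  simp only [relB, Bool.and_eq_true, List.all_eq_true, Bool.or_eq_true, Nat.beq_eq, List.any_eq_true,
    Bool.not_eq_true'] at hrel
  have hval : ∀ {a b : ℕ}, a ∈ qTab → b ∈ qTab →
      PermCode.val 100 (PermCode.mul 100 a b) = PermCode.val 100 a * PermCode.val 100 b := fun ha hb =>
    PermCode.val_mul hn (q_mem ha).1 (q_mem hb).1
  have hv1 : PermCode.val 100 (PermCode.one 100) = 1 := PermCode.val_one hn
  refine CfsgLib.LargeXS.isExtraspecial_of (IsPGroup.of_card (n := 5) (by rw [card_ker]; norm_num))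
    (c := z) ?_ ?_ ?_ ?_ ?_ ?_
  · intro e
    have e' : PermCode.val 100 centCode = PermCode.val 100 (PermCode.one 100) :=
      (congrArg (fun y : blockHom.ker => ((y : cent) : Equiv.Perm (Fin 100))) e).trans hv1.symm
    rw [val_q_inj hcq h1q e'] at hc1
    simp at hc1
  · intro x y
    obtain ⟨a, ha, ea⟩ := exists_code x
    obtain ⟨b, hb, eb⟩ := exists_code y
    rcases (hrel a ha).1.1.1.2 b hb with h | h
    · left
      rw [mul_inv_eq_one, mul_inv_eq_iff_eq_mul]
      refine Subtype.ext (Subtype.ext ?_)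
      show ((x : cent) : Equiv.Perm (Fin 100)) * ((y : cent) : Equiv.Perm (Fin 100)) = _
      rw [ea, eb, ← hval ha hb, h, hval hb ha, ← ea, ← eb]
      rfl
    · right
      rw [mul_inv_eq_iff_eq_mul, mul_inv_eq_iff_eq_mul, mul_assoc]
      refine Subtype.ext (Subtype.ext ?_)
      show ((x : cent) : Equiv.Perm (Fin 100)) * ((y : cent) : Equiv.Perm (Fin 100)) = _
      rw [ea, eb, ← hval ha hb, h, PermCode.val_mul hn hok (PermCode.ok_mul hn (q_mem hb).1 (q_mem ha).1),
        hval hb ha, ← ea, ← eb]
      rfl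
  · intro x
    obtain ⟨a, ha, ea⟩ := exists_code x
    rcases (hrel a ha).1.1.1.1 with h | h
    · left
      refine Subtype.ext (Subtype.ext ?_)
      show ((x : cent) : Equiv.Perm (Fin 100)) * ((x : cent) : Equiv.Perm (Fin 100)) = _
      rw [ea, ← hval ha ha, h, hv1]
      rfl
    · right
      refine Subtype.ext (Subtype.ext ?_)
      show ((x : cent) : Equiv.Perm (Fin 100)) * ((x : cent) : Equiv.Perm (Fin 100)) = _
      rw [ea, ← hval ha ha, h]
  · intro x hx
    obtain ⟨a, ha, ea⟩ := exists_code x
    rcases (hrel a ha).1.1.2 with (h | h) | ⟨b, hb, h⟩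
    · left
      exact Subtype.ext (Subtype.ext (ea.trans (by rw [h, hv1]; rfl)))
    · right
      exact Subtype.ext (Subtype.ext (ea.trans (by rw [h])))
    · exfalso
      obtain ⟨hm, hk⟩ := (q_mem hb).2
      have e := congrArg (fun y : blockHom.ker => ((y : cent) : Equiv.Perm (Fin 100))) (hx ⟨⟨_, hm⟩, hk⟩)
      have e' : PermCode.val 100 b * PermCode.val 100 a = PermCode.val 100 a * PermCode.val 100 b := by
        rw [← ea]; exact e
      have hbuild : ∀ {p q : ℕ}, PermCode.Ok 100 p → PermCode.Ok 100 q →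
          PermCode.val 100 p = PermCode.val 100 q → ∀ i < 100, PermCode.get p i = PermCode.get q i :=
        fun hp hq hpq i hi => by
          rw [← PermCode.val_apply hp ⟨i, hi⟩, ← PermCode.val_apply hq ⟨i, hi⟩, hpq]
      refine Bool.eq_false_iff.1 h (Nat.beq_eq.mpr ?_)
      rw [PermCode.mul_eq_build, PermCode.mul_eq_build]
      refine build_congr fun i hi => ?_
      have hab := PermCode.ok_mul hn (q_mem ha).1 (q_mem hb).1
      have hba := PermCode.ok_mul hn (q_mem hb).1 (q_mem ha).1
      rw [← PermCode.get_mul hn (q_mem ha).1 (q_mem hb).1 hi, ← PermCode.get_mul hn (q_mem hb).1 (q_mem ha).1 hi]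
      exact hbuild hab hba (by rw [hval ha hb, hval hb ha, e']) i hi
  · intro x
    obtain ⟨a, ha, ea⟩ := exists_code x
    refine Subtype.ext (Subtype.ext ?_)
    show ((x : cent) : Equiv.Perm (Fin 100)) * PermCode.val 100 centCode = PermCode.val 100 centCode * _
    rw [ea, ← hval ha hcq, (hrel a ha).1.2, hval hcq ha]
  · by_contra hne
    simp only [not_exists, not_and, not_not] at hne
    have hsub : (Set.univ : Set blockHom.ker) ⊆ {1, z} := fun x _ => (em (x = 1)).imp id (hne x)
    have := Set.ncard_le_ncard hsub (Set.toFinite _)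
    rw [Set.ncard_univ, card_ker] at this
    have h2 : ({1, z} : Set blockHom.ker).ncard ≤ 2 := (Set.ncard_insert_le _ _).trans (by simp)
    omega

theorem ok_cent_gens : centGens.all (fun s => PermCode.okb 100 s && PermCode.sift 100 J2Perm.j2Chain s &&
    Nat.beq (PermCode.mul 100 s centCode) (PermCode.mul 100 centCode s)) = true ∧
    PermCode.okb 100 centCode = true := by
  decide +kernel

theorem cent_le : cent ≤ J2Perm.J2sub := by
  refine (Subgroup.closure_le _).2 ?_
  rintro _ ⟨s, hs, rfl⟩
  have h := List.all_eq_true.1 ok_cent_gens.1 s hs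
  simp only [Bool.and_eq_true] at h
  exact PermCode.mem_span J2Perm.j2_check h.1.1 h.1.2

theorem cent_comm : cent ≤ Subgroup.centralizer {PermCode.val 100 centCode} := by
  refine (Subgroup.closure_le _).2 ?_
  rintro _ ⟨s, hs, rfl⟩
  have h := List.all_eq_true.1 ok_cent_gens.1 s hs
  simp only [Bool.and_eq_true, Nat.beq_eq] at h
  have hn : (100 : ℕ) ≤ 256 := by norm_num
  have hs' := PermCode.ok_of_okb h.1.1
  have hc := PermCode.ok_of_okb ok_cent_gens.2
  intro y hy
  rw [Set.mem_singleton_iff.1 hy, ← PermCode.val_mul hn hc hs', ← h.2, PermCode.val_mul hn hs' hc]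

theorem first_move_check : (moveTab.getD 0 (0, 0, 0)).2.2 = centCode ∧ (moveTab.getD 0 (0, 0, 0)).1 = 0 ∧
    0 < moveTab.length := by
  decide +kernel

theorem bridge_reflJ : ((bridge (reflJ 0) : J2Perm.J2sub) : Equiv.Perm (Fin 100)) = PermCode.val 100 centCode := by
  obtain ⟨h1, h2, h3⟩ := first_move_check
  rw [List.getD_eq_getElem (hn := h3)] at h1 h2
  have hm : moveTab[0] ∈ moveTab := List.getElem_mem h3
  have e : reflEl 0 = moveEl hm := Subtype.ext (congrArg lineRefl (Fin.ext h2.symm))
  rw [reflJ, bridge_mk, e, toPerm100_move hm, h1]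

end CfsgLib.Ico.Cent
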