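import Cfsg.Prelude.Def_Spor_J2
import Mathlib.Algebra.QuadraticAlgebra.Basic

/-! Exact doubled coordinates for quaternions over the golden ring. -/

set_option autoImplicit false

namespace CfsgLib.Ico

open Quaternion

/-- The golden ring. -/
abbrev Zt : Type := QuadraticAlgebra ℤ 1 1

/-- Doubled coordinates. -/
abbrev Q : Type := ℍ[Zt]

instance decEqQ : DecidableEq Q := fun a b =>
  decidable_of_iff (a.re = b.re ∧ a.imI = b.imI ∧ a.imJ = b.imJ ∧ a.imK = b.imK)
    ⟨fun ⟨h1, h2, h3, h4⟩ => QuaternionAlgebra.ext h1 h2 h3 h4, fun h => by subst h; simp⟩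

theorem tau_sq : Cfsg.Spor.tau * Cfsg.Spor.tau = (1 : ℤ) • (1 : ℝ) + (1 : ℤ) • Cfsg.Spor.tau := by
  have h := Real.mul_self_sqrt (show (0 : ℝ) ≤ 5 by norm_num)
  simp only [Cfsg.Spor.tau, one_smul]
  linarith

/-- The real embedding of the golden ring. -/
noncomputable def φ : Zt →+* ℝ := (QuadraticAlgebra.lift ⟨Cfsg.Spor.tau, tau_sq⟩).toRingHom

theorem φ_apply (z : Zt) : φ z = (z.re : ℝ) + (z.im : ℝ) * Cfsg.Spor.tau := by
  simp [φ, QuadraticAlgebra.lift]

theorem φ_eq_zero {z : Zt} (h : φ z = 0) : z = 0 := by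
  have him : z.im = 0 := by
    by_contra him
    have hirr : Irrational (Real.sqrt ((5 : ℕ) : ℝ)) := Nat.Prime.irrational_sqrt (by norm_num)
    refine hirr ⟨((-(2 * z.re + z.im) : ℤ) : ℚ) / ((z.im : ℤ) : ℚ), ?_⟩
    rw [φ_apply, Cfsg.Spor.tau] at h
    have hne : (z.im : ℝ) ≠ 0 := by exact_mod_cast him
    push_cast
    rw [div_eq_iff hne]
    linear_combination (-2 : ℝ) * h
  have hre : z.re = 0 := by
    rw [φ_apply, him] at h
    simpa using h
  exact QuadraticAlgebra.ext hre him

theorem φ_injective : Function.Injective φ :=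
  (injective_iff_map_eq_zero φ).2 fun _ => φ_eq_zero

/-- Componentwise embedding of quaternions. -/
noncomputable def φfun (q : Q) : ℍ[ℝ] := ⟨φ q.re, φ q.imI, φ q.imJ, φ q.imK⟩

@[simp] theorem re_φfun (q : Q) : (φfun q).re = φ q.re := rfl
@[simp] theorem imI_φfun (q : Q) : (φfun q).imI = φ q.imI := rfl
@[simp] theorem imJ_φfun (q : Q) : (φfun q).imJ = φ q.imJ := rfl
@[simp] theorem imK_φfun (q : Q) : (φfun q).imK = φ q.imK := rfl

/-- The embedding of quaternions. -/
noncomputable def φq : Q →+* ℍ[ℝ] where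
  toFun := φfun
  map_one' := by ext <;> simp
  map_mul' a b := by ext <;> simp
  map_zero' := by ext <;> simp
  map_add' a b := by ext <;> simp

@[simp] theorem re_φq (q : Q) : (φq q).re = φ q.re := rfl
@[simp] theorem imI_φq (q : Q) : (φq q).imI = φ q.imI := rfl
@[simp] theorem imJ_φq (q : Q) : (φq q).imJ = φ q.imJ := rfl
@[simp] theorem imK_φq (q : Q) : (φq q).imK = φ q.imK := rfl

theorem φq_star (q : Q) : φq (star q) = star (φq q) := by ext <;> simp

theorem φq_injective : Function.Injective φq := fun a b h =>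
  QuaternionAlgebra.ext (φ_injective (congrArg QuaternionAlgebra.re h))
    (φ_injective (congrArg QuaternionAlgebra.imI h)) (φ_injective (congrArg QuaternionAlgebra.imJ h))
    (φ_injective (congrArg QuaternionAlgebra.imK h))

/-- The quaternion with given doubled coordinates. -/
noncomputable def emb (q : Q) : ℍ[ℝ] := (1 / 2 : ℝ) • φq q

theorem emb_injective : Function.Injective emb := fun a b h =>
  φq_injective (smul_right_injective ℍ[ℝ] (show (1 / 2 : ℝ) ≠ 0 by norm_num) h)

theorem emb_add (a b : Q) : emb (a + b) = emb a + emb b := by rw [emb, map_add, smul_add]; rfl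

theorem emb_sub (a b : Q) : emb (a - b) = emb a - emb b := by rw [emb, map_sub, smul_sub]; rfl

theorem emb_neg (a : Q) : emb (-a) = -emb a := by rw [emb, map_neg, smul_neg]; rfl

theorem emb_zero : emb 0 = 0 := by rw [emb, map_zero, smul_zero]

theorem emb_star (a : Q) : emb (star a) = star (emb a) := by
  ext <;> simp [emb, φq_star]

theorem emb_two : emb 2 = 1 := by
  rw [emb, map_ofNat, ← one_add_one_eq_two (R := ℍ[ℝ]), smul_add, ← add_smul]
  norm_num

theorem emb_mul {a b r : Q} (h : a * b = 2 * r) : emb a * emb b = emb r := by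
  have h' := congrArg φq h
  rw [map_mul, map_mul, map_ofNat] at h'
  rw [emb, emb, emb, smul_mul_smul_comm, h', two_mul, ← two_smul ℝ, smul_smul]
  norm_num

theorem two_mul_injective {a b : Q} (h : 2 * a = 2 * b) : a = b := by
  refine φq_injective ?_
  have h' := congrArg φq h
  rw [map_mul, map_mul, map_ofNat] at h'
  refine mul_left_cancel₀ (fun h0 => ?_) h'
  have h2 := congrArg QuaternionAlgebra.re h0
  rw [← one_add_one_eq_two] at h2
  simp at h2

end CfsgLib.Ico
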