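import Cfsg.Agent.Lib.Ico.Triples

/-! Faster forms of multiplication and lattice membership, for kernel checks. -/

set_option autoImplicit false

namespace CfsgLib.Ico

open Quaternion CfsgLib

/-- Multiplication of doubled quaternions, componentwise. -/
def mulF (x y : Q) : Q :=
  ⟨⟨((x.re.re * y.re.re + x.re.im * y.re.im) - (x.imI.re * y.imI.re + x.imI.im * y.imI.im) - (x.imJ.re * y.imJ.re + x.imJ.im * y.imJ.im) - (x.imK.re * y.imK.re + x.imK.im * y.imK.im)) / 2,
    ((x.re.re * y.re.im + x.re.im * y.re.re + x.re.im * y.re.im) - (x.imI.re * y.imI.im + x.imI.im * y.imI.re + x.imI.im * y.imI.im) - (x.imJ.re * y.imJ.im + x.imJ.im * y.imJ.re + x.imJ.im * y.imJ.im) - (x.imK.re * y.imK.im + x.imK.im * y.imK.re + x.imK.im * y.imK.im)) / 2⟩,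
  ⟨((x.re.re * y.imI.re + x.re.im * y.imI.im) + (x.imI.re * y.re.re + x.imI.im * y.re.im) + (x.imJ.re * y.imK.re + x.imJ.im * y.imK.im) - (x.imK.re * y.imJ.re + x.imK.im * y.imJ.im)) / 2,
    ((x.re.re * y.imI.im + x.re.im * y.imI.re + x.re.im * y.imI.im) + (x.imI.re * y.re.im + x.imI.im * y.re.re + x.imI.im * y.re.im) + (x.imJ.re * y.imK.im + x.imJ.im * y.imK.re + x.imJ.im * y.imK.im) - (x.imK.re * y.imJ.im + x.imK.im * y.imJ.re + x.imK.im * y.imJ.im)) / 2⟩,
  ⟨((x.re.re * y.imJ.re + x.re.im * y.imJ.im) - (x.imI.re * y.imK.re + x.imI.im * y.imK.im) + (x.imJ.re * y.re.re + x.imJ.im * y.re.im) + (x.imK.re * y.imI.re + x.imK.im * y.imI.im)) / 2,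
    ((x.re.re * y.imJ.im + x.re.im * y.imJ.re + x.re.im * y.imJ.im) - (x.imI.re * y.imK.im + x.imI.im * y.imK.re + x.imI.im * y.imK.im) + (x.imJ.re * y.re.im + x.imJ.im * y.re.re + x.imJ.im * y.re.im) + (x.imK.re * y.imI.im + x.imK.im * y.imI.re + x.imK.im * y.imI.im)) / 2⟩,
  ⟨((x.re.re * y.imK.re + x.re.im * y.imK.im) + (x.imI.re * y.imJ.re + x.imI.im * y.imJ.im) - (x.imJ.re * y.imI.re + x.imJ.im * y.imI.im) + (x.imK.re * y.re.re + x.imK.im * y.re.im)) / 2,
    ((x.re.re * y.imK.im + x.re.im * y.imK.re + x.re.im * y.imK.im) + (x.imI.re * y.imJ.im + x.imI.im * y.imJ.re + x.imI.im * y.imJ.im) - (x.imJ.re * y.imI.im + x.imJ.im * y.imI.re + x.imJ.im * y.imI.im) + (x.imK.re * y.re.im + x.imK.im * y.re.re + x.imK.im * y.re.im)) / 2⟩⟩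

theorem mulP_eq (x y : Q) : mulP x y = mulF x y := by
  refine QuaternionAlgebra.ext (QuadraticAlgebra.ext ?_ ?_) (QuadraticAlgebra.ext ?_ ?_)
    (QuadraticAlgebra.ext ?_ ?_) (QuadraticAlgebra.ext ?_ ?_) <;>
  · simp only [mulP, halve, mulF]
    congr 1
    simp only [re_mul, imI_mul, imJ_mul, imK_mul, QuadraticAlgebra.re_add, QuadraticAlgebra.im_add,
      QuadraticAlgebra.re_sub, QuadraticAlgebra.im_sub, QuadraticAlgebra.re_mul, QuadraticAlgebra.im_mul]
    ring

/-- Residues in the first ideal. -/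
def tabH : ℕ := 2650270610338043843672499727134292303864358539180193760678605397765914625

/-- Residues in the second ideal. -/
def tabHb : ℕ := 110549262131403477139102843351304492056515666199067637131886234016169985

theorem tab_checks :
    ((List.range 256).all fun m => inIdeal genH (maskVec m) == Nat.testBit tabH m &&
      inIdeal (star genH) (maskVec m) == Nat.testBit tabHb m) = true := by
  decide +kernel

theorem inIdeal_eq_mask {g x : Q} (hg : InP g = true) (hx : InP x = true) :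
    inIdeal g x = inIdeal g (maskVec (maskQ x)) := by
  obtain ⟨p, hp, e⟩ := exists_maskQ hx
  rw [Bool.eq_iff_iff]
  constructor <;> intro h
  · have := inIdeal_add h (inIdeal_neg (inIdeal_two_mul hg hp))
    conv at this => arg 1; arg 2; arg 1; rw [e]
    rwa [add_assoc, add_neg_cancel, add_zero] at this
  · rw [e]; exact inIdeal_add h (inIdeal_two_mul hg hp)

/-- Lattice membership from residues. -/
def inLF (t : T) : Bool :=
  InP t.1 && InP t.2.1 && InP t.2.2 && tabH.testBit (maskQ (t.1 - t.2.1)) &&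
    tabH.testBit (maskQ (t.2.1 - t.2.2)) && tabHb.testBit (maskQ (t.1 + t.2.1 + t.2.2))

theorem inL_eq (t : T) : InL t = inLF t := by
  have h := tab_checks
  simp only [List.all_eq_true, List.mem_range, Bool.and_eq_true, beq_iff_eq] at h
  by_cases hp : InP t.1 = true ∧ InP t.2.1 = true ∧ InP t.2.2 = true
  · obtain ⟨h0, h1, h2⟩ := hp
    simp only [InL, inLF, inIdeal_eq_mask idealGen_genH.1.1 (inP_sub h0 h1),
      inIdeal_eq_mask idealGen_genH.1.1 (inP_sub h1 h2),
      inIdeal_eq_mask idealGen_genH.2.1 (inP_add (inP_add h0 h1) h2),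
      (h _ (Golay.bitsOf_lt _ 8)).1, (h _ (Golay.bitsOf_lt _ 8)).2, maskQ]
  · simp only [InL, inLF]
    revert hp
    cases InP t.1 <;> cases InP t.2.1 <;> cases InP t.2.2 <;> simp

/-- Left multiplication of a vector, componentwise form. -/
def mulTF (u : Q) (t : T) : T := (mulF u t.1, mulF u t.2.1, mulF u t.2.2)

theorem mulT_eq (u : Q) (t : T) : mulT u t = mulTF u t := by simp only [mulT, mulTF, mulP_eq]

end CfsgLib.Ico
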