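import Cfsg.Agent.Lib.Ico.Triples

/-! A frame of the icosian lattice matching the coordinates of the Leech lattice, and preimages of
the standard spanning vectors. -/

set_option autoImplicit false
set_option maxRecDepth 8000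

namespace CfsgLib.Ico

/-- The frame, indexed by bit position. -/
def frameTab : List (Q × Q × Q) :=
  [
  (⟨⟨-6, 2⟩, ⟨-2, 2⟩, ⟨-2, 2⟩, ⟨-2, 2⟩⟩, ⟨⟨0, 0⟩, ⟨0, 0⟩, ⟨0, 0⟩, ⟨0, 0⟩⟩, ⟨⟨0, 0⟩, ⟨0, 0⟩, ⟨0, 0⟩, ⟨0, 0⟩⟩),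
  (⟨⟨-2, -2⟩, ⟨2, -2⟩, ⟨2, -2⟩, ⟨2, -2⟩⟩, ⟨⟨0, 0⟩, ⟨0, 0⟩, ⟨0, 0⟩, ⟨0, 0⟩⟩, ⟨⟨0, 0⟩, ⟨0, 0⟩, ⟨0, 0⟩, ⟨0, 0⟩⟩),
  (⟨⟨-2, 2⟩, ⟨-2, -2⟩, ⟨2, -2⟩, ⟨-2, 2⟩⟩, ⟨⟨0, 0⟩, ⟨0, 0⟩, ⟨0, 0⟩, ⟨0, 0⟩⟩, ⟨⟨0, 0⟩, ⟨0, 0⟩, ⟨0, 0⟩, ⟨0, 0⟩⟩),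
  (⟨⟨-2, 2⟩, ⟨-2, 2⟩, ⟨-2, -2⟩, ⟨2, -2⟩⟩, ⟨⟨0, 0⟩, ⟨0, 0⟩, ⟨0, 0⟩, ⟨0, 0⟩⟩, ⟨⟨0, 0⟩, ⟨0, 0⟩, ⟨0, 0⟩, ⟨0, 0⟩⟩),
  (⟨⟨-2, 2⟩, ⟨-2, 2⟩, ⟨6, -2⟩, ⟨2, -2⟩⟩, ⟨⟨0, 0⟩, ⟨0, 0⟩, ⟨0, 0⟩, ⟨0, 0⟩⟩, ⟨⟨0, 0⟩, ⟨0, 0⟩, ⟨0, 0⟩, ⟨0, 0⟩⟩),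
  (⟨⟨0, 0⟩, ⟨0, 0⟩, ⟨0, 0⟩, ⟨0, 0⟩⟩, ⟨⟨-6, 2⟩, ⟨-2, 2⟩, ⟨-2, 2⟩, ⟨-2, 2⟩⟩, ⟨⟨0, 0⟩, ⟨0, 0⟩, ⟨0, 0⟩, ⟨0, 0⟩⟩),
  (⟨⟨0, 0⟩, ⟨0, 0⟩, ⟨0, 0⟩, ⟨0, 0⟩⟩, ⟨⟨-2, -2⟩, ⟨2, -2⟩, ⟨2, -2⟩, ⟨2, -2⟩⟩, ⟨⟨0, 0⟩, ⟨0, 0⟩, ⟨0, 0⟩, ⟨0, 0⟩⟩),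
  (⟨⟨-2, 2⟩, ⟨2, -2⟩, ⟨-2, 2⟩, ⟨-2, -2⟩⟩, ⟨⟨0, 0⟩, ⟨0, 0⟩, ⟨0, 0⟩, ⟨0, 0⟩⟩, ⟨⟨0, 0⟩, ⟨0, 0⟩, ⟨0, 0⟩, ⟨0, 0⟩⟩),
  (⟨⟨0, 0⟩, ⟨0, 0⟩, ⟨0, 0⟩, ⟨0, 0⟩⟩, ⟨⟨0, 0⟩, ⟨0, 0⟩, ⟨0, 0⟩, ⟨0, 0⟩⟩, ⟨⟨-2, -2⟩, ⟨2, -2⟩, ⟨2, -2⟩, ⟨2, -2⟩⟩),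
  (⟨⟨0, 0⟩, ⟨0, 0⟩, ⟨0, 0⟩, ⟨0, 0⟩⟩, ⟨⟨-2, 2⟩, ⟨2, -2⟩, ⟨-2, 2⟩, ⟨6, -2⟩⟩, ⟨⟨0, 0⟩, ⟨0, 0⟩, ⟨0, 0⟩, ⟨0, 0⟩⟩),
  (⟨⟨-2, 2⟩, ⟨2, -2⟩, ⟨-2, 2⟩, ⟨6, -2⟩⟩, ⟨⟨0, 0⟩, ⟨0, 0⟩, ⟨0, 0⟩, ⟨0, 0⟩⟩, ⟨⟨0, 0⟩, ⟨0, 0⟩, ⟨0, 0⟩, ⟨0, 0⟩⟩),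
  (⟨⟨0, 0⟩, ⟨0, 0⟩, ⟨0, 0⟩, ⟨0, 0⟩⟩, ⟨⟨0, 0⟩, ⟨0, 0⟩, ⟨0, 0⟩, ⟨0, 0⟩⟩, ⟨⟨-2, 2⟩, ⟨6, -2⟩, ⟨2, -2⟩, ⟨-2, 2⟩⟩),
  (⟨⟨2, -2⟩, ⟨-6, 2⟩, ⟨-2, 2⟩, ⟨2, -2⟩⟩, ⟨⟨0, 0⟩, ⟨0, 0⟩, ⟨0, 0⟩, ⟨0, 0⟩⟩, ⟨⟨0, 0⟩, ⟨0, 0⟩, ⟨0, 0⟩, ⟨0, 0⟩⟩),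
  (⟨⟨0, 0⟩, ⟨0, 0⟩, ⟨0, 0⟩, ⟨0, 0⟩⟩, ⟨⟨-2, 2⟩, ⟨-2, -2⟩, ⟨2, -2⟩, ⟨-2, 2⟩⟩, ⟨⟨0, 0⟩, ⟨0, 0⟩, ⟨0, 0⟩, ⟨0, 0⟩⟩),
  (⟨⟨0, 0⟩, ⟨0, 0⟩, ⟨0, 0⟩, ⟨0, 0⟩⟩, ⟨⟨-2, 2⟩, ⟨2, -2⟩, ⟨-2, 2⟩, ⟨-2, -2⟩⟩, ⟨⟨0, 0⟩, ⟨0, 0⟩, ⟨0, 0⟩, ⟨0, 0⟩⟩),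
  (⟨⟨0, 0⟩, ⟨0, 0⟩, ⟨0, 0⟩, ⟨0, 0⟩⟩, ⟨⟨2, -2⟩, ⟨-6, 2⟩, ⟨-2, 2⟩, ⟨2, -2⟩⟩, ⟨⟨0, 0⟩, ⟨0, 0⟩, ⟨0, 0⟩, ⟨0, 0⟩⟩),
  (⟨⟨0, 0⟩, ⟨0, 0⟩, ⟨0, 0⟩, ⟨0, 0⟩⟩, ⟨⟨-2, 2⟩, ⟨-2, 2⟩, ⟨-2, -2⟩, ⟨2, -2⟩⟩, ⟨⟨0, 0⟩, ⟨0, 0⟩, ⟨0, 0⟩, ⟨0, 0⟩⟩),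
  (⟨⟨0, 0⟩, ⟨0, 0⟩, ⟨0, 0⟩, ⟨0, 0⟩⟩, ⟨⟨0, 0⟩, ⟨0, 0⟩, ⟨0, 0⟩, ⟨0, 0⟩⟩, ⟨⟨-2, 2⟩, ⟨-2, 2⟩, ⟨6, -2⟩, ⟨2, -2⟩⟩),
  (⟨⟨0, 0⟩, ⟨0, 0⟩, ⟨0, 0⟩, ⟨0, 0⟩⟩, ⟨⟨0, 0⟩, ⟨0, 0⟩, ⟨0, 0⟩, ⟨0, 0⟩⟩, ⟨⟨-6, 2⟩, ⟨-2, 2⟩, ⟨-2, 2⟩, ⟨-2, 2⟩⟩),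
  (⟨⟨0, 0⟩, ⟨0, 0⟩, ⟨0, 0⟩, ⟨0, 0⟩⟩, ⟨⟨0, 0⟩, ⟨0, 0⟩, ⟨0, 0⟩, ⟨0, 0⟩⟩, ⟨⟨2, -2⟩, ⟨-2, 2⟩, ⟨2, -2⟩, ⟨-6, 2⟩⟩),
  (⟨⟨0, 0⟩, ⟨0, 0⟩, ⟨0, 0⟩, ⟨0, 0⟩⟩, ⟨⟨0, 0⟩, ⟨0, 0⟩, ⟨0, 0⟩, ⟨0, 0⟩⟩, ⟨⟨2, -2⟩, ⟨-2, 2⟩, ⟨2, -2⟩, ⟨2, 2⟩⟩),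
  (⟨⟨0, 0⟩, ⟨0, 0⟩, ⟨0, 0⟩, ⟨0, 0⟩⟩, ⟨⟨-2, 2⟩, ⟨-2, 2⟩, ⟨6, -2⟩, ⟨2, -2⟩⟩, ⟨⟨0, 0⟩, ⟨0, 0⟩, ⟨0, 0⟩, ⟨0, 0⟩⟩),
  (⟨⟨0, 0⟩, ⟨0, 0⟩, ⟨0, 0⟩, ⟨0, 0⟩⟩, ⟨⟨0, 0⟩, ⟨0, 0⟩, ⟨0, 0⟩, ⟨0, 0⟩⟩, ⟨⟨-2, 2⟩, ⟨-2, 2⟩, ⟨-2, -2⟩, ⟨2, -2⟩⟩),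
  (⟨⟨0, 0⟩, ⟨0, 0⟩, ⟨0, 0⟩, ⟨0, 0⟩⟩, ⟨⟨0, 0⟩, ⟨0, 0⟩, ⟨0, 0⟩, ⟨0, 0⟩⟩, ⟨⟨2, -2⟩, ⟨2, 2⟩, ⟨-2, 2⟩, ⟨2, -2⟩⟩)]

/-- Preimages of the spanning vectors of the Leech lattice. -/
def preTab : List (Q × Q × Q) :=
  [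
  (⟨⟨-1, 0⟩, ⟨-2, 1⟩, ⟨-1, 1⟩, ⟨0, 0⟩⟩, ⟨⟨-1, 1⟩, ⟨0, 0⟩, ⟨-1, 0⟩, ⟨0, -1⟩⟩, ⟨⟨-2, 1⟩, ⟨-1, 2⟩, ⟨0, 0⟩, ⟨1, -1⟩⟩),
  (⟨⟨0, -1⟩, ⟨-1, 0⟩, ⟨0, 0⟩, ⟨1, -1⟩⟩, ⟨⟨-1, 1⟩, ⟨-2, 0⟩, ⟨-1, 0⟩, ⟨0, -1⟩⟩, ⟨⟨0, 0⟩, ⟨-1, 1⟩, ⟨0, -1⟩, ⟨-1, 0⟩⟩),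
  (⟨⟨0, 0⟩, ⟨-2, 0⟩, ⟨0, 0⟩, ⟨0, 0⟩⟩, ⟨⟨0, 0⟩, ⟨-2, 0⟩, ⟨0, 0⟩, ⟨0, 0⟩⟩, ⟨⟨-1, 0⟩, ⟨-1, 2⟩, ⟨-1, 0⟩, ⟨1, 0⟩⟩),
  (⟨⟨0, 0⟩, ⟨-2, 1⟩, ⟨-1, 0⟩, ⟨1, -1⟩⟩, ⟨⟨-1, 1⟩, ⟨-1, 0⟩, ⟨2, -1⟩, ⟨0, 0⟩⟩, ⟨⟨-2, 1⟩, ⟨-2, 2⟩, ⟨1, -1⟩, ⟨-1, 0⟩⟩),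
  (⟨⟨0, 0⟩, ⟨-2, 1⟩, ⟨1, 0⟩, ⟨1, -1⟩⟩, ⟨⟨-1, 1⟩, ⟨-1, 0⟩, ⟨0, -1⟩, ⟨0, 0⟩⟩, ⟨⟨1, -1⟩, ⟨-1, 2⟩, ⟨2, -1⟩, ⟨0, 0⟩⟩),
  (⟨⟨0, 0⟩, ⟨0, 0⟩, ⟨0, 0⟩, ⟨0, 0⟩⟩, ⟨⟨-3, 2⟩, ⟨-1, 0⟩, ⟨1, 0⟩, ⟨-1, 0⟩⟩, ⟨⟨-1, 0⟩, ⟨-1, 2⟩, ⟨1, 0⟩, ⟨1, 0⟩⟩),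
  (⟨⟨0, 0⟩, ⟨0, 0⟩, ⟨0, 0⟩, ⟨0, 0⟩⟩, ⟨⟨-1, 0⟩, ⟨-1, 0⟩, ⟨1, 0⟩, ⟨1, -2⟩⟩, ⟨⟨-1, 0⟩, ⟨-1, 2⟩, ⟨-1, 0⟩, ⟨-1, 0⟩⟩),
  (⟨⟨0, 0⟩, ⟨-1, 0⟩, ⟨-1, 1⟩, ⟨0, -1⟩⟩, ⟨⟨0, 0⟩, ⟨-1, 0⟩, ⟨-1, 1⟩, ⟨0, -1⟩⟩, ⟨⟨-1, 0⟩, ⟨-2, 2⟩, ⟨2, -1⟩, ⟨-1, 1⟩⟩),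
  (⟨⟨0, 0⟩, ⟨0, 0⟩, ⟨0, 0⟩, ⟨0, 0⟩⟩, ⟨⟨-1, 1⟩, ⟨-3, 1⟩, ⟨1, -1⟩, ⟨1, -1⟩⟩, ⟨⟨-1, -1⟩, ⟨-1, 1⟩, ⟨1, -1⟩, ⟨-1, 1⟩⟩),
  (⟨⟨0, 0⟩, ⟨0, 0⟩, ⟨0, 0⟩, ⟨0, 0⟩⟩, ⟨⟨-2, 2⟩, ⟨0, 0⟩, ⟨0, 0⟩, ⟨2, -2⟩⟩, ⟨⟨0, 0⟩, ⟨-2, 2⟩, ⟨2, -2⟩, ⟨0, 0⟩⟩),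
  (⟨⟨0, 0⟩, ⟨-1, 0⟩, ⟨-1, 1⟩, ⟨2, -1⟩⟩, ⟨⟨-1, 1⟩, ⟨-2, 1⟩, ⟨0, 0⟩, ⟨1, -2⟩⟩, ⟨⟨1, -1⟩, ⟨0, 1⟩, ⟨0, 0⟩, ⟨1, 0⟩⟩),
  (⟨⟨0, 0⟩, ⟨0, 0⟩, ⟨0, 0⟩, ⟨0, 0⟩⟩, ⟨⟨-1, 1⟩, ⟨-3, 1⟩, ⟨1, -1⟩, ⟨1, -1⟩⟩, ⟨⟨-1, 1⟩, ⟨1, 1⟩, ⟨1, -1⟩, ⟨1, -1⟩⟩),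
  (⟨⟨-2, 1⟩, ⟨-1, 0⟩, ⟨0, 0⟩, ⟨1, -1⟩⟩, ⟨⟨-2, 1⟩, ⟨-1, 0⟩, ⟨0, 0⟩, ⟨1, -1⟩⟩, ⟨⟨-2, 1⟩, ⟨-1, 0⟩, ⟨2, -2⟩, ⟨-1, 1⟩⟩),
  (⟨⟨-3, 1⟩, ⟨-1, 1⟩, ⟨-1, 1⟩, ⟨-1, 1⟩⟩, ⟨⟨0, 0⟩, ⟨0, 0⟩, ⟨0, 0⟩, ⟨0, 0⟩⟩, ⟨⟨1, -1⟩, ⟨1, 1⟩, ⟨-1, 1⟩, ⟨1, -1⟩⟩),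
  (⟨⟨-1, -1⟩, ⟨1, -1⟩, ⟨1, -1⟩, ⟨1, -1⟩⟩, ⟨⟨0, 0⟩, ⟨0, 0⟩, ⟨0, 0⟩, ⟨0, 0⟩⟩, ⟨⟨1, -1⟩, ⟨1, 1⟩, ⟨-1, 1⟩, ⟨1, -1⟩⟩),
  (⟨⟨-1, 1⟩, ⟨-1, -1⟩, ⟨1, -1⟩, ⟨-1, 1⟩⟩, ⟨⟨0, 0⟩, ⟨0, 0⟩, ⟨0, 0⟩, ⟨0, 0⟩⟩, ⟨⟨1, -1⟩, ⟨1, 1⟩, ⟨-1, 1⟩, ⟨1, -1⟩⟩),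
  (⟨⟨-1, 1⟩, ⟨-1, 1⟩, ⟨-1, -1⟩, ⟨1, -1⟩⟩, ⟨⟨0, 0⟩, ⟨0, 0⟩, ⟨0, 0⟩, ⟨0, 0⟩⟩, ⟨⟨1, -1⟩, ⟨1, 1⟩, ⟨-1, 1⟩, ⟨1, -1⟩⟩),
  (⟨⟨-1, 1⟩, ⟨-1, 1⟩, ⟨3, -1⟩, ⟨1, -1⟩⟩, ⟨⟨0, 0⟩, ⟨0, 0⟩, ⟨0, 0⟩, ⟨0, 0⟩⟩, ⟨⟨1, -1⟩, ⟨1, 1⟩, ⟨-1, 1⟩, ⟨1, -1⟩⟩),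
  (⟨⟨0, 0⟩, ⟨0, 0⟩, ⟨0, 0⟩, ⟨0, 0⟩⟩, ⟨⟨-3, 1⟩, ⟨-1, 1⟩, ⟨-1, 1⟩, ⟨-1, 1⟩⟩, ⟨⟨1, -1⟩, ⟨1, 1⟩, ⟨-1, 1⟩, ⟨1, -1⟩⟩),
  (⟨⟨0, 0⟩, ⟨0, 0⟩, ⟨0, 0⟩, ⟨0, 0⟩⟩, ⟨⟨-1, -1⟩, ⟨1, -1⟩, ⟨1, -1⟩, ⟨1, -1⟩⟩, ⟨⟨1, -1⟩, ⟨1, 1⟩, ⟨-1, 1⟩, ⟨1, -1⟩⟩),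
  (⟨⟨-1, 1⟩, ⟨1, -1⟩, ⟨-1, 1⟩, ⟨-1, -1⟩⟩, ⟨⟨0, 0⟩, ⟨0, 0⟩, ⟨0, 0⟩, ⟨0, 0⟩⟩, ⟨⟨1, -1⟩, ⟨1, 1⟩, ⟨-1, 1⟩, ⟨1, -1⟩⟩),
  (⟨⟨0, 0⟩, ⟨0, 0⟩, ⟨0, 0⟩, ⟨0, 0⟩⟩, ⟨⟨0, 0⟩, ⟨0, 0⟩, ⟨0, 0⟩, ⟨0, 0⟩⟩, ⟨⟨0, -2⟩, ⟨2, 0⟩, ⟨0, 0⟩, ⟨2, -2⟩⟩),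
  (⟨⟨0, 0⟩, ⟨0, 0⟩, ⟨0, 0⟩, ⟨0, 0⟩⟩, ⟨⟨-1, 1⟩, ⟨1, -1⟩, ⟨-1, 1⟩, ⟨3, -1⟩⟩, ⟨⟨1, -1⟩, ⟨1, 1⟩, ⟨-1, 1⟩, ⟨1, -1⟩⟩),
  (⟨⟨-1, 1⟩, ⟨1, -1⟩, ⟨-1, 1⟩, ⟨3, -1⟩⟩, ⟨⟨0, 0⟩, ⟨0, 0⟩, ⟨0, 0⟩, ⟨0, 0⟩⟩, ⟨⟨1, -1⟩, ⟨1, 1⟩, ⟨-1, 1⟩, ⟨1, -1⟩⟩),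
  (⟨⟨0, 0⟩, ⟨0, 0⟩, ⟨0, 0⟩, ⟨0, 0⟩⟩, ⟨⟨0, 0⟩, ⟨0, 0⟩, ⟨0, 0⟩, ⟨0, 0⟩⟩, ⟨⟨0, 0⟩, ⟨4, 0⟩, ⟨0, 0⟩, ⟨0, 0⟩⟩),
  (⟨⟨1, -1⟩, ⟨-3, 1⟩, ⟨-1, 1⟩, ⟨1, -1⟩⟩, ⟨⟨0, 0⟩, ⟨0, 0⟩, ⟨0, 0⟩, ⟨0, 0⟩⟩, ⟨⟨1, -1⟩, ⟨1, 1⟩, ⟨-1, 1⟩, ⟨1, -1⟩⟩),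
  (⟨⟨0, 0⟩, ⟨0, 0⟩, ⟨0, 0⟩, ⟨0, 0⟩⟩, ⟨⟨-1, 1⟩, ⟨-1, -1⟩, ⟨1, -1⟩, ⟨-1, 1⟩⟩, ⟨⟨1, -1⟩, ⟨1, 1⟩, ⟨-1, 1⟩, ⟨1, -1⟩⟩),
  (⟨⟨0, 0⟩, ⟨0, 0⟩, ⟨0, 0⟩, ⟨0, 0⟩⟩, ⟨⟨-1, 1⟩, ⟨1, -1⟩, ⟨-1, 1⟩, ⟨-1, -1⟩⟩, ⟨⟨1, -1⟩, ⟨1, 1⟩, ⟨-1, 1⟩, ⟨1, -1⟩⟩),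
  (⟨⟨0, 0⟩, ⟨0, 0⟩, ⟨0, 0⟩, ⟨0, 0⟩⟩, ⟨⟨1, -1⟩, ⟨-3, 1⟩, ⟨-1, 1⟩, ⟨1, -1⟩⟩, ⟨⟨1, -1⟩, ⟨1, 1⟩, ⟨-1, 1⟩, ⟨1, -1⟩⟩),
  (⟨⟨0, 0⟩, ⟨0, 0⟩, ⟨0, 0⟩, ⟨0, 0⟩⟩, ⟨⟨-1, 1⟩, ⟨-1, 1⟩, ⟨-1, -1⟩, ⟨1, -1⟩⟩, ⟨⟨1, -1⟩, ⟨1, 1⟩, ⟨-1, 1⟩, ⟨1, -1⟩⟩),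
  (⟨⟨0, 0⟩, ⟨0, 0⟩, ⟨0, 0⟩, ⟨0, 0⟩⟩, ⟨⟨0, 0⟩, ⟨0, 0⟩, ⟨0, 0⟩, ⟨0, 0⟩⟩, ⟨⟨0, 0⟩, ⟨0, 2⟩, ⟨2, 0⟩, ⟨2, -2⟩⟩),
  (⟨⟨0, 0⟩, ⟨0, 0⟩, ⟨0, 0⟩, ⟨0, 0⟩⟩, ⟨⟨0, 0⟩, ⟨0, 0⟩, ⟨0, 0⟩, ⟨0, 0⟩⟩, ⟨⟨-2, 0⟩, ⟨0, 2⟩, ⟨-2, 2⟩, ⟨0, 0⟩⟩),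
  (⟨⟨0, 0⟩, ⟨0, 0⟩, ⟨0, 0⟩, ⟨0, 0⟩⟩, ⟨⟨0, 0⟩, ⟨0, 0⟩, ⟨0, 0⟩, ⟨0, 0⟩⟩, ⟨⟨2, -2⟩, ⟨0, 2⟩, ⟨0, 0⟩, ⟨-2, 0⟩⟩),
  (⟨⟨0, 0⟩, ⟨0, 0⟩, ⟨0, 0⟩, ⟨0, 0⟩⟩, ⟨⟨0, 0⟩, ⟨0, 0⟩, ⟨0, 0⟩, ⟨0, 0⟩⟩, ⟨⟨2, -2⟩, ⟨0, 2⟩, ⟨0, 0⟩, ⟨2, 0⟩⟩),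
  (⟨⟨0, 0⟩, ⟨0, 0⟩, ⟨0, 0⟩, ⟨0, 0⟩⟩, ⟨⟨-1, 1⟩, ⟨-1, 1⟩, ⟨3, -1⟩, ⟨1, -1⟩⟩, ⟨⟨1, -1⟩, ⟨1, 1⟩, ⟨-1, 1⟩, ⟨1, -1⟩⟩),
  (⟨⟨0, 0⟩, ⟨0, 0⟩, ⟨0, 0⟩, ⟨0, 0⟩⟩, ⟨⟨0, 0⟩, ⟨0, 0⟩, ⟨0, 0⟩, ⟨0, 0⟩⟩, ⟨⟨0, 0⟩, ⟨0, 2⟩, ⟨-2, 0⟩, ⟨2, -2⟩⟩),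
  (⟨⟨-3, 1⟩, ⟨-1, 1⟩, ⟨-1, 1⟩, ⟨-1, 1⟩⟩, ⟨⟨0, 0⟩, ⟨0, 0⟩, ⟨0, 0⟩, ⟨0, 0⟩⟩, ⟨⟨-1, 1⟩, ⟨-1, -1⟩, ⟨1, -1⟩, ⟨-1, 1⟩⟩),
  (⟨⟨-1, -1⟩, ⟨1, -1⟩, ⟨1, -1⟩, ⟨1, -1⟩⟩, ⟨⟨0, 0⟩, ⟨0, 0⟩, ⟨0, 0⟩, ⟨0, 0⟩⟩, ⟨⟨-1, 1⟩, ⟨-1, -1⟩, ⟨1, -1⟩, ⟨-1, 1⟩⟩),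
  (⟨⟨-1, 1⟩, ⟨-1, -1⟩, ⟨1, -1⟩, ⟨-1, 1⟩⟩, ⟨⟨0, 0⟩, ⟨0, 0⟩, ⟨0, 0⟩, ⟨0, 0⟩⟩, ⟨⟨-1, 1⟩, ⟨-1, -1⟩, ⟨1, -1⟩, ⟨-1, 1⟩⟩),
  (⟨⟨-1, 1⟩, ⟨-1, 1⟩, ⟨-1, -1⟩, ⟨1, -1⟩⟩, ⟨⟨0, 0⟩, ⟨0, 0⟩, ⟨0, 0⟩, ⟨0, 0⟩⟩, ⟨⟨-1, 1⟩, ⟨-1, -1⟩, ⟨1, -1⟩, ⟨-1, 1⟩⟩),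
  (⟨⟨-1, 1⟩, ⟨-1, 1⟩, ⟨3, -1⟩, ⟨1, -1⟩⟩, ⟨⟨0, 0⟩, ⟨0, 0⟩, ⟨0, 0⟩, ⟨0, 0⟩⟩, ⟨⟨-1, 1⟩, ⟨-1, -1⟩, ⟨1, -1⟩, ⟨-1, 1⟩⟩),
  (⟨⟨0, 0⟩, ⟨0, 0⟩, ⟨0, 0⟩, ⟨0, 0⟩⟩, ⟨⟨-3, 1⟩, ⟨-1, 1⟩, ⟨-1, 1⟩, ⟨-1, 1⟩⟩, ⟨⟨-1, 1⟩, ⟨-1, -1⟩, ⟨1, -1⟩, ⟨-1, 1⟩⟩),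
  (⟨⟨0, 0⟩, ⟨0, 0⟩, ⟨0, 0⟩, ⟨0, 0⟩⟩, ⟨⟨-1, -1⟩, ⟨1, -1⟩, ⟨1, -1⟩, ⟨1, -1⟩⟩, ⟨⟨-1, 1⟩, ⟨-1, -1⟩, ⟨1, -1⟩, ⟨-1, 1⟩⟩),
  (⟨⟨-1, 1⟩, ⟨1, -1⟩, ⟨-1, 1⟩, ⟨-1, -1⟩⟩, ⟨⟨0, 0⟩, ⟨0, 0⟩, ⟨0, 0⟩, ⟨0, 0⟩⟩, ⟨⟨-1, 1⟩, ⟨-1, -1⟩, ⟨1, -1⟩, ⟨-1, 1⟩⟩),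
  (⟨⟨0, 0⟩, ⟨0, 0⟩, ⟨0, 0⟩, ⟨0, 0⟩⟩, ⟨⟨0, 0⟩, ⟨0, 0⟩, ⟨0, 0⟩, ⟨0, 0⟩⟩, ⟨⟨-2, 0⟩, ⟨0, -2⟩, ⟨2, -2⟩, ⟨0, 0⟩⟩),
  (⟨⟨0, 0⟩, ⟨0, 0⟩, ⟨0, 0⟩, ⟨0, 0⟩⟩, ⟨⟨-1, 1⟩, ⟨1, -1⟩, ⟨-1, 1⟩, ⟨3, -1⟩⟩, ⟨⟨-1, 1⟩, ⟨-1, -1⟩, ⟨1, -1⟩, ⟨-1, 1⟩⟩),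
  (⟨⟨-1, 1⟩, ⟨1, -1⟩, ⟨-1, 1⟩, ⟨3, -1⟩⟩, ⟨⟨0, 0⟩, ⟨0, 0⟩, ⟨0, 0⟩, ⟨0, 0⟩⟩, ⟨⟨-1, 1⟩, ⟨-1, -1⟩, ⟨1, -1⟩, ⟨-1, 1⟩⟩),
  (⟨⟨0, 0⟩, ⟨0, 0⟩, ⟨0, 0⟩, ⟨0, 0⟩⟩, ⟨⟨0, 0⟩, ⟨0, 0⟩, ⟨0, 0⟩, ⟨0, 0⟩⟩, ⟨⟨-2, 2⟩, ⟨2, -2⟩, ⟨2, -2⟩, ⟨-2, 2⟩⟩),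
  (⟨⟨1, -1⟩, ⟨-3, 1⟩, ⟨-1, 1⟩, ⟨1, -1⟩⟩, ⟨⟨0, 0⟩, ⟨0, 0⟩, ⟨0, 0⟩, ⟨0, 0⟩⟩, ⟨⟨-1, 1⟩, ⟨-1, -1⟩, ⟨1, -1⟩, ⟨-1, 1⟩⟩),
  (⟨⟨0, 0⟩, ⟨0, 0⟩, ⟨0, 0⟩, ⟨0, 0⟩⟩, ⟨⟨-1, 1⟩, ⟨-1, -1⟩, ⟨1, -1⟩, ⟨-1, 1⟩⟩, ⟨⟨-1, 1⟩, ⟨-1, -1⟩, ⟨1, -1⟩, ⟨-1, 1⟩⟩),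
  (⟨⟨0, 0⟩, ⟨0, 0⟩, ⟨0, 0⟩, ⟨0, 0⟩⟩, ⟨⟨-1, 1⟩, ⟨1, -1⟩, ⟨-1, 1⟩, ⟨-1, -1⟩⟩, ⟨⟨-1, 1⟩, ⟨-1, -1⟩, ⟨1, -1⟩, ⟨-1, 1⟩⟩),
  (⟨⟨0, 0⟩, ⟨0, 0⟩, ⟨0, 0⟩, ⟨0, 0⟩⟩, ⟨⟨1, -1⟩, ⟨-3, 1⟩, ⟨-1, 1⟩, ⟨1, -1⟩⟩, ⟨⟨-1, 1⟩, ⟨-1, -1⟩, ⟨1, -1⟩, ⟨-1, 1⟩⟩),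
  (⟨⟨0, 0⟩, ⟨0, 0⟩, ⟨0, 0⟩, ⟨0, 0⟩⟩, ⟨⟨-1, 1⟩, ⟨-1, 1⟩, ⟨-1, -1⟩, ⟨1, -1⟩⟩, ⟨⟨-1, 1⟩, ⟨-1, -1⟩, ⟨1, -1⟩, ⟨-1, 1⟩⟩),
  (⟨⟨0, 0⟩, ⟨0, 0⟩, ⟨0, 0⟩, ⟨0, 0⟩⟩, ⟨⟨0, 0⟩, ⟨0, 0⟩, ⟨0, 0⟩, ⟨0, 0⟩⟩, ⟨⟨-2, 2⟩, ⟨-2, 0⟩, ⟨4, -2⟩, ⟨0, 0⟩⟩),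
  (⟨⟨0, 0⟩, ⟨0, 0⟩, ⟨0, 0⟩, ⟨0, 0⟩⟩, ⟨⟨0, 0⟩, ⟨0, 0⟩, ⟨0, 0⟩, ⟨0, 0⟩⟩, ⟨⟨-4, 2⟩, ⟨-2, 0⟩, ⟨0, 0⟩, ⟨-2, 2⟩⟩),
  (⟨⟨0, 0⟩, ⟨0, 0⟩, ⟨0, 0⟩, ⟨0, 0⟩⟩, ⟨⟨0, 0⟩, ⟨0, 0⟩, ⟨0, 0⟩, ⟨0, 0⟩⟩, ⟨⟨0, 0⟩, ⟨-2, 0⟩, ⟨2, -2⟩, ⟨-4, 2⟩⟩),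
  (⟨⟨0, 0⟩, ⟨0, 0⟩, ⟨0, 0⟩, ⟨0, 0⟩⟩, ⟨⟨0, 0⟩, ⟨0, 0⟩, ⟨0, 0⟩, ⟨0, 0⟩⟩, ⟨⟨0, 0⟩, ⟨-2, 0⟩, ⟨2, -2⟩, ⟨0, 2⟩⟩),
  (⟨⟨0, 0⟩, ⟨0, 0⟩, ⟨0, 0⟩, ⟨0, 0⟩⟩, ⟨⟨-1, 1⟩, ⟨-1, 1⟩, ⟨3, -1⟩, ⟨1, -1⟩⟩, ⟨⟨-1, 1⟩, ⟨-1, -1⟩, ⟨1, -1⟩, ⟨-1, 1⟩⟩),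
  (⟨⟨0, 0⟩, ⟨0, 0⟩, ⟨0, 0⟩, ⟨0, 0⟩⟩, ⟨⟨0, 0⟩, ⟨0, 0⟩, ⟨0, 0⟩, ⟨0, 0⟩⟩, ⟨⟨-2, 2⟩, ⟨-2, 0⟩, ⟨0, -2⟩, ⟨0, 0⟩⟩)]

end CfsgLib.Ico
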