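import Cfsg.Agent.Lib.Ico.GroupChecks

/-! The reflection group of the icosian lattice: transitivity, order and centre. -/

set_option autoImplicit false

namespace CfsgLib.Ico

open Cfsg.Spor Quaternion

theorem inL_e0T : InL e0T = true := inL_axisT 0

/-- The first axis. -/
noncomputable def e0 : icoLeech := vec e0T inL_e0T

/-- A vector in the orbit of the first axis. -/
def Reach (t : T) : Prop := ∃ g ∈ twoJ2, (g e0 : Fin 3 → ℍ[ℝ]) = embV t

theorem lineRefl_mem (i : Fin 315) : lineRefl i ∈ twoJ2 :=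
  Subgroup.subset_closure (isIcoReflection_lineRefl i)

theorem reach_e0 : Reach e0T := ⟨1, one_mem _, rfl⟩

theorem reach_inL {t : T} (h : Reach t) : InL t = true := by
  obtain ⟨g, -, e⟩ := h
  obtain ⟨s, hs, e'⟩ := mem_icoLeech_iff.1 (g e0).2
  rwa [← embV_injective (e'.trans e)]

theorem reach_refl {t : T} (h : Reach t) {a : ℕ} (ha : a < 315) : Reach (reflF (rep a) t) := by
  have ht := reach_inL h
  obtain ⟨g, hg, e⟩ := h
  refine ⟨lineRefl ⟨a, ha⟩ * g, mul_mem (lineRefl_mem _) hg, ?_⟩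
  rw [Equiv.Perm.mul_apply, show g e0 = vec t ht from Subtype.ext e, lineRefl_vec]
  rfl

theorem reach_word : ∀ (l : List ℕ) (t : T), Reach t → (∀ a ∈ l, a < 315) → Reach (wordT l t)
  | [], _, h, _ => h
  | a :: l, t, h, hl =>
    reach_word l _ (reach_refl h (hl a (List.mem_cons_self ..))) fun b hb => hl b (List.mem_cons_of_mem _ hb)

theorem reach_scale {t : T} (h : Reach t) {k : ℕ} (hk : k < 120) (hu : Reach (mulT (unit k) e0T)) :
    Reach (mulT (unit k) t) := by
  have ht := reach_inL h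
  obtain ⟨g, hg, e⟩ := h
  obtain ⟨g', hg', e'⟩ := hu
  refine ⟨g * g', mul_mem hg hg', ?_⟩
  rw [Equiv.Perm.mul_apply,
    show g' e0 = vec (mulT (unit k) e0T) (inL_mulT (inP_unit hk) inL_e0T) from Subtype.ext e',
    auto_mulT (twoJ2_le_autGroup hg) hk inL_e0T ht (Subtype.ext e)]
  rfl

theorem testBit_full {n i : ℕ} (hi : i < n) : (2 ^ n - 1).testBit i = true := by
  rw [Nat.testBit_two_pow_sub_one]; simpa

theorem unit_zero : unit 0 = 2 := by decide +kernel

theorem reach_unit {k : ℕ} (hk : k < 120) : Reach (mulT (unit k) e0T) := by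
  refine treeB_sound (P := fun k => Reach (mulT (unit k) e0T)) unit_tree_check ?_ ?_ k (testBit_full hk)
  · intro x _ hx hp
    simp only [unitEdgeB, Bool.and_eq_true, Nat.blt_eq, beq_iff_eq] at hx
    obtain ⟨⟨⟨h1, h2⟩, h3⟩, e⟩ := hx
    have hs := scal_checks
    simp only [List.all_eq_true, Bool.and_eq_true, Nat.blt_eq, beq_iff_eq] at hs
    have hmem : scalTab.getD x.2.2 (0, []) ∈ scalTab := by
      have hl : scalTab.length = 2 := rfl
      rw [List.getD_eq_getElem (hn := by omega)]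
      exact List.getElem_mem _
    obtain ⟨⟨hs1, hs2⟩, hw⟩ := hs _ hmem
    have hr := reach_word _ _ reach_e0 hs2
    rw [hw, ← mulT_eq] at hr
    have hh := reach_scale hr h2 hp
    rw [mulT_mulT (inP_unit h2) (inP_unit hs1) inL_e0T, mulP_eq, ← e] at hh
    exact hh
  · intro i hi
    obtain rfl : i = 0 := by
      by_contra h
      rw [show (1 : ℕ) = 2 ^ 0 from rfl, Nat.testBit_two_pow, decide_eq_true_eq] at hi
      omega
    rw [unit_zero, mulT_two inL_e0T]
    exact reach_e0

theorem reach_line {i : ℕ} (hi : i < 315) : ∀ k < 120, Reach (mulT (unit k) (rep i)) := by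
  refine treeB_sound (P := fun i => ∀ k < 120, Reach (mulT (unit k) (rep i))) line_tree_check ?_ ?_ i
    (testBit_full hi)
  · intro x _ hx hp k hk
    simp only [lineEdgeB, Bool.and_eq_true, Nat.blt_eq, beq_iff_eq] at hx
    obtain ⟨⟨⟨⟨h1, h2⟩, h3⟩, h4⟩, e⟩ := hx
    obtain ⟨s, hs, es⟩ := exists_unit_star h4
    obtain ⟨m, hm, em⟩ := exists_unit_mul hk hs
    have hmu : mulP (unit m) (unit x.2.2.2) = unit k := by
      rw [← em, ← es, ← mulP_assoc' (inP_unit hk) (inP_star (inP_unit h4)) (inP_unit h4),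
        mulP_star_unit h4, mulP, show unit k * 2 = 2 * unit k by rw [mul_two, two_mul], halve_two_mul]
    have hr := reach_refl (hp m hm) h3
    rw [← mulT_eq] at e
    have key : reflF (rep x.2.2.1) (mulT (unit m) (rep x.2.1)) = mulT (unit k) (rep x.1) := by
      have hx2 := inL_rep h2
      have hx1 := inL_mulT (inP_unit h4) (inL_rep h1)
      have h' := auto_mulT (twoJ2_le_autGroup (lineRefl_mem ⟨x.2.2.1, h3⟩)) hm hx2 hx1
        ((lineRefl_vec ⟨x.2.2.1, h3⟩ hx2).trans (Subtype.ext (congrArg embV e)))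
      rw [lineRefl_vec] at h'
      rw [vec_inj h', mulT_mulT (inP_unit hm) (inP_unit h4) (inL_rep h1), hmu]
    rwa [key] at hr
  · intro j hj k hk
    rw [Nat.testBit_two_pow, decide_eq_true_eq] at hj
    subst hj
    have h := root_check
    simp only [Bool.and_eq_true, beq_iff_eq] at h
    rw [h.2]
    exact reach_unit hk

theorem exists_index {x : icoLeech} (hx : qip (x : Fin 3 → ℍ[ℝ]) x = 4) :
    ∃ k < 120, ∃ i < 315, (x : Fin 3 → ℍ[ℝ]) = embV (mulT (unit k) (rep i)) := by
  obtain ⟨t, ht, rfl⟩ := exists_vec x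
  obtain ⟨k, hk, i, hi, rfl⟩ := exists_rep ht ((qip_embV_iff t).1 hx)
  exact ⟨k, hk, i, hi, rfl⟩

theorem exists_map {x : icoLeech} (hx : qip (x : Fin 3 → ℍ[ℝ]) x = 4) : ∃ g ∈ twoJ2, g e0 = x := by
  obtain ⟨k, hk, i, hi, e⟩ := exists_index hx
  obtain ⟨g, hg, e'⟩ := reach_line hi k hk
  exact ⟨g, hg, Subtype.ext (e'.trans e.symm)⟩

theorem qip_e0 : qip (e0 : Fin 3 → ℍ[ℝ]) e0 = 4 := (qip_embV_iff e0T).2 (by decide +kernel)

theorem reflPerm_congr {r r' : icoLeech} (h : r = r') (h4 : qip (r : Fin 3 → ℍ[ℝ]) r = 4) :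
    reflPerm r h4 = reflPerm r' (h ▸ h4) := by subst h; rfl

theorem reflection_conj {f f' : Equiv.Perm icoLeech} (hf : IsIcoReflection f) (hf' : IsIcoReflection f') :
    ∃ g ∈ twoJ2, g * f * g⁻¹ = f' := by
  obtain ⟨r, h4, rfl⟩ := isIcoReflection_iff.1 hf
  obtain ⟨r', h4', rfl⟩ := isIcoReflection_iff.1 hf'
  obtain ⟨g, hg, rfl⟩ := exists_map h4
  obtain ⟨g', hg', rfl⟩ := exists_map h4'
  refine ⟨g' * g⁻¹, mul_mem hg' (inv_mem hg), ?_⟩
  rw [conj_reflPerm (twoJ2_le_autGroup (mul_mem hg' (inv_mem hg)))]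
  exact reflPerm_congr (by rw [Equiv.Perm.mul_apply, Equiv.Perm.coe_inv, Equiv.symm_apply_apply]) _

theorem fix_spec : ∀ n, n < 32 → ∃ g ∈ twoJ2, g e0 = e0 ∧
    (g (vec (axisT 1) (inL_axisT 1)) : Fin 3 → ℍ[ℝ]) = embV (fixImg n).1 ∧
    (g (vec (axisT 2) (inL_axisT 2)) : Fin 3 → ℍ[ℝ]) = embV (fixImg n).2 := by
  intro n
  induction n using Nat.strong_induction_on with
  | _ n ih =>
    intro hn
    have h := List.all_eq_true.1 fix_checks n (List.mem_range.2 hn)
    rw [fixB] at h
    split at h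
    · rename_i h0
      subst h0
      refine ⟨1, one_mem _, rfl, ?_, ?_⟩ <;> rw [eq_of_beq h] <;> rfl
    · simp only [Bool.and_eq_true, Nat.blt_eq, beq_iff_eq] at h
      obtain ⟨⟨⟨⟨hp, ha⟩, e0'⟩, e1⟩, e2⟩ := h
      obtain ⟨g, hg, g0, g1, g2⟩ := ih _ hp (by omega)
      set a : Fin 315 := ⟨(fixPar.getD n (0, 0)).2, ha⟩
      have step : ∀ {x : icoLeech} {s s' : T}, (g x : Fin 3 → ℍ[ℝ]) = embV s → reflF (rep a) s = s' →
          ((lineRefl a * g) x : Fin 3 → ℍ[ℝ]) = embV s' := by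
        intro x s s' hx he
        obtain ⟨t, ht, et⟩ := exists_vec (g x)
        obtain rfl : t = s := embV_injective ((congrArg Subtype.val et).symm.trans hx)
        rw [Equiv.Perm.mul_apply, et, lineRefl_vec, ← he]
        rfl
      exact ⟨lineRefl a * g, mul_mem (lineRefl_mem a) hg,
        Subtype.ext (step (congrArg Subtype.val g0) e0'), step g1 e1, step g2 e2⟩

theorem qip_embV (x y : T) (hx : InL x = true) (hy : InL y = true) :
    qip (embV x) (embV y) = emb (mulP x.1 (star y.1) + mulP x.2.1 (star y.2.1) + mulP x.2.2 (star y.2.2)) := by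
  obtain ⟨x0, x1, x2, -⟩ := (inL_iff _).1 hx
  obtain ⟨y0, y1, y2, -⟩ := (inL_iff _).1 hy
  rw [emb_add, emb_add, emb_mulP x0 (inP_star y0), emb_mulP x1 (inP_star y1),
    emb_mulP x2 (inP_star y2), qip, Fin.sum_univ_three]
  simp [embV, emb_star]

theorem mem_unitTab {u : Q} (hu : u ∈ unitTab) : ∃ k < 120, u = unit k := by
  obtain ⟨k, hk, rfl⟩ := List.mem_iff_getElem.1 hu
  exact ⟨k, unitTab_length ▸ hk, (List.getD_eq_getElem (hn := hk) (d := 0)).symm⟩

theorem unit_mem_unitTab {k : ℕ} (hk : k < 120) : unit k ∈ unitTab := by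
  rw [unit, List.getD_eq_getElem (hn := unitTab_length ▸ hk)]
  exact List.getElem_mem _

theorem exists_plane {b : T} (hb : InL b = true) (h4 : qip (embV b) (embV b) = 4)
    (ho : qip (embV b) (embV e0T) = 0) :
    ∃ r ∈ planeLines, ∃ u ∈ unitTab, b = mulTF u r := by
  have hb0 : b.1 = 0 := by
    rw [qip_embV b e0T hb inL_e0T, ← emb_zero] at ho
    have e := emb_injective ho
    simp only [e0T, star_zero, mulP, mul_zero, show star (4 : Q) = 4 by decide +kernel,
      show halve (0 : Q) = 0 from rfl, add_zero] at e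
    rw [show b.1 * 4 = 2 * (2 * b.1) by noncomm_ring, halve_two_mul] at e
    exact two_mul_injective (e.trans (mul_zero _).symm)
  obtain ⟨k, hk, i, hi, rfl⟩ := exists_rep hb ((qip_embV_iff b).1 h4)
  refine ⟨rep i, ?_, unit k, unit_mem_unitTab hk, mulT_eq _ _⟩
  refine List.mem_filter.2 ⟨?_, decide_eq_true ?_⟩
  · rw [rep_eq_getElem hi]; exact List.getElem_mem _
  · have h0 := congrArg (mulP (star (unit k))) (show mulP (unit k) (rep i).1 = 0 from hb0)
    rwa [mulP_assoc' (inP_star (inP_unit hk)) (inP_unit hk) ((inL_iff _).1 (inL_rep hi)).1,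
      mulP_star_unit hk, mulP_two_left, mulP_zero'] at h0

theorem testM_of_auto {f : Equiv.Perm icoLeech} (hf : f ∈ autGroup) {a b c x : T}
    (ha : InL a = true) (hb : InL b = true) (hc : InL c = true) (hx : InL x = true)
    (h0 : f (vec (axisT 0) (inL_axisT 0)) = vec a ha) (h1 : f (vec (axisT 1) (inL_axisT 1)) = vec b hb)
    (h2 : f (vec (axisT 2) (inL_axisT 2)) = vec c hc) :
    testM (a, b, c) x = true := by
  obtain ⟨o, ho, e⟩ := exists_vec (f (vec x hx))
  obtain ⟨e1, e2, e3⟩ := apply_axis hf ha hb hc hx ho h0 h1 h2 e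
  simp only [testM, e1, e2, e3, halve_two_mul, beq_self_eq_true, Bool.true_and]
  rw [← inL_eq]; exact ho

theorem mulF_zero_left (x : Q) : mulF 0 x = 0 := by rw [← mulP_eq, mulP, zero_mul]; rfl

theorem testM_third_zero {a b c c' x : T} (hx : x.2.2 = 0) : testM (a, b, c) x = testM (a, b, c') x := by
  simp only [testM, hx, mulF_zero_left]

theorem testM_second_zero {a b b' c x : T} (hx : x.2.1 = 0) : testM (a, b, c) x = testM (a, b', c) x := by
  simp only [testM, hx, mulF_zero_left]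

theorem exists_fix {f : Equiv.Perm icoLeech} (hf : f ∈ autGroup) (h : f e0 = e0) :
    ∃ n < 32, (f (vec (axisT 1) (inL_axisT 1)) : Fin 3 → ℍ[ℝ]) = embV (fixImg n).1 ∧
      (f (vec (axisT 2) (inL_axisT 2)) : Fin 3 → ℍ[ℝ]) = embV (fixImg n).2 := by
  obtain ⟨b, hb, e1⟩ := exists_vec (f (vec (axisT 1) (inL_axisT 1)))
  obtain ⟨c, hc, e2⟩ := exists_vec (f (vec (axisT 2) (inL_axisT 2)))
  have axis4 : ∀ s, qip (embV (axisT s)) (embV (axisT s)) = 4 := fun s =>
    (qip_embV_iff _).2 (by revert s; decide +kernel)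
  have ortho : ∀ s, s ≠ 0 → qip (embV (axisT s)) (embV e0T) = 0 := by
    intro s hs
    rw [qip_embV _ _ (inL_axisT s) inL_e0T, ← emb_zero]
    congr 1
    revert s; decide +kernel
  have plane : ∀ s, s ≠ 0 → ∀ {d : T} (hd : InL d = true), f (vec (axisT s) (inL_axisT s)) = vec d hd →
      ∃ r ∈ planeLines, ∃ u ∈ unitTab, d = mulTF u r := by
    intro s hs d hd e
    refine exists_plane hd ?_ ?_
    · have h4 := hf.2.2 (vec (axisT s) (inL_axisT s)) (vec (axisT s) (inL_axisT s))
      rw [e] at h4; exact h4.trans (axis4 s)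
    · have h4 := hf.2.2 (vec (axisT s) (inL_axisT s)) e0
      rw [e, h] at h4; exact h4.trans (ortho s hs)
  have t := fun {x : T} (hx : InL x = true) => testM_of_auto hf inL_e0T hb hc hx h e1 e2
  obtain ⟨hr, hz0, hz152⟩ := test_checks
  obtain ⟨r, hrm, u, hu, eb⟩ := plane 1 (by decide) hb e1
  obtain ⟨r', hrm', u', hu', ec⟩ := plane 2 (by decide) hc e2
  have hA : b ∈ fixTab.map Prod.fst := by
    have hk := second_checks
    simp only [List.all_eq_true, Bool.or_eq_true, Bool.not_eq_true', List.contains_iff_mem] at hk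
    rcases hk r hrm u hu with hn | hn
    · rw [← eb, ← testM_third_zero (c := c) hz0, t (inL_rep (by norm_num))] at hn; simp at hn
    · exact eb ▸ hn
  have hB : c ∈ fixTab.map Prod.snd := by
    have hk := third_checks
    simp only [List.all_eq_true, Bool.or_eq_true, Bool.not_eq_true', List.contains_iff_mem] at hk
    rcases hk r' hrm' u' hu' with hn | hn
    · rw [← ec, ← testM_second_zero (b := b) hz152, t (inL_rep (by norm_num))] at hn; simp at hn
    · exact ec ▸ hn
  obtain ⟨p, hp, ep⟩ := List.mem_map.1 hA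
  obtain ⟨q, hq, eq'⟩ := List.mem_map.1 hB
  have hk := pair_checks
  simp only [List.all_eq_true, Bool.or_eq_true, Bool.not_eq_true', List.contains_iff_mem] at hk
  have hbc : (b, c) ∈ fixTab := by
    rcases hk p hp q hq with hn | hn
    · rw [ep, eq', t (inL_rep (by norm_num))] at hn; simp at hn
    · rwa [ep, eq'] at hn
  obtain ⟨n, hn, en⟩ := List.mem_iff_getElem.1 hbc
  have hl : fixTab.length = 32 := rfl
  have hnn : fixImg n = (b, c) := by rw [fixImg, List.getD_eq_getElem (hn := hn), en]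
  exact ⟨n, hl ▸ hn, by rw [e1, hnn]; rfl, by rw [e2, hnn]; rfl⟩

theorem ext_axis' {f g : Equiv.Perm icoLeech} (hf : f ∈ autGroup) (hg : g ∈ autGroup) (h0 : f e0 = g e0)
    (h1 : f (vec (axisT 1) (inL_axisT 1)) = g (vec (axisT 1) (inL_axisT 1)))
    (h2 : f (vec (axisT 2) (inL_axisT 2)) = g (vec (axisT 2) (inL_axisT 2))) : f = g :=
  ext_axis hf hg fun s => by fin_cases s <;> assumption

theorem autGroup_eq : autGroup = twoJ2 := by
  refine le_antisymm (fun f hf => ?_) twoJ2_le_autGroup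
  obtain ⟨g, hg, e⟩ := exists_map (x := f e0) (by rw [hf.2.2]; exact qip_e0)
  have hh : g⁻¹ * f ∈ autGroup := mul_mem (inv_mem (twoJ2_le_autGroup hg)) hf
  have h0 : (g⁻¹ * f) e0 = e0 := by
    rw [Equiv.Perm.mul_apply, ← e, Equiv.Perm.coe_inv, Equiv.symm_apply_apply]
  obtain ⟨n, hn, a1, a2⟩ := exists_fix hh h0
  obtain ⟨k, hk, k0, k1, k2⟩ := fix_spec n hn
  have e' : g⁻¹ * f = k := ext_axis' hh (twoJ2_le_autGroup hk) (h0.trans k0.symm)
    (Subtype.ext (a1.trans k1.symm)) (Subtype.ext (a2.trans k2.symm))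
  have := mul_mem hg (e' ▸ hk : g⁻¹ * f ∈ twoJ2)
  rwa [mul_inv_cancel_left] at this

theorem fixImg_injective {m n : ℕ} (hm : m < 32) (hn : n < 32) (h : fixImg m = fixImg n) : m = n := by
  have hd := nodup_of_ndB fix_distinct
  refine (List.Nodup.getElem_inj_iff hd (hi := by simpa using hm) (hj := by simpa using hn)).1 ?_
  simp only [List.getElem_map, List.getElem_range, h]

theorem card_stabilizer_e0 : Nat.card (MulAction.stabilizer twoJ2 e0) = 32 := by
  classical
  choose g hg g0 g1 g2 using fix_spec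
  let F : Fin 32 → MulAction.stabilizer twoJ2 e0 := fun n =>
    ⟨⟨g n n.2, hg n n.2⟩, MulAction.mem_stabilizer_iff.2 (g0 n n.2)⟩
  have hF : Function.Bijective F := by
    refine ⟨fun m n h => ?_, fun f => ?_⟩
    · have h' : g m m.2 = g n n.2 := congrArg (fun x : MulAction.stabilizer twoJ2 e0 => (x : twoJ2).1) h
      refine Fin.ext (fixImg_injective m.2 n.2 (Prod.ext (embV_injective ?_) (embV_injective ?_)))
      · rw [← g1 m m.2, ← g1 n n.2, h']
      · rw [← g2 m m.2, ← g2 n n.2, h']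
    · have h0 : (f : twoJ2).1 e0 = e0 := MulAction.mem_stabilizer_iff.1 f.2
      obtain ⟨n, hn, a1, a2⟩ := exists_fix (twoJ2_le_autGroup f.1.2) h0
      refine ⟨⟨n, hn⟩, Subtype.ext (Subtype.ext ?_)⟩
      exact ext_axis' (twoJ2_le_autGroup (hg n hn)) (twoJ2_le_autGroup f.1.2) ((g0 n hn).trans h0.symm)
        (Subtype.ext ((g1 n hn).trans a1.symm)) (Subtype.ext ((g2 n hn).trans a2.symm))
  rw [← Nat.card_eq_of_bijective F hF, Nat.card_fin]

theorem card_twoJ2 : Nat.card twoJ2 = 1209600 := by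
  have horb : MulAction.orbit twoJ2 e0 = Set.range fun p : Fin 120 × Fin 315 =>
      vec (mulT (unit p.1) (rep p.2)) (inL_mulT (inP_unit p.1.2) (inL_rep p.2.2)) := by
    ext x
    constructor
    · rintro ⟨g, rfl⟩
      obtain ⟨k, hk, i, hi, e⟩ := exists_index (x := g.1 e0)
        (by rw [(twoJ2_le_autGroup g.2).2.2]; exact qip_e0)
      exact ⟨(⟨k, hk⟩, ⟨i, hi⟩), Subtype.ext e.symm⟩
    · rintro ⟨p, rfl⟩
      obtain ⟨g, hg, e⟩ := reach_line p.2.2 p.1 p.1.2
      exact ⟨⟨g, hg⟩, Subtype.ext e⟩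
  have hinj : Function.Injective fun p : Fin 120 × Fin 315 =>
      vec (mulT (unit p.1) (rep p.2)) (inL_mulT (inP_unit p.1.2) (inL_rep p.2.2)) :=
    fun p q h => minVec_injective (congrArg Subtype.val h)
  have h := (MulAction.stabilizer twoJ2 e0).index_mul_card
  rw [card_stabilizer_e0, MulAction.index_stabilizer, horb, Set.ncard_range_of_injective hinj] at h
  rw [← h]; simp

/-- Negation. -/
noncomputable def negPerm : Equiv.Perm icoLeech :=
  Function.Involutive.toPerm
    (fun x => ⟨fun t => (-1 : ℍ[ℝ]) * (x : Fin 3 → ℍ[ℝ]) t,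
      smul_mem_icoLeech (neg_mem (one_mem icosians)) x.2⟩)
    fun x => Subtype.ext (funext fun t => by simp)

theorem negPerm_apply (x : icoLeech) : (negPerm x : Fin 3 → ℍ[ℝ]) = -(x : Fin 3 → ℍ[ℝ]) := by
  funext t
  show (-1 : ℍ[ℝ]) * (x : Fin 3 → ℍ[ℝ]) t = -(x : Fin 3 → ℍ[ℝ]) t
  rw [neg_one_mul]

theorem negPerm_mem : negPerm ∈ twoJ2 := by
  rw [← autGroup_eq]
  refine ⟨fun x y z h => ?_, fun a ha x z h => ?_, fun x y => ?_⟩
  · rw [negPerm_apply, negPerm_apply, negPerm_apply, h, neg_add]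
  · rw [negPerm_apply, negPerm_apply, h]
    funext t; simp
  · rw [negPerm_apply, negPerm_apply]
    simp [qip, star_neg, neg_mul_neg]

theorem negPerm_comm {f : Equiv.Perm icoLeech} (hf : f ∈ autGroup) : f * negPerm = negPerm * f := by
  refine Equiv.ext fun x => Subtype.ext ?_
  rw [Equiv.Perm.mul_apply, Equiv.Perm.mul_apply]
  exact hf.2.1 (-1) (neg_mem (one_mem _)) x (negPerm x) rfl

theorem negPerm_ne_one : negPerm ≠ 1 := by
  intro h
  have h2 := congrArg QuaternionAlgebra.re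
    (congrFun (congrArg (fun f : Equiv.Perm icoLeech => (f e0 : Fin 3 → ℍ[ℝ])) h) 0)
  rw [negPerm_apply] at h2
  simp [e0, vec, e0T, embV, emb_four, ← one_add_one_eq_two] at h2
  linarith

theorem central_cases {z : Equiv.Perm icoLeech} (hz : z ∈ twoJ2) (hc : ∀ g ∈ twoJ2, g * z = z * g) :
    z = 1 ∨ z = negPerm := by
  have hza := twoJ2_le_autGroup hz
  have hr : rootLine < 315 := by
    have h := root_check
    simp only [Bool.and_eq_true, Nat.blt_eq] at h
    exact h.1
  have hrep : rep rootLine = e0T := by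
    have h := root_check
    simp only [Bool.and_eq_true, beq_iff_eq] at h
    exact h.2
  have hR : repV ⟨rootLine, hr⟩ = e0 := Subtype.ext (congrArg embV hrep)
  obtain ⟨k, hk, i, hi, e⟩ := exists_index (x := z e0) (by rw [hza.2.2]; exact qip_e0)
  have hi' : (⟨i, hi⟩ : Fin 315) = ⟨rootLine, hr⟩ := by
    refine lineRefl_injective (Equiv.ext fun x => Subtype.ext ?_)
    have h1 := conj_reflPerm hza (repV ⟨rootLine, hr⟩) (qip_repV _)
    rw [show z * reflPerm (repV ⟨rootLine, hr⟩) (qip_repV _) * z⁻¹ =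
        reflPerm (repV ⟨rootLine, hr⟩) (qip_repV _) by
      rw [show z * reflPerm (repV ⟨rootLine, hr⟩) (qip_repV _) =
        reflPerm (repV ⟨rootLine, hr⟩) (qip_repV _) * z from (hc _ (lineRefl_mem ⟨rootLine, hr⟩)).symm,
        mul_inv_cancel_right]] at h1
    rw [lineRefl, lineRefl, reflPerm_apply, h1, reflPerm_apply, hR, e]
    exact (qrefl_mulT hk (inL_rep hi) _).symm
  obtain rfl : i = rootLine := congrArg Fin.val hi'
  rw [hrep] at e
  have hzv : z e0 = vec (mulT (unit k) e0T) (inL_mulT (inP_unit hk) inL_e0T) := Subtype.ext e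
  have hcomm : ∀ l < 120, mulP (unit k) (unit l) = mulP (unit l) (unit k) := by
    intro l hl
    obtain ⟨g, hg, eg⟩ := reach_unit hl
    have hgv : g e0 = vec (mulT (unit l) e0T) (inL_mulT (inP_unit hl) inL_e0T) := Subtype.ext eg
    have h1 := congrArg (fun f : Equiv.Perm icoLeech => f e0) (hc g hg)
    simp only [Equiv.Perm.mul_apply] at h1
    rw [hzv, hgv, auto_mulT (twoJ2_le_autGroup hg) hk inL_e0T _ hgv,
      auto_mulT hza hl inL_e0T _ hzv] at h1
    have h2 := congrArg Prod.fst (vec_inj h1)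
    have h4 : InP (4 : Q) = true := by decide +kernel
    simp only [mulT, e0T, mulP_assoc' (inP_unit hk) (inP_unit hl) h4,
      mulP_assoc' (inP_unit hl) (inP_unit hk) h4] at h2
    have e4 : ∀ y : Q, mulP y 4 = 2 * y := fun y => by
      rw [mulP, show y * 4 = 2 * (2 * y) by noncomm_ring, halve_two_mul]
    rw [e4, e4] at h2
    exact two_mul_injective h2
  have hu : unit k = 2 ∨ unit k = -2 := by
    have h := central_checks
    simp only [List.all_eq_true, Bool.or_eq_true, Bool.not_eq_true', beq_iff_eq] at h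
    rcases h _ (unit_mem_unitTab hk) with (h' | h') | h'
    · exfalso
      rw [List.all_eq_false] at h'
      obtain ⟨a, ha, h'⟩ := h'
      have hs := scal_checks
      simp only [List.all_eq_true, Bool.and_eq_true, Nat.blt_eq, beq_iff_eq] at hs
      rw [← mulP_eq, ← mulP_eq, hcomm _ (hs a ha).1.1] at h'
      simp at h'
    · exact Or.inl h'
    · exact Or.inr h'
  have haxis : ∀ s, (z (vec (axisT s) (inL_axisT s)) : Fin 3 → ℍ[ℝ]) = embV (mulT (unit k) (axisT s)) := by
    intro s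
    obtain ⟨g, hg, eg⟩ := exists_map (x := vec (axisT s) (inL_axisT s))
      ((qip_embV_iff _).2 (by revert s; decide +kernel))
    have h1 := congrArg (fun f : Equiv.Perm icoLeech => f e0) (hc g hg)
    simp only [Equiv.Perm.mul_apply] at h1
    rw [← eg, ← h1, hzv, auto_mulT (twoJ2_le_autGroup hg) hk inL_e0T (inL_axisT s) eg]
    rfl
  rcases hu with h | h
  · left
    refine ext_axis hza (one_mem _) fun s => Subtype.ext ?_
    rw [haxis, h, mulT_two (inL_axisT s)]
    rfl
  · right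
    refine ext_axis hza (twoJ2_le_autGroup negPerm_mem) fun s => Subtype.ext ?_
    rw [haxis, h, negPerm_apply, embV_mulT (inP_neg inP_two) (inL_axisT s), emb_neg, emb_two]
    funext t
    simp [vec]

theorem card_center : Nat.card (Subgroup.center twoJ2) = 2 ∧
    (⟨negPerm, negPerm_mem⟩ : twoJ2) ∈ Subgroup.center twoJ2 := by
  have hn : (⟨negPerm, negPerm_mem⟩ : twoJ2) ∈ Subgroup.center twoJ2 :=
    Subgroup.mem_center_iff.2 fun g => Subtype.ext (negPerm_comm (twoJ2_le_autGroup g.2))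
  refine ⟨?_, hn⟩
  have e : (Subgroup.center twoJ2 : Set twoJ2) = {1, ⟨negPerm, negPerm_mem⟩} := by
    ext z
    refine ⟨fun hz => ?_, ?_⟩
    · rcases central_cases z.2 (fun g hg =>
        congrArg Subtype.val (Subgroup.mem_center_iff.1 hz ⟨g, hg⟩)) with h | h
      · exact Or.inl (Subtype.ext h)
      · exact Or.inr (Subtype.ext h)
    · rintro (rfl | rfl)
      · exact one_mem _
      · exact hn
  rw [← SetLike.coe_sort_coe, Nat.card_coe_set_eq, e, Set.ncard_pair]
  exact fun h => negPerm_ne_one (congrArg Subtype.val h).symm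

theorem card_J2 : Nat.card J2 = 604800 := by
  have h := Subgroup.card_eq_card_quotient_mul_card_subgroup (Subgroup.center twoJ2)
  rw [card_twoJ2, card_center.1] at h
  show Nat.card (twoJ2 ⧸ Subgroup.center twoJ2) = 604800
  omega

end CfsgLib.Ico
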