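import Cfsg.Agent.Lib.Ico.Coord

/-! Certificate tables for the group generated by the reflections. -/

set_option autoImplicit false
set_option maxRecDepth 8000

namespace CfsgLib.Ico

/-- The line of the first axis. -/
def rootLine : ℕ := 158

/-- Tree on the lines: line, parent, reflection, unit. -/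
def treeTab : List (ℕ × ℕ × ℕ × ℕ) :=
  [
  (157, 158, 0, 0), (306, 158, 1, 0), (307, 158, 2, 0), (308, 158, 3, 0), (309, 158, 4, 0), (310, 158, 5, 0),
  (311, 158, 6, 0), (312, 158, 7, 0), (313, 158, 8, 0), (209, 158, 9, 86), (208, 158, 10, 86), (150, 158, 11, 25),
  (164, 158, 12, 25), (300, 158, 13, 0), (301, 158, 14, 0), (239, 158, 15, 43), (238, 158, 16, 43), (149, 158, 17, 30),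
  (165, 158, 18, 30), (294, 158, 19, 0), (295, 158, 20, 0), (292, 158, 21, 0), (293, 158, 22, 0), (148, 158, 23, 104),
  (166, 158, 24, 104), (237, 158, 25, 88), (236, 158, 26, 88), (286, 158, 27, 0), (287, 158, 28, 0), (151, 158, 29, 108),
  (163, 158, 30, 108), (203, 158, 31, 41), (202, 158, 32, 41), (278, 158, 35, 0), (279, 158, 36, 0), (276, 158, 37, 0),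
  (277, 158, 38, 0), (272, 158, 41, 0), (273, 158, 42, 0), (266, 158, 47, 0), (267, 158, 48, 0), (233, 158, 49, 77),
  (232, 158, 50, 77), (262, 158, 51, 0), (263, 158, 52, 0), (199, 158, 55, 75), (198, 158, 56, 75), (256, 158, 57, 0),
  (257, 158, 58, 0), (250, 158, 63, 0), (251, 158, 64, 0), (197, 158, 65, 72), (196, 158, 66, 72), (244, 158, 69, 0),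
  (245, 158, 70, 0), (227, 158, 71, 74), (226, 158, 72, 74), (240, 158, 73, 0), (241, 158, 74, 0), (16, 158, 75, 41),
  (15, 158, 76, 62), (26, 158, 77, 72), (25, 158, 78, 51), (234, 158, 79, 0), (235, 158, 80, 0), (50, 158, 81, 75),
  (49, 158, 82, 54), (230, 158, 83, 0), (231, 158, 84, 0), (228, 158, 85, 0), (229, 158, 86, 0), (72, 158, 87, 65),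
  (71, 158, 88, 86), (222, 158, 91, 0), (223, 158, 92, 0), (220, 158, 93, 0), (221, 158, 94, 0), (216, 158, 97, 0),
  (217, 158, 98, 0), (210, 158, 103, 0), (211, 158, 104, 0), (10, 158, 105, 53), (9, 158, 106, 74), (206, 158, 107, 0),
  (207, 158, 108, 0), (204, 158, 109, 0), (205, 158, 110, 0), (32, 158, 111, 43), (31, 158, 112, 64), (200, 158, 113, 0),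
  (201, 158, 114, 0), (56, 158, 115, 77), (55, 158, 116, 56), (66, 158, 117, 88), (65, 158, 118, 67), (194, 158, 119, 0),
  (195, 158, 120, 0), (185, 158, 122, 0), (186, 158, 123, 0), (187, 158, 124, 0), (188, 158, 125, 0), (189, 158, 126, 0),
  (190, 158, 127, 0), (191, 158, 128, 0), (192, 158, 129, 0), (176, 158, 131, 0), (177, 158, 132, 0), (178, 158, 133, 0),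
  (179, 158, 134, 0), (180, 158, 135, 0), (181, 158, 136, 0), (182, 158, 137, 0), (183, 158, 138, 0), (167, 158, 140, 0),
  (168, 158, 141, 0), (169, 158, 142, 0), (170, 158, 143, 0), (171, 158, 144, 0), (172, 158, 145, 0), (173, 158, 146, 0),
  (174, 158, 147, 0), (156, 158, 152, 0), (140, 158, 167, 0), (141, 158, 168, 0), (142, 158, 169, 0), (143, 158, 170, 0),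
  (144, 158, 171, 0), (145, 158, 172, 0), (146, 158, 173, 0), (147, 158, 174, 0), (131, 158, 176, 0), (132, 158, 177, 0),
  (133, 158, 178, 0), (134, 158, 179, 0), (135, 158, 180, 0), (136, 158, 181, 0), (137, 158, 182, 0), (138, 158, 183, 0),
  (122, 158, 185, 0), (123, 158, 186, 0), (124, 158, 187, 0), (125, 158, 188, 0), (126, 158, 189, 0), (127, 158, 190, 0),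
  (128, 158, 191, 0), (129, 158, 192, 0), (119, 158, 194, 0), (120, 158, 195, 0), (249, 158, 196, 67), (248, 158, 197, 88),
  (259, 158, 198, 56), (258, 158, 199, 77), (113, 158, 200, 0), (114, 158, 201, 0), (283, 158, 202, 64), (282, 158, 203, 43),
  (109, 158, 204, 0), (110, 158, 205, 0), (107, 158, 206, 0), (108, 158, 207, 0), (305, 158, 208, 74), (304, 158, 209, 53),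
  (103, 158, 210, 0), (104, 158, 211, 0), (97, 158, 216, 0), (98, 158, 217, 0), (93, 158, 220, 0), (94, 158, 221, 0),
  (91, 158, 222, 0), (92, 158, 223, 0), (243, 158, 226, 86), (242, 158, 227, 65), (85, 158, 228, 0), (86, 158, 229, 0),
  (83, 158, 230, 0), (84, 158, 231, 0), (265, 158, 232, 54), (264, 158, 233, 75), (79, 158, 234, 0), (80, 158, 235, 0),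
  (289, 158, 236, 51), (288, 158, 237, 72), (299, 158, 238, 62), (298, 158, 239, 41), (73, 158, 240, 0), (74, 158, 241, 0),
  (88, 158, 242, 53), (87, 158, 243, 53), (69, 158, 244, 0), (70, 158, 245, 0), (118, 158, 248, 51), (117, 158, 249, 51),
  (63, 158, 250, 0), (64, 158, 251, 0), (57, 158, 256, 0), (58, 158, 257, 0), (116, 158, 258, 54), (115, 158, 259, 54),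
  (51, 158, 262, 0), (52, 158, 263, 0), (82, 158, 264, 56), (81, 158, 265, 56), (47, 158, 266, 0), (48, 158, 267, 0),
  (41, 158, 272, 0), (42, 158, 273, 0), (37, 158, 276, 0), (38, 158, 277, 0), (35, 158, 278, 0), (36, 158, 279, 0),
  (112, 158, 282, 62), (111, 158, 283, 62), (27, 158, 286, 0), (28, 158, 287, 0), (78, 158, 288, 67), (77, 158, 289, 67),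
  (21, 158, 292, 0), (22, 158, 293, 0), (19, 158, 294, 0), (20, 158, 295, 0), (76, 158, 298, 64), (75, 158, 299, 64),
  (13, 158, 300, 0), (14, 158, 301, 0), (106, 158, 304, 65), (105, 158, 305, 65), (1, 158, 306, 0), (2, 158, 307, 0),
  (3, 158, 308, 0), (4, 158, 309, 0), (5, 158, 310, 0), (6, 158, 311, 0), (7, 158, 312, 0), (8, 158, 313, 0),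
  (303, 157, 11, 0), (302, 157, 12, 0), (161, 157, 13, 95), (153, 157, 14, 95), (297, 157, 17, 0), (296, 157, 18, 0),
  (160, 157, 19, 116), (154, 157, 20, 116), (159, 157, 21, 18), (155, 157, 22, 18), (291, 157, 23, 0), (290, 157, 24, 0),
  (162, 157, 27, 60), (152, 157, 28, 60), (285, 157, 29, 0), (284, 157, 30, 0), (281, 157, 33, 0), (280, 157, 34, 0),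
  (275, 157, 39, 0), (274, 157, 40, 0), (271, 157, 43, 0), (270, 157, 44, 0), (269, 157, 45, 0), (268, 157, 46, 0),
  (261, 157, 53, 0), (260, 157, 54, 0), (255, 157, 59, 0), (254, 157, 60, 0), (253, 157, 61, 0), (252, 157, 62, 0),
  (247, 157, 67, 0), (246, 157, 68, 0), (225, 157, 89, 0), (224, 157, 90, 0), (219, 157, 95, 0), (218, 157, 96, 0),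
  (215, 157, 99, 0), (214, 157, 100, 0), (213, 157, 101, 0), (212, 157, 102, 0), (102, 157, 212, 0), (101, 157, 213, 0),
  (100, 157, 214, 0), (99, 157, 215, 0), (96, 157, 218, 0), (95, 157, 219, 0), (90, 157, 224, 0), (89, 157, 225, 0),
  (68, 157, 246, 0), (67, 157, 247, 0), (62, 157, 252, 0), (61, 157, 253, 0), (60, 157, 254, 0), (59, 157, 255, 0),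
  (54, 157, 260, 0), (53, 157, 261, 0), (46, 157, 268, 0), (45, 157, 269, 0), (44, 157, 270, 0), (43, 157, 271, 0),
  (40, 157, 274, 0), (39, 157, 275, 0), (34, 157, 280, 0), (33, 157, 281, 0), (30, 157, 284, 0), (29, 157, 285, 0),
  (24, 157, 290, 0), (23, 157, 291, 0), (18, 157, 296, 0), (17, 157, 297, 0), (12, 157, 302, 0), (11, 157, 303, 0),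
  (184, 306, 2, 96), (121, 306, 3, 23), (139, 306, 4, 26), (175, 306, 5, 81), (193, 306, 6, 16), (130, 306, 7, 14),
  (0, 306, 15, 73), (314, 209, 211, 3)]

/-- Two units and words of reflections realising them on the axis. -/
def scalTab : List (ℕ × List ℕ) :=
  [(107, [33, 29]), (74, [0, 9, 73])]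

/-- Tree on the units: unit, parent, generator. -/
def scalTree : List (ℕ × ℕ × ℕ) :=
  [
  (107, 0, 0), (74, 0, 1), (3, 107, 0), (40, 107, 1), (78, 74, 0), (65, 74, 1), (118, 3, 0), (53, 3, 1),
  (71, 40, 0), (42, 40, 1), (95, 78, 1), (18, 65, 0), (61, 118, 1), (57, 53, 0), (86, 53, 1), (5, 71, 1),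
  (73, 42, 0), (11, 95, 0), (103, 95, 1), (20, 18, 1), (92, 61, 0), (63, 61, 1), (111, 57, 1), (34, 86, 0),
  (66, 5, 0), (32, 5, 1), (114, 73, 1), (101, 11, 1), (58, 103, 0), (112, 20, 0), (113, 20, 1), (14, 92, 1),
  (52, 63, 0), (23, 111, 0), (83, 111, 1), (36, 34, 1), (10, 66, 1), (104, 32, 0), (7, 114, 0), (50, 114, 1),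
  (21, 101, 1), (48, 58, 1), (93, 112, 1), (87, 14, 0), (16, 14, 1), (98, 52, 1), (81, 23, 1), (37, 83, 0),
  (96, 36, 0), (97, 36, 1), (69, 10, 1), (110, 104, 1), (64, 7, 1), (55, 21, 0), (67, 48, 0), (33, 48, 1),
  (26, 93, 1), (22, 87, 1), (84, 16, 0), (1, 98, 0), (31, 98, 1), (9, 81, 1), (29, 37, 1), (109, 96, 1),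
  (51, 69, 0), (28, 110, 0), (68, 110, 1), (54, 64, 1), (6, 55, 1), (62, 67, 1), (70, 26, 0), (90, 22, 1),
  (94, 84, 1), (43, 1, 1), (76, 9, 0), (88, 29, 0), (17, 29, 1), (45, 109, 1), (115, 51, 1), (59, 28, 1),
  (44, 54, 0), (117, 6, 0), (99, 6, 1), (119, 62, 1), (39, 70, 1), (72, 90, 0), (47, 94, 0), (89, 94, 1),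
  (75, 43, 1), (15, 76, 1), (41, 88, 1), (91, 45, 0), (2, 115, 0), (77, 115, 1), (12, 59, 1), (46, 44, 1),
  (4, 119, 0), (49, 39, 0), (116, 72, 1), (38, 47, 1), (25, 75, 0), (106, 15, 0), (79, 15, 1), (108, 41, 1),
  (60, 91, 1), (82, 12, 0), (105, 46, 0), (100, 4, 1), (8, 116, 0), (56, 116, 1), (24, 38, 1), (27, 25, 1),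
  (13, 108, 0), (30, 60, 0), (19, 82, 1), (35, 100, 0), (102, 24, 0), (85, 27, 0), (80, 13, 1)]

/-- Elements fixing the axis: parent and reflection. -/
def fixPar : List (ℕ × ℕ) :=
  [
  (0, 0), (0, 148), (0, 149), (0, 150), (0, 151), (0, 156), (0, 157), (0, 163),
  (0, 164), (0, 165), (0, 166), (1, 149), (1, 150), (1, 151), (1, 156), (1, 157),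
  (1, 163), (1, 164), (1, 165), (1, 166), (2, 150), (2, 151), (2, 156), (2, 157),
  (2, 163), (2, 164), (3, 151), (3, 156), (3, 157), (3, 163), (4, 156), (4, 157)]

/-- Images of the other two axes under these elements. -/
def fixTab : List ((Q × Q × Q) × (Q × Q × Q)) :=
  [
  ((⟨⟨0, 0⟩, ⟨0, 0⟩, ⟨0, 0⟩, ⟨0, 0⟩⟩, ⟨⟨4, 0⟩, ⟨0, 0⟩, ⟨0, 0⟩, ⟨0, 0⟩⟩, ⟨⟨0, 0⟩, ⟨0, 0⟩, ⟨0, 0⟩, ⟨0, 0⟩⟩),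
    (⟨⟨0, 0⟩, ⟨0, 0⟩, ⟨0, 0⟩, ⟨0, 0⟩⟩, ⟨⟨0, 0⟩, ⟨0, 0⟩, ⟨0, 0⟩, ⟨0, 0⟩⟩, ⟨⟨4, 0⟩, ⟨0, 0⟩, ⟨0, 0⟩, ⟨0, 0⟩⟩)),
  ((⟨⟨0, 0⟩, ⟨0, 0⟩, ⟨0, 0⟩, ⟨0, 0⟩⟩, ⟨⟨0, 0⟩, ⟨0, 0⟩, ⟨0, 0⟩, ⟨0, 0⟩⟩, ⟨⟨4, 0⟩, ⟨0, 0⟩, ⟨0, 0⟩, ⟨0, 0⟩⟩),
    (⟨⟨0, 0⟩, ⟨0, 0⟩, ⟨0, 0⟩, ⟨0, 0⟩⟩, ⟨⟨4, 0⟩, ⟨0, 0⟩, ⟨0, 0⟩, ⟨0, 0⟩⟩, ⟨⟨0, 0⟩, ⟨0, 0⟩, ⟨0, 0⟩, ⟨0, 0⟩⟩)),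
  ((⟨⟨0, 0⟩, ⟨0, 0⟩, ⟨0, 0⟩, ⟨0, 0⟩⟩, ⟨⟨0, 0⟩, ⟨0, 0⟩, ⟨0, 0⟩, ⟨0, 0⟩⟩, ⟨⟨0, 0⟩, ⟨4, 0⟩, ⟨0, 0⟩, ⟨0, 0⟩⟩),
    (⟨⟨0, 0⟩, ⟨0, 0⟩, ⟨0, 0⟩, ⟨0, 0⟩⟩, ⟨⟨0, 0⟩, ⟨-4, 0⟩, ⟨0, 0⟩, ⟨0, 0⟩⟩, ⟨⟨0, 0⟩, ⟨0, 0⟩, ⟨0, 0⟩, ⟨0, 0⟩⟩)),
  ((⟨⟨0, 0⟩, ⟨0, 0⟩, ⟨0, 0⟩, ⟨0, 0⟩⟩, ⟨⟨0, 0⟩, ⟨0, 0⟩, ⟨0, 0⟩, ⟨0, 0⟩⟩, ⟨⟨0, 0⟩, ⟨0, 0⟩, ⟨4, 0⟩, ⟨0, 0⟩⟩),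
    (⟨⟨0, 0⟩, ⟨0, 0⟩, ⟨0, 0⟩, ⟨0, 0⟩⟩, ⟨⟨0, 0⟩, ⟨0, 0⟩, ⟨-4, 0⟩, ⟨0, 0⟩⟩, ⟨⟨0, 0⟩, ⟨0, 0⟩, ⟨0, 0⟩, ⟨0, 0⟩⟩)),
  ((⟨⟨0, 0⟩, ⟨0, 0⟩, ⟨0, 0⟩, ⟨0, 0⟩⟩, ⟨⟨0, 0⟩, ⟨0, 0⟩, ⟨0, 0⟩, ⟨0, 0⟩⟩, ⟨⟨0, 0⟩, ⟨0, 0⟩, ⟨0, 0⟩, ⟨4, 0⟩⟩),
    (⟨⟨0, 0⟩, ⟨0, 0⟩, ⟨0, 0⟩, ⟨0, 0⟩⟩, ⟨⟨0, 0⟩, ⟨0, 0⟩, ⟨0, 0⟩, ⟨-4, 0⟩⟩, ⟨⟨0, 0⟩, ⟨0, 0⟩, ⟨0, 0⟩, ⟨0, 0⟩⟩)),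
  ((⟨⟨0, 0⟩, ⟨0, 0⟩, ⟨0, 0⟩, ⟨0, 0⟩⟩, ⟨⟨4, 0⟩, ⟨0, 0⟩, ⟨0, 0⟩, ⟨0, 0⟩⟩, ⟨⟨0, 0⟩, ⟨0, 0⟩, ⟨0, 0⟩, ⟨0, 0⟩⟩),
    (⟨⟨0, 0⟩, ⟨0, 0⟩, ⟨0, 0⟩, ⟨0, 0⟩⟩, ⟨⟨0, 0⟩, ⟨0, 0⟩, ⟨0, 0⟩, ⟨0, 0⟩⟩, ⟨⟨-4, 0⟩, ⟨0, 0⟩, ⟨0, 0⟩, ⟨0, 0⟩⟩)),
  ((⟨⟨0, 0⟩, ⟨0, 0⟩, ⟨0, 0⟩, ⟨0, 0⟩⟩, ⟨⟨-4, 0⟩, ⟨0, 0⟩, ⟨0, 0⟩, ⟨0, 0⟩⟩, ⟨⟨0, 0⟩, ⟨0, 0⟩, ⟨0, 0⟩, ⟨0, 0⟩⟩),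
    (⟨⟨0, 0⟩, ⟨0, 0⟩, ⟨0, 0⟩, ⟨0, 0⟩⟩, ⟨⟨0, 0⟩, ⟨0, 0⟩, ⟨0, 0⟩, ⟨0, 0⟩⟩, ⟨⟨4, 0⟩, ⟨0, 0⟩, ⟨0, 0⟩, ⟨0, 0⟩⟩)),
  ((⟨⟨0, 0⟩, ⟨0, 0⟩, ⟨0, 0⟩, ⟨0, 0⟩⟩, ⟨⟨0, 0⟩, ⟨0, 0⟩, ⟨0, 0⟩, ⟨0, 0⟩⟩, ⟨⟨0, 0⟩, ⟨0, 0⟩, ⟨0, 0⟩, ⟨-4, 0⟩⟩),
    (⟨⟨0, 0⟩, ⟨0, 0⟩, ⟨0, 0⟩, ⟨0, 0⟩⟩, ⟨⟨0, 0⟩, ⟨0, 0⟩, ⟨0, 0⟩, ⟨4, 0⟩⟩, ⟨⟨0, 0⟩, ⟨0, 0⟩, ⟨0, 0⟩, ⟨0, 0⟩⟩)),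
  ((⟨⟨0, 0⟩, ⟨0, 0⟩, ⟨0, 0⟩, ⟨0, 0⟩⟩, ⟨⟨0, 0⟩, ⟨0, 0⟩, ⟨0, 0⟩, ⟨0, 0⟩⟩, ⟨⟨0, 0⟩, ⟨0, 0⟩, ⟨-4, 0⟩, ⟨0, 0⟩⟩),
    (⟨⟨0, 0⟩, ⟨0, 0⟩, ⟨0, 0⟩, ⟨0, 0⟩⟩, ⟨⟨0, 0⟩, ⟨0, 0⟩, ⟨4, 0⟩, ⟨0, 0⟩⟩, ⟨⟨0, 0⟩, ⟨0, 0⟩, ⟨0, 0⟩, ⟨0, 0⟩⟩)),
  ((⟨⟨0, 0⟩, ⟨0, 0⟩, ⟨0, 0⟩, ⟨0, 0⟩⟩, ⟨⟨0, 0⟩, ⟨0, 0⟩, ⟨0, 0⟩, ⟨0, 0⟩⟩, ⟨⟨0, 0⟩, ⟨-4, 0⟩, ⟨0, 0⟩, ⟨0, 0⟩⟩),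
    (⟨⟨0, 0⟩, ⟨0, 0⟩, ⟨0, 0⟩, ⟨0, 0⟩⟩, ⟨⟨0, 0⟩, ⟨4, 0⟩, ⟨0, 0⟩, ⟨0, 0⟩⟩, ⟨⟨0, 0⟩, ⟨0, 0⟩, ⟨0, 0⟩, ⟨0, 0⟩⟩)),
  ((⟨⟨0, 0⟩, ⟨0, 0⟩, ⟨0, 0⟩, ⟨0, 0⟩⟩, ⟨⟨0, 0⟩, ⟨0, 0⟩, ⟨0, 0⟩, ⟨0, 0⟩⟩, ⟨⟨-4, 0⟩, ⟨0, 0⟩, ⟨0, 0⟩, ⟨0, 0⟩⟩),
    (⟨⟨0, 0⟩, ⟨0, 0⟩, ⟨0, 0⟩, ⟨0, 0⟩⟩, ⟨⟨-4, 0⟩, ⟨0, 0⟩, ⟨0, 0⟩, ⟨0, 0⟩⟩, ⟨⟨0, 0⟩, ⟨0, 0⟩, ⟨0, 0⟩, ⟨0, 0⟩⟩)),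
  ((⟨⟨0, 0⟩, ⟨0, 0⟩, ⟨0, 0⟩, ⟨0, 0⟩⟩, ⟨⟨0, 0⟩, ⟨-4, 0⟩, ⟨0, 0⟩, ⟨0, 0⟩⟩, ⟨⟨0, 0⟩, ⟨0, 0⟩, ⟨0, 0⟩, ⟨0, 0⟩⟩),
    (⟨⟨0, 0⟩, ⟨0, 0⟩, ⟨0, 0⟩, ⟨0, 0⟩⟩, ⟨⟨0, 0⟩, ⟨0, 0⟩, ⟨0, 0⟩, ⟨0, 0⟩⟩, ⟨⟨0, 0⟩, ⟨4, 0⟩, ⟨0, 0⟩, ⟨0, 0⟩⟩)),
  ((⟨⟨0, 0⟩, ⟨0, 0⟩, ⟨0, 0⟩, ⟨0, 0⟩⟩, ⟨⟨0, 0⟩, ⟨0, 0⟩, ⟨-4, 0⟩, ⟨0, 0⟩⟩, ⟨⟨0, 0⟩, ⟨0, 0⟩, ⟨0, 0⟩, ⟨0, 0⟩⟩),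
    (⟨⟨0, 0⟩, ⟨0, 0⟩, ⟨0, 0⟩, ⟨0, 0⟩⟩, ⟨⟨0, 0⟩, ⟨0, 0⟩, ⟨0, 0⟩, ⟨0, 0⟩⟩, ⟨⟨0, 0⟩, ⟨0, 0⟩, ⟨4, 0⟩, ⟨0, 0⟩⟩)),
  ((⟨⟨0, 0⟩, ⟨0, 0⟩, ⟨0, 0⟩, ⟨0, 0⟩⟩, ⟨⟨0, 0⟩, ⟨0, 0⟩, ⟨0, 0⟩, ⟨-4, 0⟩⟩, ⟨⟨0, 0⟩, ⟨0, 0⟩, ⟨0, 0⟩, ⟨0, 0⟩⟩),
    (⟨⟨0, 0⟩, ⟨0, 0⟩, ⟨0, 0⟩, ⟨0, 0⟩⟩, ⟨⟨0, 0⟩, ⟨0, 0⟩, ⟨0, 0⟩, ⟨0, 0⟩⟩, ⟨⟨0, 0⟩, ⟨0, 0⟩, ⟨0, 0⟩, ⟨4, 0⟩⟩)),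
  ((⟨⟨0, 0⟩, ⟨0, 0⟩, ⟨0, 0⟩, ⟨0, 0⟩⟩, ⟨⟨0, 0⟩, ⟨0, 0⟩, ⟨0, 0⟩, ⟨0, 0⟩⟩, ⟨⟨-4, 0⟩, ⟨0, 0⟩, ⟨0, 0⟩, ⟨0, 0⟩⟩),
    (⟨⟨0, 0⟩, ⟨0, 0⟩, ⟨0, 0⟩, ⟨0, 0⟩⟩, ⟨⟨4, 0⟩, ⟨0, 0⟩, ⟨0, 0⟩, ⟨0, 0⟩⟩, ⟨⟨0, 0⟩, ⟨0, 0⟩, ⟨0, 0⟩, ⟨0, 0⟩⟩)),
  ((⟨⟨0, 0⟩, ⟨0, 0⟩, ⟨0, 0⟩, ⟨0, 0⟩⟩, ⟨⟨0, 0⟩, ⟨0, 0⟩, ⟨0, 0⟩, ⟨0, 0⟩⟩, ⟨⟨4, 0⟩, ⟨0, 0⟩, ⟨0, 0⟩, ⟨0, 0⟩⟩),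
    (⟨⟨0, 0⟩, ⟨0, 0⟩, ⟨0, 0⟩, ⟨0, 0⟩⟩, ⟨⟨-4, 0⟩, ⟨0, 0⟩, ⟨0, 0⟩, ⟨0, 0⟩⟩, ⟨⟨0, 0⟩, ⟨0, 0⟩, ⟨0, 0⟩, ⟨0, 0⟩⟩)),
  ((⟨⟨0, 0⟩, ⟨0, 0⟩, ⟨0, 0⟩, ⟨0, 0⟩⟩, ⟨⟨0, 0⟩, ⟨0, 0⟩, ⟨0, 0⟩, ⟨4, 0⟩⟩, ⟨⟨0, 0⟩, ⟨0, 0⟩, ⟨0, 0⟩, ⟨0, 0⟩⟩),
    (⟨⟨0, 0⟩, ⟨0, 0⟩, ⟨0, 0⟩, ⟨0, 0⟩⟩, ⟨⟨0, 0⟩, ⟨0, 0⟩, ⟨0, 0⟩, ⟨0, 0⟩⟩, ⟨⟨0, 0⟩, ⟨0, 0⟩, ⟨0, 0⟩, ⟨-4, 0⟩⟩)),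
  ((⟨⟨0, 0⟩, ⟨0, 0⟩, ⟨0, 0⟩, ⟨0, 0⟩⟩, ⟨⟨0, 0⟩, ⟨0, 0⟩, ⟨4, 0⟩, ⟨0, 0⟩⟩, ⟨⟨0, 0⟩, ⟨0, 0⟩, ⟨0, 0⟩, ⟨0, 0⟩⟩),
    (⟨⟨0, 0⟩, ⟨0, 0⟩, ⟨0, 0⟩, ⟨0, 0⟩⟩, ⟨⟨0, 0⟩, ⟨0, 0⟩, ⟨0, 0⟩, ⟨0, 0⟩⟩, ⟨⟨0, 0⟩, ⟨0, 0⟩, ⟨-4, 0⟩, ⟨0, 0⟩⟩)),
  ((⟨⟨0, 0⟩, ⟨0, 0⟩, ⟨0, 0⟩, ⟨0, 0⟩⟩, ⟨⟨0, 0⟩, ⟨4, 0⟩, ⟨0, 0⟩, ⟨0, 0⟩⟩, ⟨⟨0, 0⟩, ⟨0, 0⟩, ⟨0, 0⟩, ⟨0, 0⟩⟩),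
    (⟨⟨0, 0⟩, ⟨0, 0⟩, ⟨0, 0⟩, ⟨0, 0⟩⟩, ⟨⟨0, 0⟩, ⟨0, 0⟩, ⟨0, 0⟩, ⟨0, 0⟩⟩, ⟨⟨0, 0⟩, ⟨-4, 0⟩, ⟨0, 0⟩, ⟨0, 0⟩⟩)),
  ((⟨⟨0, 0⟩, ⟨0, 0⟩, ⟨0, 0⟩, ⟨0, 0⟩⟩, ⟨⟨-4, 0⟩, ⟨0, 0⟩, ⟨0, 0⟩, ⟨0, 0⟩⟩, ⟨⟨0, 0⟩, ⟨0, 0⟩, ⟨0, 0⟩, ⟨0, 0⟩⟩),
    (⟨⟨0, 0⟩, ⟨0, 0⟩, ⟨0, 0⟩, ⟨0, 0⟩⟩, ⟨⟨0, 0⟩, ⟨0, 0⟩, ⟨0, 0⟩, ⟨0, 0⟩⟩, ⟨⟨-4, 0⟩, ⟨0, 0⟩, ⟨0, 0⟩, ⟨0, 0⟩⟩)),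
  ((⟨⟨0, 0⟩, ⟨0, 0⟩, ⟨0, 0⟩, ⟨0, 0⟩⟩, ⟨⟨0, 0⟩, ⟨0, 0⟩, ⟨0, 0⟩, ⟨-4, 0⟩⟩, ⟨⟨0, 0⟩, ⟨0, 0⟩, ⟨0, 0⟩, ⟨0, 0⟩⟩),
    (⟨⟨0, 0⟩, ⟨0, 0⟩, ⟨0, 0⟩, ⟨0, 0⟩⟩, ⟨⟨0, 0⟩, ⟨0, 0⟩, ⟨0, 0⟩, ⟨0, 0⟩⟩, ⟨⟨0, 0⟩, ⟨0, 0⟩, ⟨0, 0⟩, ⟨-4, 0⟩⟩)),
  ((⟨⟨0, 0⟩, ⟨0, 0⟩, ⟨0, 0⟩, ⟨0, 0⟩⟩, ⟨⟨0, 0⟩, ⟨0, 0⟩, ⟨4, 0⟩, ⟨0, 0⟩⟩, ⟨⟨0, 0⟩, ⟨0, 0⟩, ⟨0, 0⟩, ⟨0, 0⟩⟩),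
    (⟨⟨0, 0⟩, ⟨0, 0⟩, ⟨0, 0⟩, ⟨0, 0⟩⟩, ⟨⟨0, 0⟩, ⟨0, 0⟩, ⟨0, 0⟩, ⟨0, 0⟩⟩, ⟨⟨0, 0⟩, ⟨0, 0⟩, ⟨4, 0⟩, ⟨0, 0⟩⟩)),
  ((⟨⟨0, 0⟩, ⟨0, 0⟩, ⟨0, 0⟩, ⟨0, 0⟩⟩, ⟨⟨0, 0⟩, ⟨0, 0⟩, ⟨0, 0⟩, ⟨0, 0⟩⟩, ⟨⟨0, 0⟩, ⟨-4, 0⟩, ⟨0, 0⟩, ⟨0, 0⟩⟩),
    (⟨⟨0, 0⟩, ⟨0, 0⟩, ⟨0, 0⟩, ⟨0, 0⟩⟩, ⟨⟨0, 0⟩, ⟨-4, 0⟩, ⟨0, 0⟩, ⟨0, 0⟩⟩, ⟨⟨0, 0⟩, ⟨0, 0⟩, ⟨0, 0⟩, ⟨0, 0⟩⟩)),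
  ((⟨⟨0, 0⟩, ⟨0, 0⟩, ⟨0, 0⟩, ⟨0, 0⟩⟩, ⟨⟨0, 0⟩, ⟨0, 0⟩, ⟨0, 0⟩, ⟨0, 0⟩⟩, ⟨⟨0, 0⟩, ⟨4, 0⟩, ⟨0, 0⟩, ⟨0, 0⟩⟩),
    (⟨⟨0, 0⟩, ⟨0, 0⟩, ⟨0, 0⟩, ⟨0, 0⟩⟩, ⟨⟨0, 0⟩, ⟨4, 0⟩, ⟨0, 0⟩, ⟨0, 0⟩⟩, ⟨⟨0, 0⟩, ⟨0, 0⟩, ⟨0, 0⟩, ⟨0, 0⟩⟩)),
  ((⟨⟨0, 0⟩, ⟨0, 0⟩, ⟨0, 0⟩, ⟨0, 0⟩⟩, ⟨⟨0, 0⟩, ⟨0, 0⟩, ⟨-4, 0⟩, ⟨0, 0⟩⟩, ⟨⟨0, 0⟩, ⟨0, 0⟩, ⟨0, 0⟩, ⟨0, 0⟩⟩),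
    (⟨⟨0, 0⟩, ⟨0, 0⟩, ⟨0, 0⟩, ⟨0, 0⟩⟩, ⟨⟨0, 0⟩, ⟨0, 0⟩, ⟨0, 0⟩, ⟨0, 0⟩⟩, ⟨⟨0, 0⟩, ⟨0, 0⟩, ⟨-4, 0⟩, ⟨0, 0⟩⟩)),
  ((⟨⟨0, 0⟩, ⟨0, 0⟩, ⟨0, 0⟩, ⟨0, 0⟩⟩, ⟨⟨0, 0⟩, ⟨0, 0⟩, ⟨0, 0⟩, ⟨4, 0⟩⟩, ⟨⟨0, 0⟩, ⟨0, 0⟩, ⟨0, 0⟩, ⟨0, 0⟩⟩),
    (⟨⟨0, 0⟩, ⟨0, 0⟩, ⟨0, 0⟩, ⟨0, 0⟩⟩, ⟨⟨0, 0⟩, ⟨0, 0⟩, ⟨0, 0⟩, ⟨0, 0⟩⟩, ⟨⟨0, 0⟩, ⟨0, 0⟩, ⟨0, 0⟩, ⟨4, 0⟩⟩)),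
  ((⟨⟨0, 0⟩, ⟨0, 0⟩, ⟨0, 0⟩, ⟨0, 0⟩⟩, ⟨⟨0, 0⟩, ⟨-4, 0⟩, ⟨0, 0⟩, ⟨0, 0⟩⟩, ⟨⟨0, 0⟩, ⟨0, 0⟩, ⟨0, 0⟩, ⟨0, 0⟩⟩),
    (⟨⟨0, 0⟩, ⟨0, 0⟩, ⟨0, 0⟩, ⟨0, 0⟩⟩, ⟨⟨0, 0⟩, ⟨0, 0⟩, ⟨0, 0⟩, ⟨0, 0⟩⟩, ⟨⟨0, 0⟩, ⟨-4, 0⟩, ⟨0, 0⟩, ⟨0, 0⟩⟩)),
  ((⟨⟨0, 0⟩, ⟨0, 0⟩, ⟨0, 0⟩, ⟨0, 0⟩⟩, ⟨⟨0, 0⟩, ⟨0, 0⟩, ⟨0, 0⟩, ⟨0, 0⟩⟩, ⟨⟨0, 0⟩, ⟨0, 0⟩, ⟨-4, 0⟩, ⟨0, 0⟩⟩),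
    (⟨⟨0, 0⟩, ⟨0, 0⟩, ⟨0, 0⟩, ⟨0, 0⟩⟩, ⟨⟨0, 0⟩, ⟨0, 0⟩, ⟨-4, 0⟩, ⟨0, 0⟩⟩, ⟨⟨0, 0⟩, ⟨0, 0⟩, ⟨0, 0⟩, ⟨0, 0⟩⟩)),
  ((⟨⟨0, 0⟩, ⟨0, 0⟩, ⟨0, 0⟩, ⟨0, 0⟩⟩, ⟨⟨0, 0⟩, ⟨0, 0⟩, ⟨0, 0⟩, ⟨0, 0⟩⟩, ⟨⟨0, 0⟩, ⟨0, 0⟩, ⟨4, 0⟩, ⟨0, 0⟩⟩),
    (⟨⟨0, 0⟩, ⟨0, 0⟩, ⟨0, 0⟩, ⟨0, 0⟩⟩, ⟨⟨0, 0⟩, ⟨0, 0⟩, ⟨4, 0⟩, ⟨0, 0⟩⟩, ⟨⟨0, 0⟩, ⟨0, 0⟩, ⟨0, 0⟩, ⟨0, 0⟩⟩)),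
  ((⟨⟨0, 0⟩, ⟨0, 0⟩, ⟨0, 0⟩, ⟨0, 0⟩⟩, ⟨⟨0, 0⟩, ⟨4, 0⟩, ⟨0, 0⟩, ⟨0, 0⟩⟩, ⟨⟨0, 0⟩, ⟨0, 0⟩, ⟨0, 0⟩, ⟨0, 0⟩⟩),
    (⟨⟨0, 0⟩, ⟨0, 0⟩, ⟨0, 0⟩, ⟨0, 0⟩⟩, ⟨⟨0, 0⟩, ⟨0, 0⟩, ⟨0, 0⟩, ⟨0, 0⟩⟩, ⟨⟨0, 0⟩, ⟨4, 0⟩, ⟨0, 0⟩, ⟨0, 0⟩⟩)),
  ((⟨⟨0, 0⟩, ⟨0, 0⟩, ⟨0, 0⟩, ⟨0, 0⟩⟩, ⟨⟨0, 0⟩, ⟨0, 0⟩, ⟨0, 0⟩, ⟨0, 0⟩⟩, ⟨⟨0, 0⟩, ⟨0, 0⟩, ⟨0, 0⟩, ⟨-4, 0⟩⟩),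
    (⟨⟨0, 0⟩, ⟨0, 0⟩, ⟨0, 0⟩, ⟨0, 0⟩⟩, ⟨⟨0, 0⟩, ⟨0, 0⟩, ⟨0, 0⟩, ⟨-4, 0⟩⟩, ⟨⟨0, 0⟩, ⟨0, 0⟩, ⟨0, 0⟩, ⟨0, 0⟩⟩)),
  ((⟨⟨0, 0⟩, ⟨0, 0⟩, ⟨0, 0⟩, ⟨0, 0⟩⟩, ⟨⟨0, 0⟩, ⟨0, 0⟩, ⟨0, 0⟩, ⟨0, 0⟩⟩, ⟨⟨0, 0⟩, ⟨0, 0⟩, ⟨0, 0⟩, ⟨4, 0⟩⟩),
    (⟨⟨0, 0⟩, ⟨0, 0⟩, ⟨0, 0⟩, ⟨0, 0⟩⟩, ⟨⟨0, 0⟩, ⟨0, 0⟩, ⟨0, 0⟩, ⟨4, 0⟩⟩, ⟨⟨0, 0⟩, ⟨0, 0⟩, ⟨0, 0⟩, ⟨0, 0⟩⟩))]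

end CfsgLib.Ico
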