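import Cfsg.Agent.Lib.Ico.Auto
import Cfsg.Agent.Lib.Ico.GroupData

/-! Kernel checks for the group generated by the reflections. -/

set_option autoImplicit false

namespace CfsgLib.Ico

/-- The first axis in doubled coordinates. -/
def e0T : T := (4, 0, 0)

/-- Apply a word of reflections. -/
def wordT : List ℕ → T → T
  | [], t => t
  | a :: l, t => wordT l (reflF (rep a) t)

/-- Check of a tree given as child, parent and label. -/
def treeB {α : Type} (child parent : α → ℕ) (ok : α → Bool) : List α → ℕ → ℕ → Bool
  | [], seen, full => Nat.beq seen full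
  | x :: l, seen, full =>
    seen.testBit (parent x) && ok x && treeB child parent ok l (seen ||| 2 ^ child x) full

theorem treeB_sound {α : Type} {child parent : α → ℕ} {ok : α → Bool} {full : ℕ} {P : ℕ → Prop} :
    ∀ {l : List α} {seen : ℕ}, treeB child parent ok l seen full = true →
      (∀ x ∈ l, ok x = true → P (parent x) → P (child x)) →
      (∀ i, seen.testBit i = true → P i) → ∀ i, full.testBit i = true → P i
  | [], seen, h, _, hs, i, hi => hs i (by rw [treeB, Nat.beq_eq] at h; rw [h]; exact hi)
  | x :: l, seen, h, hstep, hs, i, hi => by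
    rw [treeB, Bool.and_eq_true, Bool.and_eq_true] at h
    refine treeB_sound h.2 (fun y hy => hstep y (List.mem_cons_of_mem _ hy)) (fun j hj => ?_) i hi
    rw [Nat.testBit_or, Bool.or_eq_true] at hj
    rcases hj with hj | hj
    · exact hs j hj
    · rw [Nat.testBit_two_pow, decide_eq_true_eq] at hj
      subst hj
      exact hstep x (List.mem_cons_self ..) h.1.2 (hs _ h.1.1)

theorem root_check : (Nat.blt rootLine 315 && rep rootLine == e0T) = true := by decide +kernel

/-- Check of one edge between lines. -/
def lineEdgeB (x : ℕ × ℕ × ℕ × ℕ) : Bool :=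
  Nat.blt x.1 315 && Nat.blt x.2.1 315 && Nat.blt x.2.2.1 315 && Nat.blt x.2.2.2 120 &&
    reflF (rep x.2.2.1) (rep x.2.1) == mulTF (unit x.2.2.2) (rep x.1)

theorem line_tree_check :
    treeB (fun x => x.1) (fun x => x.2.1) lineEdgeB treeTab (2 ^ rootLine) (2 ^ 315 - 1) = true := by
  decide +kernel

theorem scal_checks :
    scalTab.all (fun e => Nat.blt e.1 120 && e.2.all (fun a => Nat.blt a 315) &&
      wordT e.2 e0T == mulTF (unit e.1) e0T) = true := by
  decide +kernel

/-- Check of one edge between units. -/
def unitEdgeB (x : ℕ × ℕ × ℕ) : Bool :=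
  Nat.blt x.1 120 && Nat.blt x.2.1 120 && Nat.blt x.2.2 2 &&
    unit x.1 == mulF (unit x.2.1) (unit (scalTab.getD x.2.2 (0, [])).1)

theorem unit_tree_check :
    treeB (fun x => x.1) (fun x => x.2.1) unitEdgeB scalTree 1 (2 ^ 120 - 1) = true := by
  decide +kernel

/-- Images of the second and third axes under the stabiliser elements. -/
def fixImg (n : ℕ) : T × T := fixTab.getD n (e0T, e0T)

/-- Check of one stabiliser element. -/
def fixB (n : ℕ) : Bool :=
  if n = 0 then fixImg 0 == ((0, 4, 0), (0, 0, 4))
  else
    Nat.blt (fixPar.getD n (0, 0)).1 n && Nat.blt (fixPar.getD n (0, 0)).2 315 &&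
      reflF (rep (fixPar.getD n (0, 0)).2) e0T == e0T &&
      reflF (rep (fixPar.getD n (0, 0)).2) (fixImg (fixPar.getD n (0, 0)).1).1 == (fixImg n).1 &&
      reflF (rep (fixPar.getD n (0, 0)).2) (fixImg (fixPar.getD n (0, 0)).1).2 == (fixImg n).2

theorem fix_checks : ((List.range 32).all fixB) = true := by decide +kernel

/-- Packing of a vector. -/
def packT (t : T) : ℕ :=
  (packQ t.1 * 72057594037927936 + packQ t.2.1) * 72057594037927936 + packQ t.2.2

theorem fix_distinct :
    ndB ((List.range 32).map fun n => packT (fixImg n).1 * 2 ^ 200 + packT (fixImg n).2) = true := by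
  decide +kernel

/-- The test that a map given by images of the axes keeps a vector in the lattice. -/
def testM (M : T × T × T) (x : T) : Bool :=
  let s0 := mulF x.1 M.1.1 + mulF x.2.1 M.2.1.1 + mulF x.2.2 M.2.2.1
  let s1 := mulF x.1 M.1.2.1 + mulF x.2.1 M.2.1.2.1 + mulF x.2.2 M.2.2.2.1
  let s2 := mulF x.1 M.1.2.2 + mulF x.2.1 M.2.1.2.2 + mulF x.2.2 M.2.2.2.2
  s0 == 2 * halve s0 && s1 == 2 * halve s1 && s2 == 2 * halve s2 && inLF (halve s0, halve s1, halve s2)

/-- Lines in the orthogonal plane of the first axis. -/
def planeLines : List T := repTab.filter fun t => decide (t.1 = 0)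

theorem test_checks : inLF (rep 0) = true ∧ (rep 0).2.2 = 0 ∧ (rep 152).2.1 = 0 := by decide +kernel

theorem second_checks :
    planeLines.all (fun r => unitTab.all fun u =>
      !testM (e0T, mulTF u r, (0, 0, 0)) (rep 0) || (fixTab.map Prod.fst).contains (mulTF u r)) = true := by
  decide +kernel

theorem third_checks :
    planeLines.all (fun r => unitTab.all fun u =>
      !testM (e0T, (0, 0, 0), mulTF u r) (rep 152) || (fixTab.map Prod.snd).contains (mulTF u r)) = true := by
  decide +kernel

theorem pair_checks :
    fixTab.all (fun p => fixTab.all fun q =>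
      !testM (e0T, p.1, q.2) (rep 1) || fixTab.contains (p.1, q.2)) = true := by
  decide +kernel

theorem central_checks :
    unitTab.all (fun u => !(scalTab.all fun e => mulF u (unit e.1) == mulF (unit e.1) u) || u == 2 || u == -2)
      = true := by
  decide +kernel

end CfsgLib.Ico
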