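import Cfsg.Agent.Lib.Ico.Cent
import Cfsg.Agent.Lib.LargeXS.Congr
import Cfsg.Agent.Lib.Components.GenFitting
import Cfsg.Agent.Lib.Components.Subnormal
import Cfsg.Agent.Lib.Solvable.Core
import Cfsg.Agent.Lib.F2Quad.SmallIso
import Mathlib.GroupTheory.SpecificGroups.Alternating.Simple

/-!
The reflection of the icosian group modulo its centre satisfies the large extraspecial hypothesis
of minus type in dimension four.
-/

set_option autoImplicit false

namespace CfsgLib.Ico.Hyp

open Cfsg Cfsg.Spor CfsgLib.Comp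

/-- The action on 100 points. -/
noncomputable def act100 : J2 →* Equiv.Perm (Fin 100) :=
  CfsgLib.J2Perm.J2sub.subtype.comp bridge.toMonoidHom

theorem act100_injective : Function.Injective act100 :=
  CfsgLib.J2Perm.J2sub.subtype_injective.comp bridge.injective

theorem act100_reflJ : act100 (reflJ 0) = PermCode.val 100 Cent.centCode := Cent.bridge_reflJ

theorem map_centralizer : (Subgroup.centralizer {reflJ 0}).map act100 = Cent.cent := by
  have : Finite J2 := Nat.finite_of_card_ne_zero (by rw [card_J2]; norm_num)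
  refine (Subgroup.eq_of_le_of_card_ge (fun g hg => ?_) ?_).symm
  · obtain ⟨a, rfl⟩ : ∃ a, act100 a = g := ⟨bridge.symm ⟨g, Cent.cent_le hg⟩, by simp [act100]⟩
    refine ⟨a, ?_, rfl⟩
    intro y hy
    apply act100_injective
    rw [map_mul, map_mul, Set.mem_singleton_iff.1 hy, act100_reflJ]
    exact Cent.cent_comm hg _ rfl
  · rw [Subgroup.card_map_of_injective act100_injective, card_centralizer_reflJ]
    exact Cent.cent_card.ge

/-- The centraliser of the reflection as coded permutations. -/
noncomputable def centEquiv : Subgroup.centralizer ({reflJ 0} : Set J2) ≃* Cent.cent :=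
  ((Subgroup.centralizer {reflJ 0}).equivMapOfInjective act100 act100_injective).trans
    (MulEquiv.subgroupCongr map_centralizer)

theorem coe_centEquiv (x : Subgroup.centralizer ({reflJ 0} : Set J2)) :
    ((centEquiv x : Cent.cent) : Equiv.Perm (Fin 100)) = act100 (x : J2) := rfl

/-- The action on the five blocks, onto the alternating group. -/
noncomputable def blockAlt : Cent.cent →* alternatingGroup (Fin 5) :=
  Cent.blockHom.codRestrict _ fun g => by
    rw [← Cent.top_eq_alternating, ← Cent.range_eq_top]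
    exact ⟨g, rfl⟩

theorem ker_blockAlt : blockAlt.ker = Cent.blockHom.ker := MonoidHom.ker_codRestrict _ _ _

theorem blockAlt_surjective : Function.Surjective blockAlt := fun s => by
  obtain ⟨g, hg⟩ : (s : Equiv.Perm (Fin 5)) ∈ Cent.blockHom.range := by
    rw [Cent.range_eq_top, Cent.top_eq_alternating]; exact s.2
  exact ⟨g, Subtype.ext hg⟩

theorem center_alt : Subgroup.center (alternatingGroup (Fin 5)) = ⊥ :=
  alternatingGroup.center_eq_bot (by simp)

theorem witness_check : ∃ h0 : 0 < Cent.centGens.length, ∃ h1 : 0 < Cent.qTab.length,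
    Nat.beq (PermCode.mul 100 Cent.centGens[0] Cent.qTab[0])
        (PermCode.mul 100 Cent.qTab[0] Cent.centGens[0]) = false ∧
      Nat.beq (PermCode.mul 100 Cent.centGens[0] Cent.qTab[0])
        (PermCode.mul 100 Cent.centCode (PermCode.mul 100 Cent.qTab[0] Cent.centGens[0])) = false := by
  refine ⟨?_, ?_, ?_⟩ <;> decide +kernel

theorem centralizer_ker_le :
    Subgroup.centralizer (Cent.blockHom.ker : Set Cent.cent) ≤ Cent.blockHom.ker := by
  set K := Subgroup.centralizer (Cent.blockHom.ker : Set Cent.cent)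
  rw [← ker_blockAlt, ← Subgroup.map_eq_bot_iff]
  have hnorm : (K.map blockAlt).Normal := Subgroup.Normal.map inferInstance _ blockAlt_surjective
  refine hnorm.eq_bot_or_eq_top.resolve_right fun htop => ?_
  have hn : (100 : ℕ) ≤ 256 := by norm_num
  obtain ⟨h0, h1, w1, w2⟩ := witness_check
  obtain ⟨hbq, hbm, hbk⟩ := Cent.q_mem (List.getElem_mem h1)
  have hgs := List.all_eq_true.1 Cent.gens_check.1
  have hs : PermCode.Ok 100 Cent.centGens[0] := by
    have h := List.all_eq_true.1 Cent.ok_cent_gens.1 _ (List.getElem_mem h0)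
    simp only [Bool.and_eq_true] at h
    exact PermCode.ok_of_okb h.1.1
  let s : Cent.cent := ⟨_, PermCode.one_le 100 Cent.centGens (List.getElem_mem h0)⟩
  let b : Cent.cent := ⟨_, hbm⟩
  obtain ⟨c, hc, ec⟩ : blockAlt s ∈ K.map blockAlt := htop ▸ Subgroup.mem_top _
  have hq : c⁻¹ * s ∈ Cent.blockHom.ker := by
    rw [← ker_blockAlt, MonoidHom.mem_ker, map_mul, map_inv, ec, inv_mul_cancel]
  obtain ⟨a, ha, ea⟩ := Cent.exists_code ⟨_, hq⟩
  obtain ⟨hcq, -, -⟩ := Cent.code_mem
  simp only [List.any_eq_true, Nat.beq_eq, exists_eq_right] at hcq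
  obtain ⟨hok, hzm, hzk⟩ := Cent.q_mem hcq
  let z : Cent.cent := ⟨_, hzm⟩
  let a' : Cent.cent := c⁻¹ * s
  have hs' : s = c * a' := (mul_inv_cancel_left c s).symm
  have hcb : b * c = c * b := hc b hbk
  have hcz : z * c = c * z := hc z hzk
  have hab : a' * b = b * a' ∨ a' * b = z * (b * a') := by
    have hrel := Cent.rel_check
    simp only [Cent.relB, Bool.and_eq_true, List.all_eq_true, Bool.or_eq_true, Nat.beq_eq] at hrel
    rcases (hrel a ha).1.1.1.2 _ (List.getElem_mem h1) with h | h
    · left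
      refine Subtype.ext ?_
      show (a' : Equiv.Perm (Fin 100)) * PermCode.val 100 _ = PermCode.val 100 _ * (a' : Equiv.Perm (Fin 100))
      rw [show ((a' : Cent.cent) : Equiv.Perm (Fin 100)) = PermCode.val 100 a from ea,
        ← PermCode.val_mul hn (Cent.q_mem ha).1 hbq, h, PermCode.val_mul hn hbq (Cent.q_mem ha).1]
    · right
      refine Subtype.ext ?_
      show (a' : Equiv.Perm (Fin 100)) * PermCode.val 100 _ =
        PermCode.val 100 Cent.centCode * (PermCode.val 100 _ * (a' : Equiv.Perm (Fin 100)))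
      rw [show ((a' : Cent.cent) : Equiv.Perm (Fin 100)) = PermCode.val 100 a from ea,
        ← PermCode.val_mul hn (Cent.q_mem ha).1 hbq, h,
        PermCode.val_mul hn hok (PermCode.ok_mul hn hbq (Cent.q_mem ha).1),
        PermCode.val_mul hn hbq (Cent.q_mem ha).1]
  have hsb : s * b = b * s ∨ s * b = z * (b * s) := by
    rcases hab with h | h
    · left; rw [hs', mul_assoc, h, ← mul_assoc, ← hcb, mul_assoc]
    · right; rw [hs', mul_assoc, h, ← mul_assoc, ← hcz, mul_assoc, ← mul_assoc c, ← hcb, mul_assoc]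
  have hbuild : ∀ {p q : ℕ}, PermCode.Ok 100 p → PermCode.Ok 100 q →
      PermCode.val 100 p = PermCode.val 100 q → ∀ i < 100, PermCode.get p i = PermCode.get q i :=
    fun hp hq hpq i hi => by
      rw [← PermCode.val_apply hp ⟨i, hi⟩, ← PermCode.val_apply hq ⟨i, hi⟩, hpq]
  have hsb' := PermCode.ok_mul hn hs hbq
  have hbs' := PermCode.ok_mul hn hbq hs
  rcases hsb with h | h
  · have e : PermCode.val 100 Cent.centGens[0] * PermCode.val 100 Cent.qTab[0] =
        PermCode.val 100 Cent.qTab[0] * PermCode.val 100 Cent.centGens[0] := congrArg Subtype.val h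
    refine Bool.eq_false_iff.1 w1 (Nat.beq_eq.mpr ?_)
    rw [PermCode.mul_eq_build, PermCode.mul_eq_build]
    refine Cent.build_congr fun i hi => ?_
    rw [← PermCode.get_mul hn hs hbq hi, ← PermCode.get_mul hn hbq hs hi]
    exact hbuild hsb' hbs' (by rw [PermCode.val_mul hn hs hbq, PermCode.val_mul hn hbq hs, e]) i hi
  · have e : PermCode.val 100 Cent.centGens[0] * PermCode.val 100 Cent.qTab[0] =
        PermCode.val 100 Cent.centCode * (PermCode.val 100 Cent.qTab[0] * PermCode.val 100 Cent.centGens[0]) :=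
      congrArg Subtype.val h
    refine Bool.eq_false_iff.1 w2 (Nat.beq_eq.mpr ?_)
    rw [PermCode.mul_eq_build 100 Cent.centGens[0], PermCode.mul_eq_build 100 Cent.centCode]
    refine Cent.build_congr fun i hi => ?_
    rw [← PermCode.get_mul hn hs hbq hi, ← PermCode.get_mul hn hok hbs' hi]
    exact hbuild hsb' (PermCode.ok_mul hn hok hbs') (by
      rw [PermCode.val_mul hn hs hbq, PermCode.val_mul hn hok hbs', PermCode.val_mul hn hbq hs, e]) i hi

theorem genFitting_cent : Cfsg.generalizedFittingSubgroup Cent.cent = Cent.blockHom.ker := by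
  haveI : Fact (Nat.Prime 2) := ⟨Nat.prime_two⟩
  have hle : Cent.blockHom.ker ≤ Cfsg.fittingSubgroup Cent.cent :=
    Components.le_fitting_of_normal inferInstance
      (IsPGroup.of_card (n := 5) (by rw [Cent.card_ker]; norm_num) : IsPGroup 2 Cent.blockHom.ker).isNilpotent
  have hge : Cfsg.fittingSubgroup Cent.cent ≤ Cent.blockHom.ker := by
    rw [← ker_blockAlt, ← Subgroup.map_eq_bot_iff]
    have hnorm : ((Cfsg.fittingSubgroup Cent.cent).map blockAlt).Normal :=
      Subgroup.Normal.map inferInstance _ blockAlt_surjective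
    refine hnorm.eq_bot_or_eq_top.resolve_right fun htop => ?_
    haveI : Group.IsNilpotent ↥(Cfsg.fittingSubgroup Cent.cent) := Solvable.fittingSubgroup_isNilpotent _
    haveI : Group.IsNilpotent ↥(alternatingGroup (Fin 5)) :=
      Group.nilpotent_of_surjective (blockAlt.comp (Cfsg.fittingSubgroup _).subtype) (fun w => by
        obtain ⟨y, hy, e⟩ : w ∈ (Cfsg.fittingSubgroup _).map blockAlt := htop ▸ Subgroup.mem_top w
        exact ⟨⟨y, hy⟩, e⟩)
    exact Group.IsNilpotent.center_ne_bot _ center_alt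
  have hfit := le_antisymm hge hle
  refine (Components.genFitting_eq_fitting_of_layer_eq_bot ?_).trans hfit
  exact Components.centralizer_fitting_le_iff.1 (by rw [hfit]; exact centralizer_ker_le)

theorem orderOf_reflJ : orderOf (reflJ 0) = 2 := by
  refine orderOf_eq_prime (p := 2) ?_ ?_
  · rw [pow_two, reflJ, ← QuotientGroup.mk_mul,
      show reflEl 0 * reflEl 0 = 1 from Subtype.ext (Equiv.ext fun x => (lineRefl 0).symm_apply_apply x),
      QuotientGroup.mk_one]
  · intro h
    have hc := card_centralizer_reflJ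
    rw [h, Subgroup.centralizer_eq_top_iff_subset.2 (by simp), Subgroup.card_top, card_J2] at hc
    norm_num at hc

theorem move_check : ∃ h : 1 < moveTab.length, ∃ h' : 30 < Cent.qTab.length,
    Nat.beq (PermCode.mul 100 moveTab[1].2.2 Cent.centCode)
      (PermCode.mul 100 Cent.qTab[30] moveTab[1].2.2) = true ∧
    Nat.beq Cent.qTab[30] Cent.centCode = false := by
  refine ⟨?_, ?_, ?_⟩ <;> decide +kernel

theorem satisfies_hypothesis :
    ∃ z : J2, orderOf z = 2 ∧ ∃ (Q : Subgroup (Subgroup.centralizer ({z} : Set J2))) (_ : Q.Normal),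
      Cfsg.generalizedFittingSubgroup (Subgroup.centralizer ({z} : Set J2)) = Q ∧ Cfsg.IsExtraspecial 2 Q ∧
      Nat.card Q = 2 ^ 5 ∧ Nonempty ((Subgroup.centralizer ({z} : Set J2)) ⧸ Q ≃*
        Cfsg.Omega (ZMod 2) (Cfsg.quadFormMinus 1 (ZMod 2) 1 1)) ∧
      ∃ g : J2, (∃ hq : g * z * g⁻¹ ∈ Subgroup.centralizer ({z} : Set J2),
        (⟨g * z * g⁻¹, hq⟩ : Subgroup.centralizer ({z} : Set J2)) ∈ Q) ∧ g * z * g⁻¹ ≠ z := by
  classical
  have hn : (100 : ℕ) ≤ 256 := by norm_num
  let k := blockAlt.comp centEquiv.toMonoidHom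
  have hsurj : Function.Surjective k := blockAlt_surjective.comp centEquiv.surjective
  have hQ : k.ker = Cent.blockHom.ker.map centEquiv.symm.toMonoidHom := by
    rw [← ker_blockAlt]
    ext x
    constructor
    · exact fun hx => ⟨centEquiv x, hx, centEquiv.symm_apply_apply x⟩
    · rintro ⟨y, hy, rfl⟩
      show blockAlt (centEquiv (centEquiv.symm y)) = 1
      rw [centEquiv.apply_symm_apply]
      exact hy
  let eQ : Cent.blockHom.ker ≃* k.ker :=
    (centEquiv.symm.subgroupMap _).trans (MulEquiv.subgroupCongr hQ.symm)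
  obtain ⟨eo⟩ := CfsgLib.F2Quad.nonempty_goMinus_four_equiv (ZMod 2) (ZMod.card 2)
  have hcomA : (commutator (Cfsg.isometryGroup (ZMod 2) (Cfsg.quadFormMinus 1 (ZMod 2) 1 1))).map
      eo.toMonoidHom = alternatingGroup (Fin 5) := by
    rw [commutator_def, Subgroup.map_commutator, Subgroup.map_top_of_surjective eo.toMonoidHom eo.surjective,
      ← commutator_def]
    exact alternatingGroup.commutator_perm_eq (by simp)
  refine ⟨reflJ 0, orderOf_reflJ, k.ker, inferInstance, ?_, ?_, ?_, ⟨?_⟩, ?_⟩
  · rw [hQ, ← genFitting_cent, Components.genFitting_map_equiv]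
  · have : Finite Cent.cent := inferInstance
    have : Finite (Subgroup.centralizer ({reflJ 0} : Set J2)) := Finite.of_equiv _ centEquiv.symm.toEquiv
    exact CfsgLib.LargeXS.isExtraspecial_congr eQ Cent.isExtraspecial_ker
  · rw [← Nat.card_congr eQ.toEquiv, Cent.card_ker]; norm_num
  · exact (QuotientGroup.quotientKerEquivOfSurjective k hsurj).trans
      ((eo.subgroupMap _).trans (MulEquiv.subgroupCongr hcomA)).symm
  obtain ⟨h1, h30, hm, hne⟩ := move_check
  have hmv : moveTab[1] ∈ moveTab := List.getElem_mem h1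
  let g : J2 := QuotientGroup.mk (moveEl hmv)
  have hg : act100 g = PermCode.val 100 moveTab[1].2.2 :=
    (bridge_mk (moveEl hmv)).trans (toPerm100_move hmv)
  obtain ⟨hok, hqm, hqk⟩ := Cent.q_mem (List.getElem_mem h30)
  obtain ⟨hcq, -, -⟩ := Cent.code_mem
  simp only [List.any_eq_true, Nat.beq_eq, exists_eq_right] at hcq
  have hokm : PermCode.Ok 100 moveTab[1].2.2 := by
    have h := List.all_eq_true.1 moves_set_check _ hmv
    simp only [setB, Bool.and_eq_true] at h
    exact PermCode.ok_of_okb h.1.1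
  have hconj : act100 (g * reflJ 0 * g⁻¹) = PermCode.val 100 Cent.qTab[30] := by
    rw [map_mul, map_mul, map_inv, hg, act100_reflJ, mul_inv_eq_iff_eq_mul,
      ← PermCode.val_mul hn hokm (Cent.q_mem hcq).1, ← PermCode.val_mul hn hok hokm, Nat.beq_eq.mp hm]
  obtain ⟨x, hx⟩ := centEquiv.surjective ⟨_, hqm⟩
  have hxv : g * reflJ 0 * g⁻¹ = (x : J2) :=
    act100_injective (hconj.trans ((congrArg Subtype.val hx).symm.trans (coe_centEquiv x)))
  refine ⟨g, ⟨hxv ▸ x.2, ?_⟩, ?_⟩
  · rw [show (⟨g * reflJ 0 * g⁻¹, hxv ▸ x.2⟩ : Subgroup.centralizer ({reflJ 0} : Set J2)) = x from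
      Subtype.ext hxv, MonoidHom.mem_ker]
    show blockAlt (centEquiv x) = 1
    rw [hx, ← MonoidHom.mem_ker, ker_blockAlt]
    exact hqk
  · intro h
    have e := hconj.symm.trans ((congrArg act100 h).trans act100_reflJ)
    rw [Cent.val_q_inj (List.getElem_mem h30) hcq e] at hne
    simp at hne

end CfsgLib.Ico.Hyp
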