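import Cfsg.Agent.Lib.Leech.Gens
import Cfsg.Agent.Lib.Golay.UniqueApps

/-! The Leech lattice contains every integer vector with inner products divisible by eight. -/

set_option autoImplicit false

namespace CfsgLib.Ico.Dual

open Cfsg CfsgLib

theorem mem_golayCode_of_orth {v : GolayPt → ZMod 2}
    (h : ∀ b ∈ Golay.basis, ∑ p, Golay.toWord b p * v p = 0) : v ∈ golayCode := by
  have hle : golayCode ≤ Golay.Unique.dualCode golayCode := fun c hc =>
    Golay.Unique.mem_dualCode.2 fun d hd => Golay.self_orthogonal hc hd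
  have heq : golayCode = Golay.Unique.dualCode golayCode := by
    refine Submodule.eq_of_le_of_finrank_eq hle ?_
    have h1 := Golay.Unique.finrank_add_dualCode golayCode
    rw [Golay.finrank_golay, show Fintype.card GolayPt = 24 from rfl] at h1
    rw [Golay.finrank_golay]; omega
  rw [heq]
  refine Golay.Unique.mem_dualCode.2 fun w hw => ?_
  obtain ⟨x, -, rfl⟩ := Golay.mem_golay_iff.1 hw
  have := Golay.toWord_comb_mem_of (M := LinearMap.ker (Golay.dotForm v))
    (fun b hb => Golay.mem_ker_dotForm.2 (h b hb)) x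
  exact (Finset.sum_congr rfl fun i _ => mul_comm _ _).trans (Golay.mem_ker_dotForm.1 this)

theorem dot_leechGen (v : GolayPt → ℤ) (k : ℕ) (hk : k < 12) :
    dotInt v (Leech.leechGen k) = 2 * ∑ p, if (Golay.basis.getD k 0).testBit (Golay.bit p) then v p else 0 := by
  rw [dotInt, Finset.mul_sum]
  refine Finset.sum_congr rfl fun p _ => ?_
  simp only [Leech.leechGen, if_pos hk]
  split <;> ring

theorem dot_odd (v : GolayPt → ℤ) : dotInt v (Leech.leechGen 12) = (∑ p, v p) - 4 * v none := by
  have : ∀ p, v p * Leech.leechGen 12 p = v p - (if p = none then 4 * v p else 0) := by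
    intro p
    simp only [Leech.leechGen, if_neg (show ¬ (12 : ℕ) < 12 by omega), if_pos]
    by_cases hp : p = none <;> simp [hp]
    ring
  rw [dotInt, Finset.sum_congr rfl fun p _ => this p, Finset.sum_sub_distrib, Finset.sum_ite_eq' Finset.univ none]
  simp

theorem dot_pair (v : GolayPt → ℤ) (t : ZMod 23) :
    dotInt v (Leech.leechGen (13 + t.val)) = 4 * v none + 4 * v (some t) := by
  have hg : ∀ t : ZMod 23, ∀ p, Leech.leechGen (13 + t.val) p =
      (if p = none then 4 else if p = some t then 4 else 0) := by decide +kernel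
  rw [dotInt, Fintype.sum_option, hg]
  simp only [hg, if_true, reduceCtorEq, if_false, Option.some.injEq, mul_ite, mul_zero,
    Finset.sum_ite_eq', Finset.mem_univ]
  ring

theorem mem_leech_of_dvd {v : GolayPt → ℤ} (h : ∀ k < 59, 8 ∣ dotInt v (Leech.leechGen k)) :
    v ∈ leechLattice := by
  rw [Leech.mem_leech_iff]
  have hsum := h 12 (by norm_num)
  rw [dot_odd] at hsum
  have hpar : ∀ p, v p % 2 = v none % 2 := by
    rintro (_ | t)
    · rfl
    · have := h (13 + t.val) (by have := ZMod.val_lt t; omega)
      rw [dot_pair] at this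
      omega
  refine ⟨hpar, mem_golayCode_of_orth fun b hb => ?_, by omega⟩
  obtain ⟨k, hk, rfl⟩ := List.getElem_of_mem hb
  have hk' : k < 12 := hk
  have h8 := h k (by omega)
  rw [dot_leechGen v k hk'] at h8
  have heven : Golay.pc24 Golay.basis[k] % 4 = 0 := by
    have : Golay.basis.all (fun a => Golay.pc24 a % 4 == 0) = true := by decide +kernel
    exact eq_of_beq (List.all_eq_true.1 this _ (List.getElem_mem hk))
  rw [List.getD_eq_getElem _ _ hk] at h8
  generalize Golay.basis[k] = b at h8 heven ⊢
  have hdecomp : ∀ p, Golay.toWord b p * Leech.bits v p =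
      (((if b.testBit (Golay.bit p) then (v p - v none % 2) / 2 else 0) : ℤ) : ZMod 2) := by
    intro p
    simp only [Golay.toWord, Leech.bits, Leech.bit]
    split_ifs
    · have := hpar p
      rw [one_mul, show v p / 2 = (v p - v none % 2) / 2 by omega]
    · simp
  rw [Finset.sum_congr rfl fun p _ => hdecomp p, ← Int.cast_sum, ZMod.intCast_zmod_eq_zero_iff_dvd]
  have hs : (∑ p, if b.testBit (Golay.bit p) then v p else 0) =
      2 * (∑ p, if b.testBit (Golay.bit p) then (v p - v none % 2) / 2 else 0) +
        (v none % 2) * (Golay.pc24 b : ℤ) := by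
    have hc : (Golay.pc24 b : ℤ) = ∑ p : GolayPt, if b.testBit (Golay.bit p) then 1 else 0 := by
      rw [Golay.pc24_eq, ← Golay.card_toSet, Golay.toSet, Finset.natCast_card_filter]
    rw [hc, Finset.mul_sum, Finset.mul_sum, ← Finset.sum_add_distrib]
    refine Finset.sum_congr rfl fun p _ => ?_
    have := hpar p
    split_ifs <;> omega
  rw [hs] at h8
  obtain ⟨c, hc⟩ : (4 : ℤ) ∣ (Golay.pc24 b : ℤ) := by exact_mod_cast Nat.dvd_of_mod_eq_zero heven
  rw [hc] at h8
  push_cast
  generalize (∑ p, if b.testBit (Golay.bit p) = true then (v p - v none % 2) / 2 else 0) = S at h8 ⊢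
  rcases Int.emod_two_eq_zero_or_one (v none) with e | e <;> rw [e] at h8 <;> omega

end CfsgLib.Ico.Dual
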