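import Cfsg.Agent.Lib.Ico.Group
import Cfsg.Agent.Lib.Ico.FrameData
import Cfsg.Agent.Lib.Ico.LeechDual
import Cfsg.Agent.Lib.Leech.Co0

/-!
The icosian lattice with the rational part of its norm is the Leech lattice.
-/

set_option autoImplicit false

namespace CfsgLib.Ico

open Cfsg Cfsg.Spor Quaternion

/-- The rational functional on the golden ring. -/
def lam (z : Zt) : ℤ := z.re + z.im

/-- The product of two triples in doubled coordinates. -/
def wT (s t : T) : Q := mulP s.1 (star t.1) + mulP s.2.1 (star t.2.1) + mulP s.2.2 (star t.2.2)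

/-- The bilinear form of two golden numbers. -/
def pol (a b : Zt) : ℤ := a.re * b.re + a.im * b.im + a.re * b.im + a.im * b.re + a.im * b.im

/-- The bilinear form of two quaternions. -/
def polQ (a b : Q) : ℤ := pol a.re b.re + pol a.imI b.imI + pol a.imJ b.imJ + pol a.imK b.imK

/-- The bilinear form of two triples. -/
def P (s t : T) : ℤ := polQ s.1 t.1 + polQ s.2.1 t.2.1 + polQ s.2.2 t.2.2

theorem pol_add (a b c : Zt) : pol (a + b) c = pol a c + pol b c := by simp [pol]; ring

theorem polQ_add (a b c : Q) : polQ (a + b) c = polQ a c + polQ b c := by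
  simp [polQ, pol_add]; ring

theorem P_add (a b c : T) : P (a + b) c = P a c + P b c := by
  simp [P, polQ_add]; ring

theorem P_comm (a b : T) : P a b = P b a := by simp [P, polQ, pol]; ring

/-- The form against a fixed triple. -/
def PHom (c : T) : T →+ ℤ := AddMonoidHom.mk' (fun a => P a c) fun a b => P_add a b c

theorem lam_re_mul (x y : Q) : lam (x * star y).re = polQ x y := by
  simp [lam, polQ, pol, Quaternion.re_mul]; ring

theorem embV_add (s t : T) : embV (s + t) = embV s + embV t := by
  funext i; fin_cases i <;> simp [embV, emb_add]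

theorem inL_add {s t : T} (hs : InL s = true) (ht : InL t = true) : InL (s + t) = true := by
  obtain ⟨u, hu, e⟩ := mem_icoLeech_iff.1 (add_mem_icoLeech (embV_mem hs) (embV_mem ht))
  rw [← embV_add] at e
  exact embV_injective e ▸ hu

/-- The lattice in doubled coordinates. -/
def lsub : AddSubgroup T where
  carrier := {t | InL t = true}
  zero_mem' := by show InL (0 : T) = true; decide +kernel
  add_mem' := inL_add
  neg_mem' := fun {t} ht => by
    have h := (inL_iff t).1 ht
    obtain ⟨u, hu, e⟩ := mem_icoLeech_iff.1 (smul_mem_icoLeech (neg_mem (one_mem icosians)) (embV_mem ht))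
    have : embV (-t) = fun i => (-1 : ℍ[ℝ]) * embV t i := by
      funext i; fin_cases i <;> simp [embV, emb_neg]
    rw [← this] at e
    exact embV_injective e ▸ hu

theorem mem_lsub {t : T} : t ∈ lsub ↔ InL t = true := Iff.rfl

theorem inP_wT {s t : T} (hs : InL s = true) (ht : InL t = true) : InP (wT s t) = true := by
  obtain ⟨a, b, c, -⟩ := (inL_iff s).1 hs
  obtain ⟨x, y, z, -⟩ := (inL_iff t).1 ht
  exact inP_add (inP_add (mulP_spec a (inP_star x)).2 (mulP_spec b (inP_star y)).2) (mulP_spec c (inP_star z)).2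

theorem qip_embV' {s t : T} (hs : InL s = true) (ht : InL t = true) :
    qip (embV s) (embV t) = emb (wT s t) := qip_embV s t hs ht

theorem exists_half_wT {s t : T} (hs : InL s = true) (ht : InL t = true) :
    ∃ o, InP o = true ∧ wT s t = o + o := by
  obtain ⟨m, hm, e⟩ := exists_qip (embV_mem hs) (embV_mem ht)
  obtain ⟨o, ho, rfl⟩ := mem_icosians_iff.1 hm
  refine ⟨o, ho, emb_injective ?_⟩
  rw [← qip_embV' hs ht, e, emb_add, two_mul]

theorem P_eq {s t : T} (hs : InL s = true) (ht : InL t = true) :
    P s t = 2 * lam (wT s t).re := by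
  obtain ⟨a, b, c, -⟩ := (inL_iff s).1 hs
  obtain ⟨x, y, z, -⟩ := (inL_iff t).1 ht
  have key : ∀ {p q : Q}, InP p = true → InP q = true → polQ p q = 2 * lam (mulP p (star q)).re := by
    intro p q hp hq
    rw [← lam_re_mul, (mulP_spec hp (inP_star hq)).1]
    simp [lam, two_mul]
    ring
  rw [P, key a x, key b y, key c z, wT]
  simp [lam]
  ring

theorem four_dvd_P {s t : T} (hs : InL s = true) (ht : InL t = true) : 4 ∣ P s t := by
  obtain ⟨o, -, e⟩ := exists_half_wT hs ht
  refine ⟨lam o.re, ?_⟩
  rw [P_eq hs ht, e]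
  simp [lam]
  ring

/-- The frame vector at a point. -/
def frameVec (p : GolayPt) : T := frameTab.getD (Golay.bit p) 0

/-- A preimage of a spanning vector. -/
def preVec (k : ℕ) : T := preTab.getD k 0

theorem inL_frameVec : ∀ p, inLF (frameVec p) = true := by decide +kernel

theorem preVec_check : ((List.range 59).all fun k => inLF (preVec k) &&
    (List.range 24).all fun i => P (preVec k) (frameTab.getD i 0) == 4 * Leech.leechGen k (Golay.pt i)) = true := by
  decide +kernel

/-- The coordinate vectors. -/
def unitVec (j : ℕ) : T :=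
  let z : ℕ → Zt := fun i => ⟨if j = 2 * i then 1 else 0, if j = 2 * i + 1 then 1 else 0⟩
  (⟨z 0, z 1, z 2, z 3⟩, ⟨z 4, z 5, z 6, z 7⟩, ⟨z 8, z 9, z 10, z 11⟩)

/-- The coordinates of a triple. -/
def coordT (t : T) : ℕ → ℤ
  | 0 => t.1.re.re | 1 => t.1.re.im | 2 => t.1.imI.re | 3 => t.1.imI.im
  | 4 => t.1.imJ.re | 5 => t.1.imJ.im | 6 => t.1.imK.re | 7 => t.1.imK.im
  | 8 => t.2.1.re.re | 9 => t.2.1.re.im | 10 => t.2.1.imI.re | 11 => t.2.1.imI.im
  | 12 => t.2.1.imJ.re | 13 => t.2.1.imJ.im | 14 => t.2.1.imK.re | 15 => t.2.1.imK.im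
  | 16 => t.2.2.re.re | 17 => t.2.2.re.im | 18 => t.2.2.imI.re | 19 => t.2.2.imI.im
  | 20 => t.2.2.imJ.re | 21 => t.2.2.imJ.im | 22 => t.2.2.imK.re | _ => t.2.2.imK.im

/-- A coordinate functional. -/
def coordHom (j : ℕ) : T →+ ℤ := AddMonoidHom.mk' (fun t => coordT t j) fun a b => by
  rcases j with _|_|_|_|_|_|_|_|_|_|_|_|_|_|_|_|_|_|_|_|_|_|_|j <;> rfl

theorem coordT_inj {a b : T} (h : ∀ j < 24, coordT a j = coordT b j) : a = b :=
  Prod.ext (QuaternionAlgebra.ext (QuadraticAlgebra.ext (h 0 (by norm_num)) (h 1 (by norm_num)))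
      (QuadraticAlgebra.ext (h 2 (by norm_num)) (h 3 (by norm_num)))
      (QuadraticAlgebra.ext (h 4 (by norm_num)) (h 5 (by norm_num)))
      (QuadraticAlgebra.ext (h 6 (by norm_num)) (h 7 (by norm_num))))
    (Prod.ext (QuaternionAlgebra.ext (QuadraticAlgebra.ext (h 8 (by norm_num)) (h 9 (by norm_num)))
      (QuadraticAlgebra.ext (h 10 (by norm_num)) (h 11 (by norm_num)))
      (QuadraticAlgebra.ext (h 12 (by norm_num)) (h 13 (by norm_num)))
      (QuadraticAlgebra.ext (h 14 (by norm_num)) (h 15 (by norm_num))))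
    (QuaternionAlgebra.ext (QuadraticAlgebra.ext (h 16 (by norm_num)) (h 17 (by norm_num)))
      (QuadraticAlgebra.ext (h 18 (by norm_num)) (h 19 (by norm_num)))
      (QuadraticAlgebra.ext (h 20 (by norm_num)) (h 21 (by norm_num)))
      (QuadraticAlgebra.ext (h 22 (by norm_num)) (h 23 (by norm_num)))))

theorem coordT_unitVec : ∀ i < 24, ∀ j < 24, coordT (unitVec j) i = if i = j then 1 else 0 := by
  decide +kernel

theorem sum_coordT (t : T) : t = ∑ j ∈ Finset.range 24, coordT t j • unitVec j := by
  refine coordT_inj fun i hi => ?_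
  show coordHom i t = coordHom i _
  rw [map_sum, Finset.sum_eq_single i]
  · rw [map_zsmul]
    show coordT t i = coordT t i • coordT (unitVec i) i
    rw [coordT_unitVec i hi i hi, if_pos rfl, smul_eq_mul, mul_one]
  · intro j hj hji
    rw [map_zsmul]
    show coordT t j • coordT (unitVec j) i = 0
    rw [coordT_unitVec i hi j (Finset.mem_range.1 hj), if_neg (Ne.symm hji), smul_zero]
  · exact fun h => absurd (Finset.mem_range.2 hi) h

theorem hom_ext_T {A : Type*} [AddCommGroup A] {f g : T →+ A}
    (h : ∀ j < 24, f (unitVec j) = g (unitVec j)) (t : T) : f t = g t := by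
  rw [sum_coordT t, map_sum, map_sum]
  exact Finset.sum_congr rfl fun j hj => by rw [map_zsmul, map_zsmul, h j (Finset.mem_range.1 hj)]

theorem frame_identity_check : ((List.range 24).all fun j => (List.range 24).all fun i =>
    ((List.range 24).map fun k => P (unitVec j) (frameTab.getD k 0) * coordT (frameTab.getD k 0) i).sum ==
      if i == j then 32 else 0) = true := by
  decide +kernel

theorem sum_frame_coord (t : T) (i : ℕ) :
    ((List.range 24).map fun k => P t (frameTab.getD k 0) * coordT (frameTab.getD k 0) i).sum =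
      ∑ p : GolayPt, P t (frameVec p) * coordT (frameVec p) i := by
  have hb : Function.Bijective fun p : GolayPt => (⟨Golay.bit p, Golay.bit_lt p⟩ : Fin 24) := by
    decide +kernel
  rw [show ((List.range 24).map fun k => P t (frameTab.getD k 0) * coordT (frameTab.getD k 0) i).sum =
    ∑ k ∈ Finset.range 24, P t (frameTab.getD k 0) * coordT (frameTab.getD k 0) i from rfl,
    Finset.sum_range]
  exact (Fintype.sum_bijective _ hb (fun p => P t (frameVec p) * coordT (frameVec p) i) _ fun p => rfl).symm

/-- Expansion on the frame. -/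
theorem frame_identity (t : T) (i : ℕ) (hi : i < 24) :
    ∑ p : GolayPt, P t (frameVec p) * coordT (frameVec p) i = 32 * coordT t i := by
  have key := hom_ext_T (f := ∑ p : GolayPt, (AddMonoidHom.mulRight (coordT (frameVec p) i)).comp (PHom (frameVec p)))
    (g := (AddMonoidHom.mulLeft 32).comp (coordHom i)) (fun j hj => ?_) t
  · simp only [AddMonoidHom.finsetSum_apply] at key
    exact key
  · simp only [AddMonoidHom.finsetSum_apply]
    show ∑ p : GolayPt, P (unitVec j) (frameVec p) * coordT (frameVec p) i = 32 * coordT (unitVec j) i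
    have h := frame_identity_check
    simp only [List.all_eq_true, List.mem_range, beq_iff_eq] at h
    rw [← sum_frame_coord, h j hj i hi, coordT_unitVec i hi j hj]
    split <;> rfl

theorem sum_P_mul (s t : T) : ∑ p : GolayPt, P s (frameVec p) * P t (frameVec p) = 32 * P s t := by
  have e : ∀ u, P u t = ∑ j ∈ Finset.range 24, coordT u j * P (unitVec j) t := fun u => by
    conv_lhs => rw [sum_coordT u]
    show PHom t _ = _
    rw [map_sum]
    exact Finset.sum_congr rfl fun j _ => by rw [map_zsmul]; rfl
  rw [e s, Finset.mul_sum]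
  have : ∀ p, P s (frameVec p) * P t (frameVec p) =
      ∑ j ∈ Finset.range 24, P s (frameVec p) * coordT (frameVec p) j * P (unitVec j) t := fun p => by
    rw [P_comm t, e (frameVec p), Finset.mul_sum]
    exact Finset.sum_congr rfl fun j _ => by ring
  rw [Finset.sum_congr rfl fun p _ => this p, Finset.sum_comm]
  refine Finset.sum_congr rfl fun j hj => ?_
  rw [← Finset.sum_mul, frame_identity s j (Finset.mem_range.1 hj)]
  ring

/-- The coordinate map into the Leech lattice. -/
def toLeechFun (t : T) : GolayPt → ℤ := fun p => P t (frameVec p) / 4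

theorem four_mul_toLeechFun {t : T} (ht : InL t = true) (p : GolayPt) :
    4 * toLeechFun t p = P t (frameVec p) :=
  Int.mul_ediv_cancel' (four_dvd_P ht (by rw [inL_eq]; exact inL_frameVec p))

theorem inL_preVec {k : ℕ} (hk : k < 59) : InL (preVec k) = true := by
  have h := preVec_check
  simp only [List.all_eq_true, List.mem_range, Bool.and_eq_true] at h
  rw [inL_eq]; exact (h k hk).1

theorem toLeechFun_preVec {k : ℕ} (hk : k < 59) : toLeechFun (preVec k) = Leech.leechGen k := by
  have h := preVec_check
  simp only [List.all_eq_true, List.mem_range, Bool.and_eq_true, beq_iff_eq] at h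
  funext p
  have := (h k hk).2 (Golay.bit p) (Golay.bit_lt p)
  rw [Golay.pt_bit] at this
  show P (preVec k) (frameTab.getD (Golay.bit p) 0) / 4 = _
  rw [this]; omega

theorem dotInt_toLeechFun {s t : T} (hs : InL s = true) (ht : InL t = true) :
    dotInt (toLeechFun s) (toLeechFun t) = 2 * P s t := by
  have h : 16 * dotInt (toLeechFun s) (toLeechFun t) = 32 * P s t := by
    rw [← sum_P_mul s t, dotInt, Finset.mul_sum]
    exact Finset.sum_congr rfl fun p _ => by
      rw [← four_mul_toLeechFun hs, ← four_mul_toLeechFun ht]; ring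
  omega

theorem toLeechFun_mem {t : T} (ht : InL t = true) : toLeechFun t ∈ leechLattice := by
  refine Dual.mem_leech_of_dvd fun k hk => ?_
  rw [← toLeechFun_preVec hk, dotInt_toLeechFun ht (inL_preVec hk)]
  obtain ⟨c, hc⟩ := four_dvd_P ht (inL_preVec hk)
  exact ⟨c, by rw [hc]; ring⟩

/-- The coordinate map as a homomorphism. -/
def toLeech : lsub →+ leechLattice :=
  AddMonoidHom.mk' (fun t => ⟨toLeechFun t, toLeechFun_mem t.2⟩) fun a b => Subtype.ext <| funext fun p => by
    have h1 := four_mul_toLeechFun a.2 p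
    have h2 := four_mul_toLeechFun b.2 p
    have h3 := four_mul_toLeechFun (a + b).2 p
    rw [AddSubgroup.coe_add, P_add] at h3
    show toLeechFun (a + b : T) p = toLeechFun a p + toLeechFun b p
    omega

theorem sqNorm_toLeech (t : lsub) :
    sqNorm ((toLeech t : leechLattice) : GolayPt → ℤ) = 2 * P t t := by
  show sqNorm (toLeechFun t) = _
  rw [← dotInt_toLeechFun t.2 t.2]
  exact Finset.sum_congr rfl fun p _ => sq _

theorem toLeech_injective : Function.Injective toLeech := by
  refine (injective_iff_map_eq_zero toLeech).2 fun t ht => Subtype.ext (coordT_inj fun i hi => ?_)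
  have h0 : ∀ p, P (t : T) (frameVec p) = 0 := fun p => by
    rw [← four_mul_toLeechFun t.2, show toLeechFun (t : T) p = 0 from
      congrFun (congrArg Subtype.val ht) p, mul_zero]
  have := frame_identity (t : T) i hi
  simp only [h0, zero_mul, Finset.sum_const_zero] at this
  have : coordT (t : T) i = 0 := by omega
  rw [this]
  rcases i with _|_|_|_|_|_|_|_|_|_|_|_|_|_|_|_|_|_|_|_|_|_|_|i <;> rfl

theorem toLeech_surjective : Function.Surjective toLeech := by
  intro v
  have h : leechLattice ≤ toLeech.range.map leechLattice.subtype := by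
    refine Leech.genSub_eq.ge.trans ?_
    refine (AddSubgroup.closure_le _).2 ?_
    rintro x ⟨k, hk, rfl⟩
    exact ⟨toLeech ⟨preVec k, inL_preVec hk⟩, ⟨_, rfl⟩, toLeechFun_preVec hk⟩
  obtain ⟨w, ⟨t, rfl⟩, e⟩ := h v.2
  exact ⟨t, Subtype.ext e⟩

/-- The lattice in doubled coordinates and in real coordinates. -/
noncomputable def lsubEquiv : lsub ≃ icoLeech :=
  Equiv.ofBijective (fun t => vec t.1 t.2)
    ⟨fun _ _ h => Subtype.ext (vec_inj h), fun x => by
      obtain ⟨t, ht, e⟩ := exists_vec x
      exact ⟨⟨t, ht⟩, e.symm⟩⟩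

/-- The isometry. -/
noncomputable def leechEquiv : icoLeech ≃ leechLattice :=
  lsubEquiv.symm.trans (Equiv.ofBijective toLeech ⟨toLeech_injective, toLeech_surjective⟩)

theorem leechEquiv_lsub (t : lsub) : leechEquiv (lsubEquiv t) = toLeech t := by
  simp only [leechEquiv, Equiv.trans_apply, Equiv.symm_apply_apply]
  rfl

/-- Conjugation by the isometry. -/
noncomputable def leechConj : Equiv.Perm icoLeech ≃* Equiv.Perm leechLattice :=
  leechEquiv.permCongrHom

theorem leechConj_apply (f : Equiv.Perm icoLeech) (x : icoLeech) :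
    leechConj f (leechEquiv x) = leechEquiv (f x) := by
  simp [leechConj, Equiv.permCongrHom]

/-- The additive isometries of the rational norm. -/
noncomputable def isoGroup : Subgroup (Equiv.Perm icoLeech) :=
  Co0.comap leechConj.toMonoidHom

/-- The action on doubled coordinates. -/
noncomputable def lmap (f : Equiv.Perm icoLeech) (t : lsub) : lsub := lsubEquiv.symm (f (lsubEquiv t))

theorem lsubEquiv_lmap (f : Equiv.Perm icoLeech) (t : lsub) : lsubEquiv (lmap f t) = f (lsubEquiv t) := by
  simp [lmap]

theorem leechConj_toLeech (f : Equiv.Perm icoLeech) (t : lsub) :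
    leechConj f (toLeech t) = toLeech (lmap f t) := by
  rw [← leechEquiv_lsub, ← leechEquiv_lsub, leechConj_apply, lsubEquiv_lmap]

theorem lmap_add {f : Equiv.Perm icoLeech} (hf : f ∈ isoGroup) (a b : lsub) :
    lmap f (a + b) = lmap f a + lmap f b := by
  refine toLeech_injective ?_
  rw [← leechConj_toLeech, map_add toLeech, map_add toLeech, ← leechConj_toLeech, ← leechConj_toLeech]
  exact hf.1 _ _

theorem P_lmap {f : Equiv.Perm icoLeech} (hf : f ∈ isoGroup) (a b : lsub) :
    P (lmap f a : T) (lmap f b) = P (a : T) b := by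
  have h := Leech.dotInt_smul ⟨leechConj f, hf⟩ (toLeech a) (toLeech b)
  change dotInt ((leechConj f (toLeech a) : leechLattice) : GolayPt → ℤ)
    ((leechConj f (toLeech b) : leechLattice) : GolayPt → ℤ) = _ at h
  rw [leechConj_toLeech, leechConj_toLeech] at h
  have h1 := dotInt_toLeechFun (lmap f a).2 (lmap f b).2
  have h2 := dotInt_toLeechFun a.2 b.2
  change dotInt (toLeechFun (lmap f a : T)) (toLeechFun (lmap f b : T)) =
    dotInt (toLeechFun (a : T)) (toLeechFun (b : T)) at h
  omega

theorem mem_isoGroup {f : Equiv.Perm icoLeech}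
    (hadd : ∀ a b : lsub, lmap f (a + b) = lmap f a + lmap f b)
    (hP : ∀ a : lsub, P (lmap f a : T) (lmap f a) = P (a : T) a) : f ∈ isoGroup := by
  refine ⟨fun v w => ?_, fun v => ?_⟩
  · obtain ⟨a, rfl⟩ := toLeech_surjective v
    obtain ⟨b, rfl⟩ := toLeech_surjective w
    show leechConj f (toLeech a + toLeech b) = leechConj f (toLeech a) + leechConj f (toLeech b)
    rw [← map_add, leechConj_toLeech, leechConj_toLeech, leechConj_toLeech, hadd, map_add]
  · obtain ⟨a, rfl⟩ := toLeech_surjective v
    show sqNorm ((leechConj f (toLeech a) : leechLattice) : GolayPt → ℤ) = _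
    rw [leechConj_toLeech, sqNorm_toLeech, sqNorm_toLeech, hP]

end CfsgLib.Ico
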