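import Cfsg.Agent.Lib.Ico.Ring

/-! The icosian lattice and its reflections. -/

set_option autoImplicit false

namespace CfsgLib.Ico

open Cfsg.Spor Quaternion

theorem star_h_mul_h : star icoH * icoH = 2 ∧ icoH * star icoH = 2 := by
  have h1 := idealGen_genH.1
  have key : emb (4 : Q) = 2 := by
    rw [show (4 : Q) = 2 + 2 by norm_num, emb_add, emb_two, one_add_one_eq_two]
  rw [icoH_eq, ← emb_star, ← key]
  constructor
  · refine emb_mul ?_
    rw [h1.2.2]; norm_num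
  · refine emb_mul ?_
    rw [h1.2.1]; norm_num

theorem mul_mem_leftIdeal {g a x : ℍ[ℝ]} (ha : a ∈ icosians) (hx : x ∈ leftIdeal g) :
    a * x ∈ leftIdeal g := by
  obtain ⟨c, hc, rfl⟩ := hx
  exact ⟨a * c, mul_mem ha hc, by rw [mul_assoc]⟩

theorem sub_mem_leftIdeal {g x y : ℍ[ℝ]} (hx : x ∈ leftIdeal g) (hy : y ∈ leftIdeal g) :
    x - y ∈ leftIdeal g := by
  obtain ⟨c, hc, rfl⟩ := hx
  obtain ⟨d, hd, rfl⟩ := hy
  exact ⟨c - d, sub_mem hc hd, by rw [sub_mul]⟩

theorem sub_mem_icoLeech {v w : Fin 3 → ℍ[ℝ]} (hv : v ∈ icoLeech) (hw : w ∈ icoLeech) :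
    v - w ∈ icoLeech := by
  obtain ⟨h0, h1, h2, h3⟩ := hv
  obtain ⟨k0, k1, k2, k3⟩ := hw
  refine ⟨fun t => sub_mem (h0 t) (k0 t), ?_, ?_, ?_⟩
  · have e : (v - w) 0 - (v - w) 1 = (v 0 - v 1) - (w 0 - w 1) := by simp only [Pi.sub_apply]; abel
    rw [e]; exact sub_mem_leftIdeal h1 k1
  · have e : (v - w) 1 - (v - w) 2 = (v 1 - v 2) - (w 1 - w 2) := by simp only [Pi.sub_apply]; abel
    rw [e]; exact sub_mem_leftIdeal h2 k2
  · have e : (v - w) 0 + (v - w) 1 + (v - w) 2 = (v 0 + v 1 + v 2) - (w 0 + w 1 + w 2) := by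
      simp only [Pi.sub_apply]; abel
    rw [e]; exact sub_mem_leftIdeal h3 k3

theorem smul_mem_icoLeech {a : ℍ[ℝ]} (ha : a ∈ icosians) {v : Fin 3 → ℍ[ℝ]} (hv : v ∈ icoLeech) :
    (fun t => a * v t) ∈ icoLeech := by
  obtain ⟨h0, h1, h2, h3⟩ := hv
  refine ⟨fun t => mul_mem ha (h0 t), ?_, ?_, ?_⟩
  · rw [← mul_sub]; exact mul_mem_leftIdeal ha h1
  · rw [← mul_sub]; exact mul_mem_leftIdeal ha h2
  · rw [← mul_add, ← mul_add]; exact mul_mem_leftIdeal ha h3

/-- The product of two lattice vectors is twice an icosian. -/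
theorem exists_qip {v w : Fin 3 → ℍ[ℝ]} (hv : v ∈ icoLeech) (hw : w ∈ icoLeech) :
    ∃ m ∈ icosians, qip v w = 2 * m := by
  obtain ⟨hv0, ⟨a, ha, hva⟩, ⟨b, hb, hvb⟩, ⟨c, hc, hvc⟩⟩ := hv
  obtain ⟨hw0, ⟨a', ha', hwa⟩, ⟨b', hb', hwb⟩, ⟨c', hc', hwc⟩⟩ := hw
  obtain ⟨hbh, hhb⟩ := star_h_mul_h
  have hH : icoH ∈ icosians := icoH_eq ▸ emb_mem idealGen_genH.1.1
  have mh : ∀ p q : ℍ[ℝ], p * icoH * star (q * icoH) = 2 * (p * star q) := by
    intro p q
    rw [star_mul, mul_assoc, ← mul_assoc icoH, hhb]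
    simp only [two_mul, mul_add]
  have e0 : v 0 = v 1 + a * icoH := by rw [← hva]; abel
  have e2 : v 2 = v 1 - b * icoH := by rw [← hvb]; abel
  have f0 : w 0 = w 1 + a' * icoH := by rw [← hwa]; abel
  have f2 : w 2 = w 1 - b' * icoH := by rw [← hwb]; abel
  rw [e0, e2] at hvc
  rw [f0, f2] at hwc
  have hX : (3 * v 1 + (a * icoH - b * icoH)) * (3 * star (w 1) + (star (a' * icoH) - star (b' * icoH))) =
      2 * (c * star c') := by
    have eX : 3 * v 1 + (a * icoH - b * icoH) = c * star icoH := by rw [← hvc]; noncomm_ring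
    have eY : 3 * star (w 1) + (star (a' * icoH) - star (b' * icoH)) = icoH * star c' := by
      have h := congrArg star hwc
      rw [star_mul, star_star] at h
      rw [← h]
      simp only [star_add, star_sub]
      noncomm_ring
    rw [eX, eY, mul_assoc, ← mul_assoc (star icoH), hbh]
    simp only [two_mul, mul_add]
  refine ⟨c * star c' - 3 * (v 1 * star (w 1)) - v 1 * star ((a' - b') * icoH)
      - (a - b) * icoH * star (w 1) - (a - b) * star (a' - b') + a * star a' + b * star b', ?_, ?_⟩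
  · have hs : ∀ {q : ℍ[ℝ]}, q ∈ icosians → star q ∈ icosians := fun h => star_mem_icosians h
    have h3 : (3 : ℍ[ℝ]) ∈ icosians := by
      rw [show (3 : ℍ[ℝ]) = 1 + 1 + 1 by norm_num]
      exact add_mem (add_mem (one_mem _) (one_mem _)) (one_mem _)
    exact add_mem (add_mem (sub_mem (sub_mem (sub_mem (sub_mem (mul_mem hc (hs hc'))
      (mul_mem h3 (mul_mem (hv0 1) (hs (hw0 1))))) (mul_mem (hv0 1) (hs (mul_mem (sub_mem ha' hb') hH))))
      (mul_mem (mul_mem (sub_mem ha hb) hH) (hs (hw0 1)))) (mul_mem (sub_mem ha hb) (hs (sub_mem ha' hb'))))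
      (mul_mem ha (hs ha'))) (mul_mem hb (hs hb'))
  · have expand : qip v w = (v 1 + a * icoH) * (star (w 1) + star (a' * icoH)) + v 1 * star (w 1) +
        (v 1 - b * icoH) * (star (w 1) - star (b' * icoH)) := by
      rw [qip, Fin.sum_univ_three, e0, e2, f0, f2, star_add, star_sub]
    have i1 : (a - b) * icoH * star ((a' - b') * icoH) = 2 * ((a - b) * star (a' - b')) := mh _ _
    have i2 := mh a a'
    have i3 := mh b b'
    have e : qip v w = (3 * v 1 + (a * icoH - b * icoH)) *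
          (3 * star (w 1) + (star (a' * icoH) - star (b' * icoH))) -
        6 * (v 1 * star (w 1)) - 2 * (v 1 * star ((a' - b') * icoH)) -
        2 * ((a - b) * icoH * star (w 1)) - (a - b) * icoH * star ((a' - b') * icoH) +
        a * icoH * star (a' * icoH) + b * icoH * star (b' * icoH) := by
      rw [expand, sub_mul a b, sub_mul a' b', star_sub]
      noncomm_ring
    rw [e, hX, i1, i2, i3]
    noncomm_ring

theorem half_smul_two_mul (m : ℍ[ℝ]) : (1 / 2 : ℝ) • (2 * m) = m := by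
  rw [two_mul, ← two_smul ℝ, smul_smul]
  norm_num

theorem qrefl_mem {r x : Fin 3 → ℍ[ℝ]} (hr : r ∈ icoLeech) (hx : x ∈ icoLeech) :
    qrefl r x ∈ icoLeech := by
  obtain ⟨m, hm, e⟩ := exists_qip hx hr
  have : qrefl r x = x - fun t => m * r t := by
    funext t
    rw [qrefl, e, half_smul_two_mul]
    rfl
  rw [this]
  exact sub_mem_icoLeech hx (smul_mem_icoLeech hm hr)

theorem qrefl_qrefl {r : Fin 3 → ℍ[ℝ]} (h4 : qip r r = 4) (x : Fin 3 → ℍ[ℝ]) :
    qrefl r (qrefl r x) = x := by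
  have key : qip (qrefl r x) r = -qip x r := by
    simp only [qip, qrefl, Fin.sum_univ_three, sub_mul, mul_assoc]
    have h : ((1 / 2 : ℝ) • qip x r) * (r 0 * star (r 0) + r 1 * star (r 1) + r 2 * star (r 2)) =
        qip x r + qip x r := by
      have h4' : r 0 * star (r 0) + r 1 * star (r 1) + r 2 * star (r 2) = 4 := by
        rw [← h4, qip, Fin.sum_univ_three]
      rw [h4', show (4 : ℍ[ℝ]) = (2 : ℝ) • (2 : ℍ[ℝ]) by rw [two_smul]; norm_num, mul_smul_comm,
        smul_mul_assoc, smul_smul]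
      norm_num
      rw [mul_two]
    simp only [qip, Fin.sum_univ_three, mul_add] at h
    linear_combination (norm := abel) (-1 : ℤ) • h
  funext t
  show qrefl r x t - ((1 / 2 : ℝ) • qip (qrefl r x) r) * r t = x t
  rw [key, smul_neg, neg_mul, sub_neg_eq_add]
  simp only [qrefl]
  abel

/-- The reflection of the lattice in a shortest vector. -/
noncomputable def reflPerm (r : icoLeech) (h4 : qip (r : Fin 3 → ℍ[ℝ]) r = 4) : Equiv.Perm icoLeech :=
  Function.Involutive.toPerm (fun x => ⟨qrefl r x, qrefl_mem r.2 x.2⟩)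
    fun x => Subtype.ext (qrefl_qrefl h4 _)

theorem reflPerm_apply (r : icoLeech) (h4 : qip (r : Fin 3 → ℍ[ℝ]) r = 4) (x : icoLeech) :
    ((reflPerm r h4 x : icoLeech) : Fin 3 → ℍ[ℝ]) = qrefl (r : Fin 3 → ℍ[ℝ]) x := rfl

theorem isIcoReflection_iff {f : Equiv.Perm icoLeech} :
    IsIcoReflection f ↔ ∃ (r : icoLeech) (h4 : qip (r : Fin 3 → ℍ[ℝ]) r = 4), f = reflPerm r h4 := by
  constructor
  · rintro ⟨r, h4, h⟩
    exact ⟨r, h4, Equiv.ext fun x => Subtype.ext ((h x).trans (reflPerm_apply r h4 x).symm)⟩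
  · rintro ⟨r, h4, rfl⟩
    exact ⟨r, h4, fun x => rfl⟩

theorem qrefl_scalar {u : ℍ[ℝ]} (hu : star u * u = 1) (r x : Fin 3 → ℍ[ℝ]) :
    qrefl (fun t => u * r t) x = qrefl r x := by
  have h : qip x (fun t => u * r t) = qip x r * star u := by
    simp only [qip, star_mul, Fin.sum_univ_three, add_mul, mul_assoc]
  funext t
  simp only [qrefl, h]
  rw [← smul_mul_assoc, mul_assoc, ← mul_assoc (star u), hu, one_mul]

end CfsgLib.Ico
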