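import Cfsg.Agent.Lib.Ico.Coord

/-! Certificate tables for the shortest vectors of the icosian lattice. -/

set_option autoImplicit false
set_option maxRecDepth 8000

namespace CfsgLib.Ico

/-- Normalised shortest vectors. -/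
def candTab : List (Q × Q × Q) :=
  [
  (⟨⟨0, 0⟩, ⟨0, 0⟩, ⟨0, 0⟩, ⟨0, 0⟩⟩, ⟨⟨4, 0⟩, ⟨0, 0⟩, ⟨0, 0⟩, ⟨0, 0⟩⟩, ⟨⟨0, 0⟩, ⟨0, 0⟩, ⟨0, 0⟩, ⟨0, 0⟩⟩),
  (⟨⟨0, 0⟩, ⟨0, 0⟩, ⟨0, 0⟩, ⟨0, 0⟩⟩, ⟨⟨0, 0⟩, ⟨0, 0⟩, ⟨0, 0⟩, ⟨0, 0⟩⟩, ⟨⟨4, 0⟩, ⟨0, 0⟩, ⟨0, 0⟩, ⟨0, 0⟩⟩),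
  (⟨⟨0, 0⟩, ⟨0, 0⟩, ⟨0, 0⟩, ⟨0, 0⟩⟩, ⟨⟨1, -2⟩, ⟨1, 0⟩, ⟨1, 0⟩, ⟨1, 0⟩⟩, ⟨⟨1, -2⟩, ⟨1, 0⟩, ⟨1, 0⟩, ⟨1, 0⟩⟩),
  (⟨⟨0, 0⟩, ⟨0, 0⟩, ⟨0, 0⟩, ⟨0, 0⟩⟩, ⟨⟨1, -2⟩, ⟨1, 0⟩, ⟨1, 0⟩, ⟨1, 0⟩⟩, ⟨⟨-1, 2⟩, ⟨-1, 0⟩, ⟨-1, 0⟩, ⟨-1, 0⟩⟩),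
  (⟨⟨0, 0⟩, ⟨0, 0⟩, ⟨0, 0⟩, ⟨0, 0⟩⟩, ⟨⟨1, -2⟩, ⟨1, 0⟩, ⟨1, 0⟩, ⟨1, 0⟩⟩, ⟨⟨-1, 0⟩, ⟨1, 0⟩, ⟨-1, 0⟩, ⟨1, -2⟩⟩),
  (⟨⟨0, 0⟩, ⟨0, 0⟩, ⟨0, 0⟩, ⟨0, 0⟩⟩, ⟨⟨1, -2⟩, ⟨1, 0⟩, ⟨1, 0⟩, ⟨1, 0⟩⟩, ⟨⟨1, 0⟩, ⟨-1, 0⟩, ⟨1, 0⟩, ⟨-1, 2⟩⟩),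
  (⟨⟨0, 0⟩, ⟨0, 0⟩, ⟨0, 0⟩, ⟨0, 0⟩⟩, ⟨⟨1, -2⟩, ⟨1, 0⟩, ⟨1, 0⟩, ⟨1, 0⟩⟩, ⟨⟨1, 0⟩, ⟨-1, 2⟩, ⟨-1, 0⟩, ⟨1, 0⟩⟩),
  (⟨⟨0, 0⟩, ⟨0, 0⟩, ⟨0, 0⟩, ⟨0, 0⟩⟩, ⟨⟨1, -2⟩, ⟨1, 0⟩, ⟨1, 0⟩, ⟨1, 0⟩⟩, ⟨⟨-1, 0⟩, ⟨-1, 0⟩, ⟨1, -2⟩, ⟨1, 0⟩⟩),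
  (⟨⟨0, 0⟩, ⟨0, 0⟩, ⟨0, 0⟩, ⟨0, 0⟩⟩, ⟨⟨1, -2⟩, ⟨1, 0⟩, ⟨1, 0⟩, ⟨1, 0⟩⟩, ⟨⟨-1, 0⟩, ⟨1, -2⟩, ⟨1, 0⟩, ⟨-1, 0⟩⟩),
  (⟨⟨0, 0⟩, ⟨0, 0⟩, ⟨0, 0⟩, ⟨0, 0⟩⟩, ⟨⟨1, -2⟩, ⟨1, 0⟩, ⟨1, 0⟩, ⟨1, 0⟩⟩, ⟨⟨1, 0⟩, ⟨1, 0⟩, ⟨-1, 2⟩, ⟨-1, 0⟩⟩),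
  (⟨⟨2, 0⟩, ⟨0, 0⟩, ⟨0, 0⟩, ⟨0, 0⟩⟩, ⟨⟨2, 0⟩, ⟨0, 0⟩, ⟨0, 0⟩, ⟨0, 0⟩⟩, ⟨⟨1, -2⟩, ⟨-1, 0⟩, ⟨-1, 0⟩, ⟨-1, 0⟩⟩),
  (⟨⟨2, 0⟩, ⟨0, 0⟩, ⟨0, 0⟩, ⟨0, 0⟩⟩, ⟨⟨2, 0⟩, ⟨0, 0⟩, ⟨0, 0⟩, ⟨0, 0⟩⟩, ⟨⟨1, 0⟩, ⟨1, -2⟩, ⟨1, 0⟩, ⟨-1, 0⟩⟩),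
  (⟨⟨2, 0⟩, ⟨0, 0⟩, ⟨0, 0⟩, ⟨0, 0⟩⟩, ⟨⟨2, 0⟩, ⟨0, 0⟩, ⟨0, 0⟩, ⟨0, 0⟩⟩, ⟨⟨-1, 2⟩, ⟨1, 0⟩, ⟨1, 0⟩, ⟨1, 0⟩⟩),
  (⟨⟨2, 0⟩, ⟨0, 0⟩, ⟨0, 0⟩, ⟨0, 0⟩⟩, ⟨⟨2, 0⟩, ⟨0, 0⟩, ⟨0, 0⟩, ⟨0, 0⟩⟩, ⟨⟨-1, 0⟩, ⟨-1, 2⟩, ⟨-1, 0⟩, ⟨1, 0⟩⟩),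
  (⟨⟨2, 0⟩, ⟨0, 0⟩, ⟨0, 0⟩, ⟨0, 0⟩⟩, ⟨⟨2, 0⟩, ⟨0, 0⟩, ⟨0, 0⟩, ⟨0, 0⟩⟩, ⟨⟨-1, 0⟩, ⟨-1, 0⟩, ⟨1, 0⟩, ⟨-1, 2⟩⟩),
  (⟨⟨2, 0⟩, ⟨0, 0⟩, ⟨0, 0⟩, ⟨0, 0⟩⟩, ⟨⟨2, 0⟩, ⟨0, 0⟩, ⟨0, 0⟩, ⟨0, 0⟩⟩, ⟨⟨1, 0⟩, ⟨-1, 0⟩, ⟨1, -2⟩, ⟨1, 0⟩⟩),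
  (⟨⟨2, 0⟩, ⟨0, 0⟩, ⟨0, 0⟩, ⟨0, 0⟩⟩, ⟨⟨2, 0⟩, ⟨0, 0⟩, ⟨0, 0⟩, ⟨0, 0⟩⟩, ⟨⟨-1, 0⟩, ⟨1, 0⟩, ⟨-1, 2⟩, ⟨-1, 0⟩⟩),
  (⟨⟨2, 0⟩, ⟨0, 0⟩, ⟨0, 0⟩, ⟨0, 0⟩⟩, ⟨⟨2, 0⟩, ⟨0, 0⟩, ⟨0, 0⟩, ⟨0, 0⟩⟩, ⟨⟨1, 0⟩, ⟨1, 0⟩, ⟨-1, 0⟩, ⟨1, -2⟩⟩),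
  (⟨⟨2, 0⟩, ⟨0, 0⟩, ⟨0, 0⟩, ⟨0, 0⟩⟩, ⟨⟨0, 0⟩, ⟨2, 0⟩, ⟨0, 0⟩, ⟨0, 0⟩⟩, ⟨⟨-1, 2⟩, ⟨1, 0⟩, ⟨-1, 0⟩, ⟨-1, 0⟩⟩),
  (⟨⟨2, 0⟩, ⟨0, 0⟩, ⟨0, 0⟩, ⟨0, 0⟩⟩, ⟨⟨0, 0⟩, ⟨2, 0⟩, ⟨0, 0⟩, ⟨0, 0⟩⟩, ⟨⟨-1, 0⟩, ⟨-1, 2⟩, ⟨1, 0⟩, ⟨-1, 0⟩⟩),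
  (⟨⟨2, 0⟩, ⟨0, 0⟩, ⟨0, 0⟩, ⟨0, 0⟩⟩, ⟨⟨0, 0⟩, ⟨2, 0⟩, ⟨0, 0⟩, ⟨0, 0⟩⟩, ⟨⟨1, -2⟩, ⟨-1, 0⟩, ⟨1, 0⟩, ⟨1, 0⟩⟩),
  (⟨⟨2, 0⟩, ⟨0, 0⟩, ⟨0, 0⟩, ⟨0, 0⟩⟩, ⟨⟨0, 0⟩, ⟨2, 0⟩, ⟨0, 0⟩, ⟨0, 0⟩⟩, ⟨⟨1, 0⟩, ⟨1, -2⟩, ⟨-1, 0⟩, ⟨1, 0⟩⟩),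
  (⟨⟨2, 0⟩, ⟨0, 0⟩, ⟨0, 0⟩, ⟨0, 0⟩⟩, ⟨⟨0, 0⟩, ⟨2, 0⟩, ⟨0, 0⟩, ⟨0, 0⟩⟩, ⟨⟨1, 0⟩, ⟨-1, 0⟩, ⟨-1, 2⟩, ⟨-1, 0⟩⟩),
  (⟨⟨2, 0⟩, ⟨0, 0⟩, ⟨0, 0⟩, ⟨0, 0⟩⟩, ⟨⟨0, 0⟩, ⟨2, 0⟩, ⟨0, 0⟩, ⟨0, 0⟩⟩, ⟨⟨1, 0⟩, ⟨1, 0⟩, ⟨1, 0⟩, ⟨-1, 2⟩⟩),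
  (⟨⟨2, 0⟩, ⟨0, 0⟩, ⟨0, 0⟩, ⟨0, 0⟩⟩, ⟨⟨0, 0⟩, ⟨2, 0⟩, ⟨0, 0⟩, ⟨0, 0⟩⟩, ⟨⟨-1, 0⟩, ⟨1, 0⟩, ⟨1, -2⟩, ⟨1, 0⟩⟩),
  (⟨⟨2, 0⟩, ⟨0, 0⟩, ⟨0, 0⟩, ⟨0, 0⟩⟩, ⟨⟨0, 0⟩, ⟨2, 0⟩, ⟨0, 0⟩, ⟨0, 0⟩⟩, ⟨⟨-1, 0⟩, ⟨-1, 0⟩, ⟨-1, 0⟩, ⟨1, -2⟩⟩),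
  (⟨⟨2, 0⟩, ⟨0, 0⟩, ⟨0, 0⟩, ⟨0, 0⟩⟩, ⟨⟨-2, 0⟩, ⟨0, 0⟩, ⟨0, 0⟩, ⟨0, 0⟩⟩, ⟨⟨1, -2⟩, ⟨-1, 0⟩, ⟨-1, 0⟩, ⟨-1, 0⟩⟩),
  (⟨⟨2, 0⟩, ⟨0, 0⟩, ⟨0, 0⟩, ⟨0, 0⟩⟩, ⟨⟨-2, 0⟩, ⟨0, 0⟩, ⟨0, 0⟩, ⟨0, 0⟩⟩, ⟨⟨1, 0⟩, ⟨1, -2⟩, ⟨1, 0⟩, ⟨-1, 0⟩⟩),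
  (⟨⟨2, 0⟩, ⟨0, 0⟩, ⟨0, 0⟩, ⟨0, 0⟩⟩, ⟨⟨-2, 0⟩, ⟨0, 0⟩, ⟨0, 0⟩, ⟨0, 0⟩⟩, ⟨⟨-1, 2⟩, ⟨1, 0⟩, ⟨1, 0⟩, ⟨1, 0⟩⟩),
  (⟨⟨2, 0⟩, ⟨0, 0⟩, ⟨0, 0⟩, ⟨0, 0⟩⟩, ⟨⟨-2, 0⟩, ⟨0, 0⟩, ⟨0, 0⟩, ⟨0, 0⟩⟩, ⟨⟨-1, 0⟩, ⟨-1, 2⟩, ⟨-1, 0⟩, ⟨1, 0⟩⟩),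
  (⟨⟨2, 0⟩, ⟨0, 0⟩, ⟨0, 0⟩, ⟨0, 0⟩⟩, ⟨⟨-2, 0⟩, ⟨0, 0⟩, ⟨0, 0⟩, ⟨0, 0⟩⟩, ⟨⟨-1, 0⟩, ⟨-1, 0⟩, ⟨1, 0⟩, ⟨-1, 2⟩⟩),
  (⟨⟨2, 0⟩, ⟨0, 0⟩, ⟨0, 0⟩, ⟨0, 0⟩⟩, ⟨⟨-2, 0⟩, ⟨0, 0⟩, ⟨0, 0⟩, ⟨0, 0⟩⟩, ⟨⟨1, 0⟩, ⟨-1, 0⟩, ⟨1, -2⟩, ⟨1, 0⟩⟩),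
  (⟨⟨2, 0⟩, ⟨0, 0⟩, ⟨0, 0⟩, ⟨0, 0⟩⟩, ⟨⟨-2, 0⟩, ⟨0, 0⟩, ⟨0, 0⟩, ⟨0, 0⟩⟩, ⟨⟨-1, 0⟩, ⟨1, 0⟩, ⟨-1, 2⟩, ⟨-1, 0⟩⟩),
  (⟨⟨2, 0⟩, ⟨0, 0⟩, ⟨0, 0⟩, ⟨0, 0⟩⟩, ⟨⟨-2, 0⟩, ⟨0, 0⟩, ⟨0, 0⟩, ⟨0, 0⟩⟩, ⟨⟨1, 0⟩, ⟨1, 0⟩, ⟨-1, 0⟩, ⟨1, -2⟩⟩),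
  (⟨⟨2, 0⟩, ⟨0, 0⟩, ⟨0, 0⟩, ⟨0, 0⟩⟩, ⟨⟨0, 0⟩, ⟨-2, 0⟩, ⟨0, 0⟩, ⟨0, 0⟩⟩, ⟨⟨-1, 2⟩, ⟨1, 0⟩, ⟨-1, 0⟩, ⟨-1, 0⟩⟩),
  (⟨⟨2, 0⟩, ⟨0, 0⟩, ⟨0, 0⟩, ⟨0, 0⟩⟩, ⟨⟨0, 0⟩, ⟨-2, 0⟩, ⟨0, 0⟩, ⟨0, 0⟩⟩, ⟨⟨-1, 0⟩, ⟨-1, 2⟩, ⟨1, 0⟩, ⟨-1, 0⟩⟩),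
  (⟨⟨2, 0⟩, ⟨0, 0⟩, ⟨0, 0⟩, ⟨0, 0⟩⟩, ⟨⟨0, 0⟩, ⟨-2, 0⟩, ⟨0, 0⟩, ⟨0, 0⟩⟩, ⟨⟨1, -2⟩, ⟨-1, 0⟩, ⟨1, 0⟩, ⟨1, 0⟩⟩),
  (⟨⟨2, 0⟩, ⟨0, 0⟩, ⟨0, 0⟩, ⟨0, 0⟩⟩, ⟨⟨0, 0⟩, ⟨-2, 0⟩, ⟨0, 0⟩, ⟨0, 0⟩⟩, ⟨⟨1, 0⟩, ⟨1, -2⟩, ⟨-1, 0⟩, ⟨1, 0⟩⟩),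
  (⟨⟨2, 0⟩, ⟨0, 0⟩, ⟨0, 0⟩, ⟨0, 0⟩⟩, ⟨⟨0, 0⟩, ⟨-2, 0⟩, ⟨0, 0⟩, ⟨0, 0⟩⟩, ⟨⟨1, 0⟩, ⟨-1, 0⟩, ⟨-1, 2⟩, ⟨-1, 0⟩⟩),
  (⟨⟨2, 0⟩, ⟨0, 0⟩, ⟨0, 0⟩, ⟨0, 0⟩⟩, ⟨⟨0, 0⟩, ⟨-2, 0⟩, ⟨0, 0⟩, ⟨0, 0⟩⟩, ⟨⟨1, 0⟩, ⟨1, 0⟩, ⟨1, 0⟩, ⟨-1, 2⟩⟩),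
  (⟨⟨2, 0⟩, ⟨0, 0⟩, ⟨0, 0⟩, ⟨0, 0⟩⟩, ⟨⟨0, 0⟩, ⟨-2, 0⟩, ⟨0, 0⟩, ⟨0, 0⟩⟩, ⟨⟨-1, 0⟩, ⟨1, 0⟩, ⟨1, -2⟩, ⟨1, 0⟩⟩),
  (⟨⟨2, 0⟩, ⟨0, 0⟩, ⟨0, 0⟩, ⟨0, 0⟩⟩, ⟨⟨0, 0⟩, ⟨-2, 0⟩, ⟨0, 0⟩, ⟨0, 0⟩⟩, ⟨⟨-1, 0⟩, ⟨-1, 0⟩, ⟨-1, 0⟩, ⟨1, -2⟩⟩),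
  (⟨⟨2, 0⟩, ⟨0, 0⟩, ⟨0, 0⟩, ⟨0, 0⟩⟩, ⟨⟨0, 0⟩, ⟨0, 0⟩, ⟨0, 0⟩, ⟨-2, 0⟩⟩, ⟨⟨-1, 2⟩, ⟨-1, 0⟩, ⟨-1, 0⟩, ⟨1, 0⟩⟩),
  (⟨⟨2, 0⟩, ⟨0, 0⟩, ⟨0, 0⟩, ⟨0, 0⟩⟩, ⟨⟨0, 0⟩, ⟨0, 0⟩, ⟨0, 0⟩, ⟨-2, 0⟩⟩, ⟨⟨1, 0⟩, ⟨-1, 2⟩, ⟨-1, 0⟩, ⟨-1, 0⟩⟩),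
  (⟨⟨2, 0⟩, ⟨0, 0⟩, ⟨0, 0⟩, ⟨0, 0⟩⟩, ⟨⟨0, 0⟩, ⟨0, 0⟩, ⟨0, 0⟩, ⟨-2, 0⟩⟩, ⟨⟨1, -2⟩, ⟨1, 0⟩, ⟨1, 0⟩, ⟨-1, 0⟩⟩),
  (⟨⟨2, 0⟩, ⟨0, 0⟩, ⟨0, 0⟩, ⟨0, 0⟩⟩, ⟨⟨0, 0⟩, ⟨0, 0⟩, ⟨0, 0⟩, ⟨-2, 0⟩⟩, ⟨⟨-1, 0⟩, ⟨1, -2⟩, ⟨1, 0⟩, ⟨1, 0⟩⟩),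
  (⟨⟨2, 0⟩, ⟨0, 0⟩, ⟨0, 0⟩, ⟨0, 0⟩⟩, ⟨⟨0, 0⟩, ⟨0, 0⟩, ⟨0, 0⟩, ⟨-2, 0⟩⟩, ⟨⟨1, 0⟩, ⟨1, 0⟩, ⟨-1, 2⟩, ⟨1, 0⟩⟩),
  (⟨⟨2, 0⟩, ⟨0, 0⟩, ⟨0, 0⟩, ⟨0, 0⟩⟩, ⟨⟨0, 0⟩, ⟨0, 0⟩, ⟨0, 0⟩, ⟨-2, 0⟩⟩, ⟨⟨-1, 0⟩, ⟨1, 0⟩, ⟨-1, 0⟩, ⟨-1, 2⟩⟩),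
  (⟨⟨2, 0⟩, ⟨0, 0⟩, ⟨0, 0⟩, ⟨0, 0⟩⟩, ⟨⟨0, 0⟩, ⟨0, 0⟩, ⟨0, 0⟩, ⟨-2, 0⟩⟩, ⟨⟨-1, 0⟩, ⟨-1, 0⟩, ⟨1, -2⟩, ⟨-1, 0⟩⟩),
  (⟨⟨2, 0⟩, ⟨0, 0⟩, ⟨0, 0⟩, ⟨0, 0⟩⟩, ⟨⟨0, 0⟩, ⟨0, 0⟩, ⟨0, 0⟩, ⟨-2, 0⟩⟩, ⟨⟨1, 0⟩, ⟨-1, 0⟩, ⟨1, 0⟩, ⟨1, -2⟩⟩),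
  (⟨⟨2, 0⟩, ⟨0, 0⟩, ⟨0, 0⟩, ⟨0, 0⟩⟩, ⟨⟨0, 0⟩, ⟨0, 0⟩, ⟨2, 0⟩, ⟨0, 0⟩⟩, ⟨⟨-1, 2⟩, ⟨-1, 0⟩, ⟨1, 0⟩, ⟨-1, 0⟩⟩),
  (⟨⟨2, 0⟩, ⟨0, 0⟩, ⟨0, 0⟩, ⟨0, 0⟩⟩, ⟨⟨0, 0⟩, ⟨0, 0⟩, ⟨2, 0⟩, ⟨0, 0⟩⟩, ⟨⟨1, 0⟩, ⟨-1, 2⟩, ⟨1, 0⟩, ⟨1, 0⟩⟩),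
  (⟨⟨2, 0⟩, ⟨0, 0⟩, ⟨0, 0⟩, ⟨0, 0⟩⟩, ⟨⟨0, 0⟩, ⟨0, 0⟩, ⟨2, 0⟩, ⟨0, 0⟩⟩, ⟨⟨1, -2⟩, ⟨1, 0⟩, ⟨-1, 0⟩, ⟨1, 0⟩⟩),
  (⟨⟨2, 0⟩, ⟨0, 0⟩, ⟨0, 0⟩, ⟨0, 0⟩⟩, ⟨⟨0, 0⟩, ⟨0, 0⟩, ⟨2, 0⟩, ⟨0, 0⟩⟩, ⟨⟨-1, 0⟩, ⟨1, -2⟩, ⟨-1, 0⟩, ⟨-1, 0⟩⟩),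
  (⟨⟨2, 0⟩, ⟨0, 0⟩, ⟨0, 0⟩, ⟨0, 0⟩⟩, ⟨⟨0, 0⟩, ⟨0, 0⟩, ⟨2, 0⟩, ⟨0, 0⟩⟩, ⟨⟨1, 0⟩, ⟨-1, 0⟩, ⟨-1, 0⟩, ⟨-1, 2⟩⟩),
  (⟨⟨2, 0⟩, ⟨0, 0⟩, ⟨0, 0⟩, ⟨0, 0⟩⟩, ⟨⟨0, 0⟩, ⟨0, 0⟩, ⟨2, 0⟩, ⟨0, 0⟩⟩, ⟨⟨1, 0⟩, ⟨1, 0⟩, ⟨1, -2⟩, ⟨-1, 0⟩⟩),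
  (⟨⟨2, 0⟩, ⟨0, 0⟩, ⟨0, 0⟩, ⟨0, 0⟩⟩, ⟨⟨0, 0⟩, ⟨0, 0⟩, ⟨2, 0⟩, ⟨0, 0⟩⟩, ⟨⟨-1, 0⟩, ⟨1, 0⟩, ⟨1, 0⟩, ⟨1, -2⟩⟩),
  (⟨⟨2, 0⟩, ⟨0, 0⟩, ⟨0, 0⟩, ⟨0, 0⟩⟩, ⟨⟨0, 0⟩, ⟨0, 0⟩, ⟨2, 0⟩, ⟨0, 0⟩⟩, ⟨⟨-1, 0⟩, ⟨-1, 0⟩, ⟨-1, 2⟩, ⟨1, 0⟩⟩),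
  (⟨⟨2, 0⟩, ⟨0, 0⟩, ⟨0, 0⟩, ⟨0, 0⟩⟩, ⟨⟨0, 0⟩, ⟨0, 0⟩, ⟨-2, 0⟩, ⟨0, 0⟩⟩, ⟨⟨-1, 2⟩, ⟨-1, 0⟩, ⟨1, 0⟩, ⟨-1, 0⟩⟩),
  (⟨⟨2, 0⟩, ⟨0, 0⟩, ⟨0, 0⟩, ⟨0, 0⟩⟩, ⟨⟨0, 0⟩, ⟨0, 0⟩, ⟨-2, 0⟩, ⟨0, 0⟩⟩, ⟨⟨1, 0⟩, ⟨-1, 2⟩, ⟨1, 0⟩, ⟨1, 0⟩⟩),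
  (⟨⟨2, 0⟩, ⟨0, 0⟩, ⟨0, 0⟩, ⟨0, 0⟩⟩, ⟨⟨0, 0⟩, ⟨0, 0⟩, ⟨-2, 0⟩, ⟨0, 0⟩⟩, ⟨⟨1, -2⟩, ⟨1, 0⟩, ⟨-1, 0⟩, ⟨1, 0⟩⟩),
  (⟨⟨2, 0⟩, ⟨0, 0⟩, ⟨0, 0⟩, ⟨0, 0⟩⟩, ⟨⟨0, 0⟩, ⟨0, 0⟩, ⟨-2, 0⟩, ⟨0, 0⟩⟩, ⟨⟨-1, 0⟩, ⟨1, -2⟩, ⟨-1, 0⟩, ⟨-1, 0⟩⟩),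
  (⟨⟨2, 0⟩, ⟨0, 0⟩, ⟨0, 0⟩, ⟨0, 0⟩⟩, ⟨⟨0, 0⟩, ⟨0, 0⟩, ⟨-2, 0⟩, ⟨0, 0⟩⟩, ⟨⟨1, 0⟩, ⟨-1, 0⟩, ⟨-1, 0⟩, ⟨-1, 2⟩⟩),
  (⟨⟨2, 0⟩, ⟨0, 0⟩, ⟨0, 0⟩, ⟨0, 0⟩⟩, ⟨⟨0, 0⟩, ⟨0, 0⟩, ⟨-2, 0⟩, ⟨0, 0⟩⟩, ⟨⟨1, 0⟩, ⟨1, 0⟩, ⟨1, -2⟩, ⟨-1, 0⟩⟩),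
  (⟨⟨2, 0⟩, ⟨0, 0⟩, ⟨0, 0⟩, ⟨0, 0⟩⟩, ⟨⟨0, 0⟩, ⟨0, 0⟩, ⟨-2, 0⟩, ⟨0, 0⟩⟩, ⟨⟨-1, 0⟩, ⟨1, 0⟩, ⟨1, 0⟩, ⟨1, -2⟩⟩),
  (⟨⟨2, 0⟩, ⟨0, 0⟩, ⟨0, 0⟩, ⟨0, 0⟩⟩, ⟨⟨0, 0⟩, ⟨0, 0⟩, ⟨-2, 0⟩, ⟨0, 0⟩⟩, ⟨⟨-1, 0⟩, ⟨-1, 0⟩, ⟨-1, 2⟩, ⟨1, 0⟩⟩),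
  (⟨⟨2, 0⟩, ⟨0, 0⟩, ⟨0, 0⟩, ⟨0, 0⟩⟩, ⟨⟨0, 0⟩, ⟨0, 0⟩, ⟨0, 0⟩, ⟨2, 0⟩⟩, ⟨⟨-1, 2⟩, ⟨-1, 0⟩, ⟨-1, 0⟩, ⟨1, 0⟩⟩),
  (⟨⟨2, 0⟩, ⟨0, 0⟩, ⟨0, 0⟩, ⟨0, 0⟩⟩, ⟨⟨0, 0⟩, ⟨0, 0⟩, ⟨0, 0⟩, ⟨2, 0⟩⟩, ⟨⟨1, 0⟩, ⟨-1, 2⟩, ⟨-1, 0⟩, ⟨-1, 0⟩⟩),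
  (⟨⟨2, 0⟩, ⟨0, 0⟩, ⟨0, 0⟩, ⟨0, 0⟩⟩, ⟨⟨0, 0⟩, ⟨0, 0⟩, ⟨0, 0⟩, ⟨2, 0⟩⟩, ⟨⟨1, -2⟩, ⟨1, 0⟩, ⟨1, 0⟩, ⟨-1, 0⟩⟩),
  (⟨⟨2, 0⟩, ⟨0, 0⟩, ⟨0, 0⟩, ⟨0, 0⟩⟩, ⟨⟨0, 0⟩, ⟨0, 0⟩, ⟨0, 0⟩, ⟨2, 0⟩⟩, ⟨⟨-1, 0⟩, ⟨1, -2⟩, ⟨1, 0⟩, ⟨1, 0⟩⟩),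
  (⟨⟨2, 0⟩, ⟨0, 0⟩, ⟨0, 0⟩, ⟨0, 0⟩⟩, ⟨⟨0, 0⟩, ⟨0, 0⟩, ⟨0, 0⟩, ⟨2, 0⟩⟩, ⟨⟨1, 0⟩, ⟨1, 0⟩, ⟨-1, 2⟩, ⟨1, 0⟩⟩),
  (⟨⟨2, 0⟩, ⟨0, 0⟩, ⟨0, 0⟩, ⟨0, 0⟩⟩, ⟨⟨0, 0⟩, ⟨0, 0⟩, ⟨0, 0⟩, ⟨2, 0⟩⟩, ⟨⟨-1, 0⟩, ⟨1, 0⟩, ⟨-1, 0⟩, ⟨-1, 2⟩⟩),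
  (⟨⟨2, 0⟩, ⟨0, 0⟩, ⟨0, 0⟩, ⟨0, 0⟩⟩, ⟨⟨0, 0⟩, ⟨0, 0⟩, ⟨0, 0⟩, ⟨2, 0⟩⟩, ⟨⟨-1, 0⟩, ⟨-1, 0⟩, ⟨1, -2⟩, ⟨-1, 0⟩⟩),
  (⟨⟨2, 0⟩, ⟨0, 0⟩, ⟨0, 0⟩, ⟨0, 0⟩⟩, ⟨⟨0, 0⟩, ⟨0, 0⟩, ⟨0, 0⟩, ⟨2, 0⟩⟩, ⟨⟨1, 0⟩, ⟨-1, 0⟩, ⟨1, 0⟩, ⟨1, -2⟩⟩),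
  (⟨⟨2, 0⟩, ⟨0, 0⟩, ⟨0, 0⟩, ⟨0, 0⟩⟩, ⟨⟨0, 1⟩, ⟨0, 1⟩, ⟨0, 1⟩, ⟨0, -1⟩⟩, ⟨⟨-1, 1⟩, ⟨-1, 1⟩, ⟨1, -1⟩, ⟨1, -1⟩⟩),
  (⟨⟨2, 0⟩, ⟨0, 0⟩, ⟨0, 0⟩, ⟨0, 0⟩⟩, ⟨⟨0, 1⟩, ⟨0, 1⟩, ⟨0, 1⟩, ⟨0, -1⟩⟩, ⟨⟨1, -1⟩, ⟨1, -1⟩, ⟨-1, 1⟩, ⟨-1, 1⟩⟩),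
  (⟨⟨2, 0⟩, ⟨0, 0⟩, ⟨0, 0⟩, ⟨0, 0⟩⟩, ⟨⟨0, -1⟩, ⟨0, 1⟩, ⟨0, 1⟩, ⟨0, 1⟩⟩, ⟨⟨1, -1⟩, ⟨1, -1⟩, ⟨1, -1⟩, ⟨1, -1⟩⟩),
  (⟨⟨2, 0⟩, ⟨0, 0⟩, ⟨0, 0⟩, ⟨0, 0⟩⟩, ⟨⟨0, -1⟩, ⟨0, 1⟩, ⟨0, 1⟩, ⟨0, 1⟩⟩, ⟨⟨-1, 1⟩, ⟨-1, 1⟩, ⟨-1, 1⟩, ⟨-1, 1⟩⟩),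
  (⟨⟨2, 0⟩, ⟨0, 0⟩, ⟨0, 0⟩, ⟨0, 0⟩⟩, ⟨⟨0, -1⟩, ⟨0, 1⟩, ⟨0, -1⟩, ⟨0, -1⟩⟩, ⟨⟨1, -1⟩, ⟨-1, 1⟩, ⟨1, -1⟩, ⟨-1, 1⟩⟩),
  (⟨⟨2, 0⟩, ⟨0, 0⟩, ⟨0, 0⟩, ⟨0, 0⟩⟩, ⟨⟨0, -1⟩, ⟨0, 1⟩, ⟨0, -1⟩, ⟨0, -1⟩⟩, ⟨⟨-1, 1⟩, ⟨1, -1⟩, ⟨-1, 1⟩, ⟨1, -1⟩⟩),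
  (⟨⟨2, 0⟩, ⟨0, 0⟩, ⟨0, 0⟩, ⟨0, 0⟩⟩, ⟨⟨0, -1⟩, ⟨0, -1⟩, ⟨0, -1⟩, ⟨0, 1⟩⟩, ⟨⟨-1, 1⟩, ⟨-1, 1⟩, ⟨1, -1⟩, ⟨1, -1⟩⟩),
  (⟨⟨2, 0⟩, ⟨0, 0⟩, ⟨0, 0⟩, ⟨0, 0⟩⟩, ⟨⟨0, -1⟩, ⟨0, -1⟩, ⟨0, -1⟩, ⟨0, 1⟩⟩, ⟨⟨1, -1⟩, ⟨1, -1⟩, ⟨-1, 1⟩, ⟨-1, 1⟩⟩),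
  (⟨⟨2, 0⟩, ⟨0, 0⟩, ⟨0, 0⟩, ⟨0, 0⟩⟩, ⟨⟨0, -1⟩, ⟨0, -1⟩, ⟨0, 1⟩, ⟨0, -1⟩⟩, ⟨⟨1, -1⟩, ⟨-1, 1⟩, ⟨-1, 1⟩, ⟨1, -1⟩⟩),
  (⟨⟨2, 0⟩, ⟨0, 0⟩, ⟨0, 0⟩, ⟨0, 0⟩⟩, ⟨⟨0, -1⟩, ⟨0, -1⟩, ⟨0, 1⟩, ⟨0, -1⟩⟩, ⟨⟨-1, 1⟩, ⟨1, -1⟩, ⟨1, -1⟩, ⟨-1, 1⟩⟩),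
  (⟨⟨2, 0⟩, ⟨0, 0⟩, ⟨0, 0⟩, ⟨0, 0⟩⟩, ⟨⟨0, 1⟩, ⟨0, -1⟩, ⟨0, -1⟩, ⟨0, -1⟩⟩, ⟨⟨1, -1⟩, ⟨1, -1⟩, ⟨1, -1⟩, ⟨1, -1⟩⟩),
  (⟨⟨2, 0⟩, ⟨0, 0⟩, ⟨0, 0⟩, ⟨0, 0⟩⟩, ⟨⟨0, 1⟩, ⟨0, -1⟩, ⟨0, -1⟩, ⟨0, -1⟩⟩, ⟨⟨-1, 1⟩, ⟨-1, 1⟩, ⟨-1, 1⟩, ⟨-1, 1⟩⟩),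
  (⟨⟨2, 0⟩, ⟨0, 0⟩, ⟨0, 0⟩, ⟨0, 0⟩⟩, ⟨⟨0, 1⟩, ⟨0, -1⟩, ⟨0, 1⟩, ⟨0, 1⟩⟩, ⟨⟨1, -1⟩, ⟨-1, 1⟩, ⟨1, -1⟩, ⟨-1, 1⟩⟩),
  (⟨⟨2, 0⟩, ⟨0, 0⟩, ⟨0, 0⟩, ⟨0, 0⟩⟩, ⟨⟨0, 1⟩, ⟨0, -1⟩, ⟨0, 1⟩, ⟨0, 1⟩⟩, ⟨⟨-1, 1⟩, ⟨1, -1⟩, ⟨-1, 1⟩, ⟨1, -1⟩⟩),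
  (⟨⟨2, 0⟩, ⟨0, 0⟩, ⟨0, 0⟩, ⟨0, 0⟩⟩, ⟨⟨0, 1⟩, ⟨0, 1⟩, ⟨0, -1⟩, ⟨0, 1⟩⟩, ⟨⟨1, -1⟩, ⟨-1, 1⟩, ⟨-1, 1⟩, ⟨1, -1⟩⟩),
  (⟨⟨2, 0⟩, ⟨0, 0⟩, ⟨0, 0⟩, ⟨0, 0⟩⟩, ⟨⟨0, 1⟩, ⟨0, 1⟩, ⟨0, -1⟩, ⟨0, 1⟩⟩, ⟨⟨-1, 1⟩, ⟨1, -1⟩, ⟨1, -1⟩, ⟨-1, 1⟩⟩)]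

/-- Representatives of the 315 lines. -/
def repTab : List (Q × Q × Q) :=
  [
  (⟨⟨1, -2⟩, ⟨1, 0⟩, ⟨1, 0⟩, ⟨1, 0⟩⟩, ⟨⟨-1, 2⟩, ⟨-1, 0⟩, ⟨-1, 0⟩, ⟨-1, 0⟩⟩, ⟨⟨0, 0⟩, ⟨0, 0⟩, ⟨0, 0⟩, ⟨0, 0⟩⟩),
  (⟨⟨2, 0⟩, ⟨0, 0⟩, ⟨0, 0⟩, ⟨0, 0⟩⟩, ⟨⟨-2, 0⟩, ⟨0, 0⟩, ⟨0, 0⟩, ⟨0, 0⟩⟩, ⟨⟨1, 0⟩, ⟨1, 0⟩, ⟨-1, 0⟩, ⟨1, -2⟩⟩),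
  (⟨⟨2, 0⟩, ⟨0, 0⟩, ⟨0, 0⟩, ⟨0, 0⟩⟩, ⟨⟨-2, 0⟩, ⟨0, 0⟩, ⟨0, 0⟩, ⟨0, 0⟩⟩, ⟨⟨1, 0⟩, ⟨1, -2⟩, ⟨1, 0⟩, ⟨-1, 0⟩⟩),
  (⟨⟨2, 0⟩, ⟨0, 0⟩, ⟨0, 0⟩, ⟨0, 0⟩⟩, ⟨⟨-2, 0⟩, ⟨0, 0⟩, ⟨0, 0⟩, ⟨0, 0⟩⟩, ⟨⟨1, 0⟩, ⟨-1, 0⟩, ⟨1, -2⟩, ⟨1, 0⟩⟩),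
  (⟨⟨2, 0⟩, ⟨0, 0⟩, ⟨0, 0⟩, ⟨0, 0⟩⟩, ⟨⟨-2, 0⟩, ⟨0, 0⟩, ⟨0, 0⟩, ⟨0, 0⟩⟩, ⟨⟨1, -2⟩, ⟨-1, 0⟩, ⟨-1, 0⟩, ⟨-1, 0⟩⟩),
  (⟨⟨2, 0⟩, ⟨0, 0⟩, ⟨0, 0⟩, ⟨0, 0⟩⟩, ⟨⟨-2, 0⟩, ⟨0, 0⟩, ⟨0, 0⟩, ⟨0, 0⟩⟩, ⟨⟨-1, 2⟩, ⟨1, 0⟩, ⟨1, 0⟩, ⟨1, 0⟩⟩),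
  (⟨⟨2, 0⟩, ⟨0, 0⟩, ⟨0, 0⟩, ⟨0, 0⟩⟩, ⟨⟨-2, 0⟩, ⟨0, 0⟩, ⟨0, 0⟩, ⟨0, 0⟩⟩, ⟨⟨-1, 0⟩, ⟨1, 0⟩, ⟨-1, 2⟩, ⟨-1, 0⟩⟩),
  (⟨⟨2, 0⟩, ⟨0, 0⟩, ⟨0, 0⟩, ⟨0, 0⟩⟩, ⟨⟨-2, 0⟩, ⟨0, 0⟩, ⟨0, 0⟩, ⟨0, 0⟩⟩, ⟨⟨-1, 0⟩, ⟨-1, 2⟩, ⟨-1, 0⟩, ⟨1, 0⟩⟩),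
  (⟨⟨2, 0⟩, ⟨0, 0⟩, ⟨0, 0⟩, ⟨0, 0⟩⟩, ⟨⟨-2, 0⟩, ⟨0, 0⟩, ⟨0, 0⟩, ⟨0, 0⟩⟩, ⟨⟨-1, 0⟩, ⟨-1, 0⟩, ⟨1, 0⟩, ⟨-1, 2⟩⟩),
  (⟨⟨1, -1⟩, ⟨1, -1⟩, ⟨1, -1⟩, ⟨1, -1⟩⟩, ⟨⟨0, -1⟩, ⟨0, 1⟩, ⟨0, 1⟩, ⟨0, 1⟩⟩, ⟨⟨2, 0⟩, ⟨0, 0⟩, ⟨0, 0⟩, ⟨0, 0⟩⟩),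
  (⟨⟨-1, 1⟩, ⟨-1, 1⟩, ⟨-1, 1⟩, ⟨-1, 1⟩⟩, ⟨⟨0, 1⟩, ⟨0, -1⟩, ⟨0, -1⟩, ⟨0, -1⟩⟩, ⟨⟨2, 0⟩, ⟨0, 0⟩, ⟨0, 0⟩, ⟨0, 0⟩⟩),
  (⟨⟨-1, 0⟩, ⟨1, 0⟩, ⟨1, 0⟩, ⟨1, -2⟩⟩, ⟨⟨2, 0⟩, ⟨0, 0⟩, ⟨0, 0⟩, ⟨0, 0⟩⟩, ⟨⟨0, 0⟩, ⟨0, 0⟩, ⟨-2, 0⟩, ⟨0, 0⟩⟩),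
  (⟨⟨-1, 0⟩, ⟨1, 0⟩, ⟨1, 0⟩, ⟨1, -2⟩⟩, ⟨⟨2, 0⟩, ⟨0, 0⟩, ⟨0, 0⟩, ⟨0, 0⟩⟩, ⟨⟨0, 0⟩, ⟨0, 0⟩, ⟨2, 0⟩, ⟨0, 0⟩⟩),
  (⟨⟨2, 0⟩, ⟨0, 0⟩, ⟨0, 0⟩, ⟨0, 0⟩⟩, ⟨⟨-1, 0⟩, ⟨-1, 0⟩, ⟨-1, 0⟩, ⟨1, -2⟩⟩, ⟨⟨0, 0⟩, ⟨2, 0⟩, ⟨0, 0⟩, ⟨0, 0⟩⟩),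
  (⟨⟨2, 0⟩, ⟨0, 0⟩, ⟨0, 0⟩, ⟨0, 0⟩⟩, ⟨⟨-1, 0⟩, ⟨-1, 0⟩, ⟨-1, 0⟩, ⟨1, -2⟩⟩, ⟨⟨0, 0⟩, ⟨-2, 0⟩, ⟨0, 0⟩, ⟨0, 0⟩⟩),
  (⟨⟨0, -1⟩, ⟨0, 1⟩, ⟨0, -1⟩, ⟨0, -1⟩⟩, ⟨⟨-1, 1⟩, ⟨1, -1⟩, ⟨-1, 1⟩, ⟨1, -1⟩⟩, ⟨⟨2, 0⟩, ⟨0, 0⟩, ⟨0, 0⟩, ⟨0, 0⟩⟩),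
  (⟨⟨0, 1⟩, ⟨0, -1⟩, ⟨0, 1⟩, ⟨0, 1⟩⟩, ⟨⟨1, -1⟩, ⟨-1, 1⟩, ⟨1, -1⟩, ⟨-1, 1⟩⟩, ⟨⟨2, 0⟩, ⟨0, 0⟩, ⟨0, 0⟩, ⟨0, 0⟩⟩),
  (⟨⟨-1, 0⟩, ⟨1, 0⟩, ⟨1, -2⟩, ⟨1, 0⟩⟩, ⟨⟨2, 0⟩, ⟨0, 0⟩, ⟨0, 0⟩, ⟨0, 0⟩⟩, ⟨⟨0, 0⟩, ⟨-2, 0⟩, ⟨0, 0⟩, ⟨0, 0⟩⟩),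
  (⟨⟨-1, 0⟩, ⟨1, 0⟩, ⟨1, -2⟩, ⟨1, 0⟩⟩, ⟨⟨2, 0⟩, ⟨0, 0⟩, ⟨0, 0⟩, ⟨0, 0⟩⟩, ⟨⟨0, 0⟩, ⟨2, 0⟩, ⟨0, 0⟩, ⟨0, 0⟩⟩),
  (⟨⟨2, 0⟩, ⟨0, 0⟩, ⟨0, 0⟩, ⟨0, 0⟩⟩, ⟨⟨-1, 0⟩, ⟨-1, 0⟩, ⟨-1, 2⟩, ⟨1, 0⟩⟩, ⟨⟨0, 0⟩, ⟨0, 0⟩, ⟨2, 0⟩, ⟨0, 0⟩⟩),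
  (⟨⟨2, 0⟩, ⟨0, 0⟩, ⟨0, 0⟩, ⟨0, 0⟩⟩, ⟨⟨-1, 0⟩, ⟨-1, 0⟩, ⟨-1, 2⟩, ⟨1, 0⟩⟩, ⟨⟨0, 0⟩, ⟨0, 0⟩, ⟨-2, 0⟩, ⟨0, 0⟩⟩),
  (⟨⟨2, 0⟩, ⟨0, 0⟩, ⟨0, 0⟩, ⟨0, 0⟩⟩, ⟨⟨-1, 0⟩, ⟨-1, 0⟩, ⟨1, -2⟩, ⟨-1, 0⟩⟩, ⟨⟨0, 0⟩, ⟨0, 0⟩, ⟨0, 0⟩, ⟨2, 0⟩⟩),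
  (⟨⟨2, 0⟩, ⟨0, 0⟩, ⟨0, 0⟩, ⟨0, 0⟩⟩, ⟨⟨-1, 0⟩, ⟨-1, 0⟩, ⟨1, -2⟩, ⟨-1, 0⟩⟩, ⟨⟨0, 0⟩, ⟨0, 0⟩, ⟨0, 0⟩, ⟨-2, 0⟩⟩),
  (⟨⟨-1, 0⟩, ⟨1, 0⟩, ⟨-1, 2⟩, ⟨-1, 0⟩⟩, ⟨⟨2, 0⟩, ⟨0, 0⟩, ⟨0, 0⟩, ⟨0, 0⟩⟩, ⟨⟨-2, 0⟩, ⟨0, 0⟩, ⟨0, 0⟩, ⟨0, 0⟩⟩),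
  (⟨⟨-1, 0⟩, ⟨1, 0⟩, ⟨-1, 2⟩, ⟨-1, 0⟩⟩, ⟨⟨2, 0⟩, ⟨0, 0⟩, ⟨0, 0⟩, ⟨0, 0⟩⟩, ⟨⟨2, 0⟩, ⟨0, 0⟩, ⟨0, 0⟩, ⟨0, 0⟩⟩),
  (⟨⟨0, -1⟩, ⟨0, -1⟩, ⟨0, -1⟩, ⟨0, 1⟩⟩, ⟨⟨-1, 1⟩, ⟨-1, 1⟩, ⟨1, -1⟩, ⟨1, -1⟩⟩, ⟨⟨2, 0⟩, ⟨0, 0⟩, ⟨0, 0⟩, ⟨0, 0⟩⟩),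
  (⟨⟨0, 1⟩, ⟨0, 1⟩, ⟨0, 1⟩, ⟨0, -1⟩⟩, ⟨⟨1, -1⟩, ⟨1, -1⟩, ⟨-1, 1⟩, ⟨-1, 1⟩⟩, ⟨⟨2, 0⟩, ⟨0, 0⟩, ⟨0, 0⟩, ⟨0, 0⟩⟩),
  (⟨⟨2, 0⟩, ⟨0, 0⟩, ⟨0, 0⟩, ⟨0, 0⟩⟩, ⟨⟨-1, 0⟩, ⟨-1, 0⟩, ⟨1, 0⟩, ⟨-1, 2⟩⟩, ⟨⟨2, 0⟩, ⟨0, 0⟩, ⟨0, 0⟩, ⟨0, 0⟩⟩),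
  (⟨⟨2, 0⟩, ⟨0, 0⟩, ⟨0, 0⟩, ⟨0, 0⟩⟩, ⟨⟨-1, 0⟩, ⟨-1, 0⟩, ⟨1, 0⟩, ⟨-1, 2⟩⟩, ⟨⟨-2, 0⟩, ⟨0, 0⟩, ⟨0, 0⟩, ⟨0, 0⟩⟩),
  (⟨⟨-1, 0⟩, ⟨1, 0⟩, ⟨-1, 0⟩, ⟨-1, 2⟩⟩, ⟨⟨2, 0⟩, ⟨0, 0⟩, ⟨0, 0⟩, ⟨0, 0⟩⟩, ⟨⟨0, 0⟩, ⟨0, 0⟩, ⟨0, 0⟩, ⟨-2, 0⟩⟩),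
  (⟨⟨-1, 0⟩, ⟨1, 0⟩, ⟨-1, 0⟩, ⟨-1, 2⟩⟩, ⟨⟨2, 0⟩, ⟨0, 0⟩, ⟨0, 0⟩, ⟨0, 0⟩⟩, ⟨⟨0, 0⟩, ⟨0, 0⟩, ⟨0, 0⟩, ⟨2, 0⟩⟩),
  (⟨⟨-1, 1⟩, ⟨1, -1⟩, ⟨1, -1⟩, ⟨-1, 1⟩⟩, ⟨⟨0, -1⟩, ⟨0, -1⟩, ⟨0, 1⟩, ⟨0, -1⟩⟩, ⟨⟨2, 0⟩, ⟨0, 0⟩, ⟨0, 0⟩, ⟨0, 0⟩⟩),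
  (⟨⟨1, -1⟩, ⟨-1, 1⟩, ⟨-1, 1⟩, ⟨1, -1⟩⟩, ⟨⟨0, 1⟩, ⟨0, 1⟩, ⟨0, -1⟩, ⟨0, 1⟩⟩, ⟨⟨2, 0⟩, ⟨0, 0⟩, ⟨0, 0⟩, ⟨0, 0⟩⟩),
  (⟨⟨-1, 0⟩, ⟨1, -2⟩, ⟨1, 0⟩, ⟨1, 0⟩⟩, ⟨⟨2, 0⟩, ⟨0, 0⟩, ⟨0, 0⟩, ⟨0, 0⟩⟩, ⟨⟨0, 0⟩, ⟨0, 0⟩, ⟨0, 0⟩, ⟨-2, 0⟩⟩),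
  (⟨⟨-1, 0⟩, ⟨1, -2⟩, ⟨1, 0⟩, ⟨1, 0⟩⟩, ⟨⟨2, 0⟩, ⟨0, 0⟩, ⟨0, 0⟩, ⟨0, 0⟩⟩, ⟨⟨0, 0⟩, ⟨0, 0⟩, ⟨0, 0⟩, ⟨2, 0⟩⟩),
  (⟨⟨2, 0⟩, ⟨0, 0⟩, ⟨0, 0⟩, ⟨0, 0⟩⟩, ⟨⟨-1, 0⟩, ⟨-1, 2⟩, ⟨-1, 0⟩, ⟨1, 0⟩⟩, ⟨⟨2, 0⟩, ⟨0, 0⟩, ⟨0, 0⟩, ⟨0, 0⟩⟩),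
  (⟨⟨2, 0⟩, ⟨0, 0⟩, ⟨0, 0⟩, ⟨0, 0⟩⟩, ⟨⟨-1, 0⟩, ⟨-1, 2⟩, ⟨-1, 0⟩, ⟨1, 0⟩⟩, ⟨⟨-2, 0⟩, ⟨0, 0⟩, ⟨0, 0⟩, ⟨0, 0⟩⟩),
  (⟨⟨2, 0⟩, ⟨0, 0⟩, ⟨0, 0⟩, ⟨0, 0⟩⟩, ⟨⟨-1, 0⟩, ⟨-1, 2⟩, ⟨1, 0⟩, ⟨-1, 0⟩⟩, ⟨⟨0, 0⟩, ⟨2, 0⟩, ⟨0, 0⟩, ⟨0, 0⟩⟩),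
  (⟨⟨2, 0⟩, ⟨0, 0⟩, ⟨0, 0⟩, ⟨0, 0⟩⟩, ⟨⟨-1, 0⟩, ⟨-1, 2⟩, ⟨1, 0⟩, ⟨-1, 0⟩⟩, ⟨⟨0, 0⟩, ⟨-2, 0⟩, ⟨0, 0⟩, ⟨0, 0⟩⟩),
  (⟨⟨-1, 0⟩, ⟨1, -2⟩, ⟨-1, 0⟩, ⟨-1, 0⟩⟩, ⟨⟨2, 0⟩, ⟨0, 0⟩, ⟨0, 0⟩, ⟨0, 0⟩⟩, ⟨⟨0, 0⟩, ⟨0, 0⟩, ⟨-2, 0⟩, ⟨0, 0⟩⟩),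
  (⟨⟨-1, 0⟩, ⟨1, -2⟩, ⟨-1, 0⟩, ⟨-1, 0⟩⟩, ⟨⟨2, 0⟩, ⟨0, 0⟩, ⟨0, 0⟩, ⟨0, 0⟩⟩, ⟨⟨0, 0⟩, ⟨0, 0⟩, ⟨2, 0⟩, ⟨0, 0⟩⟩),
  (⟨⟨2, 0⟩, ⟨0, 0⟩, ⟨0, 0⟩, ⟨0, 0⟩⟩, ⟨⟨-1, 0⟩, ⟨1, -2⟩, ⟨-1, 0⟩, ⟨-1, 0⟩⟩, ⟨⟨0, 0⟩, ⟨0, 0⟩, ⟨2, 0⟩, ⟨0, 0⟩⟩),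
  (⟨⟨2, 0⟩, ⟨0, 0⟩, ⟨0, 0⟩, ⟨0, 0⟩⟩, ⟨⟨-1, 0⟩, ⟨1, -2⟩, ⟨-1, 0⟩, ⟨-1, 0⟩⟩, ⟨⟨0, 0⟩, ⟨0, 0⟩, ⟨-2, 0⟩, ⟨0, 0⟩⟩),
  (⟨⟨-1, 0⟩, ⟨-1, 2⟩, ⟨1, 0⟩, ⟨-1, 0⟩⟩, ⟨⟨2, 0⟩, ⟨0, 0⟩, ⟨0, 0⟩, ⟨0, 0⟩⟩, ⟨⟨0, 0⟩, ⟨-2, 0⟩, ⟨0, 0⟩, ⟨0, 0⟩⟩),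
  (⟨⟨-1, 0⟩, ⟨-1, 2⟩, ⟨1, 0⟩, ⟨-1, 0⟩⟩, ⟨⟨2, 0⟩, ⟨0, 0⟩, ⟨0, 0⟩, ⟨0, 0⟩⟩, ⟨⟨0, 0⟩, ⟨2, 0⟩, ⟨0, 0⟩, ⟨0, 0⟩⟩),
  (⟨⟨-1, 0⟩, ⟨-1, 2⟩, ⟨-1, 0⟩, ⟨1, 0⟩⟩, ⟨⟨2, 0⟩, ⟨0, 0⟩, ⟨0, 0⟩, ⟨0, 0⟩⟩, ⟨⟨-2, 0⟩, ⟨0, 0⟩, ⟨0, 0⟩, ⟨0, 0⟩⟩),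
  (⟨⟨-1, 0⟩, ⟨-1, 2⟩, ⟨-1, 0⟩, ⟨1, 0⟩⟩, ⟨⟨2, 0⟩, ⟨0, 0⟩, ⟨0, 0⟩, ⟨0, 0⟩⟩, ⟨⟨2, 0⟩, ⟨0, 0⟩, ⟨0, 0⟩, ⟨0, 0⟩⟩),
  (⟨⟨2, 0⟩, ⟨0, 0⟩, ⟨0, 0⟩, ⟨0, 0⟩⟩, ⟨⟨-1, 0⟩, ⟨1, -2⟩, ⟨1, 0⟩, ⟨1, 0⟩⟩, ⟨⟨0, 0⟩, ⟨0, 0⟩, ⟨0, 0⟩, ⟨-2, 0⟩⟩),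
  (⟨⟨2, 0⟩, ⟨0, 0⟩, ⟨0, 0⟩, ⟨0, 0⟩⟩, ⟨⟨-1, 0⟩, ⟨1, -2⟩, ⟨1, 0⟩, ⟨1, 0⟩⟩, ⟨⟨0, 0⟩, ⟨0, 0⟩, ⟨0, 0⟩, ⟨2, 0⟩⟩),
  (⟨⟨0, -1⟩, ⟨0, -1⟩, ⟨0, 1⟩, ⟨0, -1⟩⟩, ⟨⟨-1, 1⟩, ⟨1, -1⟩, ⟨1, -1⟩, ⟨-1, 1⟩⟩, ⟨⟨2, 0⟩, ⟨0, 0⟩, ⟨0, 0⟩, ⟨0, 0⟩⟩),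
  (⟨⟨0, 1⟩, ⟨0, 1⟩, ⟨0, -1⟩, ⟨0, 1⟩⟩, ⟨⟨1, -1⟩, ⟨-1, 1⟩, ⟨-1, 1⟩, ⟨1, -1⟩⟩, ⟨⟨2, 0⟩, ⟨0, 0⟩, ⟨0, 0⟩, ⟨0, 0⟩⟩),
  (⟨⟨2, 0⟩, ⟨0, 0⟩, ⟨0, 0⟩, ⟨0, 0⟩⟩, ⟨⟨-1, 0⟩, ⟨1, 0⟩, ⟨-1, 0⟩, ⟨-1, 2⟩⟩, ⟨⟨0, 0⟩, ⟨0, 0⟩, ⟨0, 0⟩, ⟨2, 0⟩⟩),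
  (⟨⟨2, 0⟩, ⟨0, 0⟩, ⟨0, 0⟩, ⟨0, 0⟩⟩, ⟨⟨-1, 0⟩, ⟨1, 0⟩, ⟨-1, 0⟩, ⟨-1, 2⟩⟩, ⟨⟨0, 0⟩, ⟨0, 0⟩, ⟨0, 0⟩, ⟨-2, 0⟩⟩),
  (⟨⟨-1, 0⟩, ⟨-1, 0⟩, ⟨1, 0⟩, ⟨-1, 2⟩⟩, ⟨⟨2, 0⟩, ⟨0, 0⟩, ⟨0, 0⟩, ⟨0, 0⟩⟩, ⟨⟨-2, 0⟩, ⟨0, 0⟩, ⟨0, 0⟩, ⟨0, 0⟩⟩),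
  (⟨⟨-1, 0⟩, ⟨-1, 0⟩, ⟨1, 0⟩, ⟨-1, 2⟩⟩, ⟨⟨2, 0⟩, ⟨0, 0⟩, ⟨0, 0⟩, ⟨0, 0⟩⟩, ⟨⟨2, 0⟩, ⟨0, 0⟩, ⟨0, 0⟩, ⟨0, 0⟩⟩),
  (⟨⟨-1, 1⟩, ⟨-1, 1⟩, ⟨1, -1⟩, ⟨1, -1⟩⟩, ⟨⟨0, -1⟩, ⟨0, -1⟩, ⟨0, -1⟩, ⟨0, 1⟩⟩, ⟨⟨2, 0⟩, ⟨0, 0⟩, ⟨0, 0⟩, ⟨0, 0⟩⟩),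
  (⟨⟨1, -1⟩, ⟨1, -1⟩, ⟨-1, 1⟩, ⟨-1, 1⟩⟩, ⟨⟨0, 1⟩, ⟨0, 1⟩, ⟨0, 1⟩, ⟨0, -1⟩⟩, ⟨⟨2, 0⟩, ⟨0, 0⟩, ⟨0, 0⟩, ⟨0, 0⟩⟩),
  (⟨⟨2, 0⟩, ⟨0, 0⟩, ⟨0, 0⟩, ⟨0, 0⟩⟩, ⟨⟨-1, 0⟩, ⟨1, 0⟩, ⟨-1, 2⟩, ⟨-1, 0⟩⟩, ⟨⟨2, 0⟩, ⟨0, 0⟩, ⟨0, 0⟩, ⟨0, 0⟩⟩),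
  (⟨⟨2, 0⟩, ⟨0, 0⟩, ⟨0, 0⟩, ⟨0, 0⟩⟩, ⟨⟨-1, 0⟩, ⟨1, 0⟩, ⟨-1, 2⟩, ⟨-1, 0⟩⟩, ⟨⟨-2, 0⟩, ⟨0, 0⟩, ⟨0, 0⟩, ⟨0, 0⟩⟩),
  (⟨⟨-1, 0⟩, ⟨-1, 0⟩, ⟨1, -2⟩, ⟨-1, 0⟩⟩, ⟨⟨2, 0⟩, ⟨0, 0⟩, ⟨0, 0⟩, ⟨0, 0⟩⟩, ⟨⟨0, 0⟩, ⟨0, 0⟩, ⟨0, 0⟩, ⟨-2, 0⟩⟩),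
  (⟨⟨-1, 0⟩, ⟨-1, 0⟩, ⟨1, -2⟩, ⟨-1, 0⟩⟩, ⟨⟨2, 0⟩, ⟨0, 0⟩, ⟨0, 0⟩, ⟨0, 0⟩⟩, ⟨⟨0, 0⟩, ⟨0, 0⟩, ⟨0, 0⟩, ⟨2, 0⟩⟩),
  (⟨⟨-1, 0⟩, ⟨-1, 0⟩, ⟨-1, 2⟩, ⟨1, 0⟩⟩, ⟨⟨2, 0⟩, ⟨0, 0⟩, ⟨0, 0⟩, ⟨0, 0⟩⟩, ⟨⟨0, 0⟩, ⟨0, 0⟩, ⟨-2, 0⟩, ⟨0, 0⟩⟩),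
  (⟨⟨-1, 0⟩, ⟨-1, 0⟩, ⟨-1, 2⟩, ⟨1, 0⟩⟩, ⟨⟨2, 0⟩, ⟨0, 0⟩, ⟨0, 0⟩, ⟨0, 0⟩⟩, ⟨⟨0, 0⟩, ⟨0, 0⟩, ⟨2, 0⟩, ⟨0, 0⟩⟩),
  (⟨⟨2, 0⟩, ⟨0, 0⟩, ⟨0, 0⟩, ⟨0, 0⟩⟩, ⟨⟨-1, 0⟩, ⟨1, 0⟩, ⟨1, -2⟩, ⟨1, 0⟩⟩, ⟨⟨0, 0⟩, ⟨-2, 0⟩, ⟨0, 0⟩, ⟨0, 0⟩⟩),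
  (⟨⟨2, 0⟩, ⟨0, 0⟩, ⟨0, 0⟩, ⟨0, 0⟩⟩, ⟨⟨-1, 0⟩, ⟨1, 0⟩, ⟨1, -2⟩, ⟨1, 0⟩⟩, ⟨⟨0, 0⟩, ⟨2, 0⟩, ⟨0, 0⟩, ⟨0, 0⟩⟩),
  (⟨⟨-1, 1⟩, ⟨1, -1⟩, ⟨-1, 1⟩, ⟨1, -1⟩⟩, ⟨⟨0, -1⟩, ⟨0, 1⟩, ⟨0, -1⟩, ⟨0, -1⟩⟩, ⟨⟨2, 0⟩, ⟨0, 0⟩, ⟨0, 0⟩, ⟨0, 0⟩⟩),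
  (⟨⟨1, -1⟩, ⟨-1, 1⟩, ⟨1, -1⟩, ⟨-1, 1⟩⟩, ⟨⟨0, 1⟩, ⟨0, -1⟩, ⟨0, 1⟩, ⟨0, 1⟩⟩, ⟨⟨2, 0⟩, ⟨0, 0⟩, ⟨0, 0⟩, ⟨0, 0⟩⟩),
  (⟨⟨-1, 0⟩, ⟨-1, 0⟩, ⟨-1, 0⟩, ⟨1, -2⟩⟩, ⟨⟨2, 0⟩, ⟨0, 0⟩, ⟨0, 0⟩, ⟨0, 0⟩⟩, ⟨⟨0, 0⟩, ⟨-2, 0⟩, ⟨0, 0⟩, ⟨0, 0⟩⟩),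
  (⟨⟨-1, 0⟩, ⟨-1, 0⟩, ⟨-1, 0⟩, ⟨1, -2⟩⟩, ⟨⟨2, 0⟩, ⟨0, 0⟩, ⟨0, 0⟩, ⟨0, 0⟩⟩, ⟨⟨0, 0⟩, ⟨2, 0⟩, ⟨0, 0⟩, ⟨0, 0⟩⟩),
  (⟨⟨2, 0⟩, ⟨0, 0⟩, ⟨0, 0⟩, ⟨0, 0⟩⟩, ⟨⟨-1, 0⟩, ⟨1, 0⟩, ⟨1, 0⟩, ⟨1, -2⟩⟩, ⟨⟨0, 0⟩, ⟨0, 0⟩, ⟨-2, 0⟩, ⟨0, 0⟩⟩),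
  (⟨⟨2, 0⟩, ⟨0, 0⟩, ⟨0, 0⟩, ⟨0, 0⟩⟩, ⟨⟨-1, 0⟩, ⟨1, 0⟩, ⟨1, 0⟩, ⟨1, -2⟩⟩, ⟨⟨0, 0⟩, ⟨0, 0⟩, ⟨2, 0⟩, ⟨0, 0⟩⟩),
  (⟨⟨0, 1⟩, ⟨0, -1⟩, ⟨0, -1⟩, ⟨0, -1⟩⟩, ⟨⟨-1, 1⟩, ⟨-1, 1⟩, ⟨-1, 1⟩, ⟨-1, 1⟩⟩, ⟨⟨2, 0⟩, ⟨0, 0⟩, ⟨0, 0⟩, ⟨0, 0⟩⟩),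
  (⟨⟨0, -1⟩, ⟨0, 1⟩, ⟨0, 1⟩, ⟨0, 1⟩⟩, ⟨⟨1, -1⟩, ⟨1, -1⟩, ⟨1, -1⟩, ⟨1, -1⟩⟩, ⟨⟨2, 0⟩, ⟨0, 0⟩, ⟨0, 0⟩, ⟨0, 0⟩⟩),
  (⟨⟨2, 0⟩, ⟨0, 0⟩, ⟨0, 0⟩, ⟨0, 0⟩⟩, ⟨⟨-1, 1⟩, ⟨-1, 1⟩, ⟨-1, 1⟩, ⟨-1, 1⟩⟩, ⟨⟨0, 1⟩, ⟨0, -1⟩, ⟨0, -1⟩, ⟨0, -1⟩⟩),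
  (⟨⟨2, 0⟩, ⟨0, 0⟩, ⟨0, 0⟩, ⟨0, 0⟩⟩, ⟨⟨-1, 1⟩, ⟨-1, 1⟩, ⟨-1, 1⟩, ⟨-1, 1⟩⟩, ⟨⟨0, -1⟩, ⟨0, 1⟩, ⟨0, 1⟩, ⟨0, 1⟩⟩),
  (⟨⟨-1, 1⟩, ⟨1, -1⟩, ⟨1, -1⟩, ⟨-1, 1⟩⟩, ⟨⟨2, 0⟩, ⟨0, 0⟩, ⟨0, 0⟩, ⟨0, 0⟩⟩, ⟨⟨0, -1⟩, ⟨0, -1⟩, ⟨0, 1⟩, ⟨0, -1⟩⟩),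
  (⟨⟨-1, 1⟩, ⟨1, -1⟩, ⟨1, -1⟩, ⟨-1, 1⟩⟩, ⟨⟨2, 0⟩, ⟨0, 0⟩, ⟨0, 0⟩, ⟨0, 0⟩⟩, ⟨⟨0, 1⟩, ⟨0, 1⟩, ⟨0, -1⟩, ⟨0, 1⟩⟩),
  (⟨⟨-1, 1⟩, ⟨1, -1⟩, ⟨-1, 1⟩, ⟨1, -1⟩⟩, ⟨⟨2, 0⟩, ⟨0, 0⟩, ⟨0, 0⟩, ⟨0, 0⟩⟩, ⟨⟨0, -1⟩, ⟨0, 1⟩, ⟨0, -1⟩, ⟨0, -1⟩⟩),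
  (⟨⟨-1, 1⟩, ⟨1, -1⟩, ⟨-1, 1⟩, ⟨1, -1⟩⟩, ⟨⟨2, 0⟩, ⟨0, 0⟩, ⟨0, 0⟩, ⟨0, 0⟩⟩, ⟨⟨0, 1⟩, ⟨0, -1⟩, ⟨0, 1⟩, ⟨0, 1⟩⟩),
  (⟨⟨2, 0⟩, ⟨0, 0⟩, ⟨0, 0⟩, ⟨0, 0⟩⟩, ⟨⟨-1, 1⟩, ⟨-1, 1⟩, ⟨1, -1⟩, ⟨1, -1⟩⟩, ⟨⟨0, -1⟩, ⟨0, -1⟩, ⟨0, -1⟩, ⟨0, 1⟩⟩),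
  (⟨⟨2, 0⟩, ⟨0, 0⟩, ⟨0, 0⟩, ⟨0, 0⟩⟩, ⟨⟨-1, 1⟩, ⟨-1, 1⟩, ⟨1, -1⟩, ⟨1, -1⟩⟩, ⟨⟨0, 1⟩, ⟨0, 1⟩, ⟨0, 1⟩, ⟨0, -1⟩⟩),
  (⟨⟨-1, 1⟩, ⟨-1, 1⟩, ⟨1, -1⟩, ⟨1, -1⟩⟩, ⟨⟨2, 0⟩, ⟨0, 0⟩, ⟨0, 0⟩, ⟨0, 0⟩⟩, ⟨⟨0, -1⟩, ⟨0, -1⟩, ⟨0, -1⟩, ⟨0, 1⟩⟩),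
  (⟨⟨-1, 1⟩, ⟨-1, 1⟩, ⟨1, -1⟩, ⟨1, -1⟩⟩, ⟨⟨2, 0⟩, ⟨0, 0⟩, ⟨0, 0⟩, ⟨0, 0⟩⟩, ⟨⟨0, 1⟩, ⟨0, 1⟩, ⟨0, 1⟩, ⟨0, -1⟩⟩),
  (⟨⟨2, 0⟩, ⟨0, 0⟩, ⟨0, 0⟩, ⟨0, 0⟩⟩, ⟨⟨-1, 1⟩, ⟨1, -1⟩, ⟨-1, 1⟩, ⟨1, -1⟩⟩, ⟨⟨0, -1⟩, ⟨0, 1⟩, ⟨0, -1⟩, ⟨0, -1⟩⟩),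
  (⟨⟨2, 0⟩, ⟨0, 0⟩, ⟨0, 0⟩, ⟨0, 0⟩⟩, ⟨⟨-1, 1⟩, ⟨1, -1⟩, ⟨-1, 1⟩, ⟨1, -1⟩⟩, ⟨⟨0, 1⟩, ⟨0, -1⟩, ⟨0, 1⟩, ⟨0, 1⟩⟩),
  (⟨⟨2, 0⟩, ⟨0, 0⟩, ⟨0, 0⟩, ⟨0, 0⟩⟩, ⟨⟨-1, 1⟩, ⟨1, -1⟩, ⟨1, -1⟩, ⟨-1, 1⟩⟩, ⟨⟨0, -1⟩, ⟨0, -1⟩, ⟨0, 1⟩, ⟨0, -1⟩⟩),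
  (⟨⟨2, 0⟩, ⟨0, 0⟩, ⟨0, 0⟩, ⟨0, 0⟩⟩, ⟨⟨-1, 1⟩, ⟨1, -1⟩, ⟨1, -1⟩, ⟨-1, 1⟩⟩, ⟨⟨0, 1⟩, ⟨0, 1⟩, ⟨0, -1⟩, ⟨0, 1⟩⟩),
  (⟨⟨-1, 1⟩, ⟨-1, 1⟩, ⟨-1, 1⟩, ⟨-1, 1⟩⟩, ⟨⟨2, 0⟩, ⟨0, 0⟩, ⟨0, 0⟩, ⟨0, 0⟩⟩, ⟨⟨0, -1⟩, ⟨0, 1⟩, ⟨0, 1⟩, ⟨0, 1⟩⟩),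
  (⟨⟨-1, 1⟩, ⟨-1, 1⟩, ⟨-1, 1⟩, ⟨-1, 1⟩⟩, ⟨⟨2, 0⟩, ⟨0, 0⟩, ⟨0, 0⟩, ⟨0, 0⟩⟩, ⟨⟨0, 1⟩, ⟨0, -1⟩, ⟨0, -1⟩, ⟨0, -1⟩⟩),
  (⟨⟨-1, 2⟩, ⟨1, 0⟩, ⟨1, 0⟩, ⟨1, 0⟩⟩, ⟨⟨2, 0⟩, ⟨0, 0⟩, ⟨0, 0⟩, ⟨0, 0⟩⟩, ⟨⟨-2, 0⟩, ⟨0, 0⟩, ⟨0, 0⟩, ⟨0, 0⟩⟩),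
  (⟨⟨-1, 2⟩, ⟨1, 0⟩, ⟨1, 0⟩, ⟨1, 0⟩⟩, ⟨⟨2, 0⟩, ⟨0, 0⟩, ⟨0, 0⟩, ⟨0, 0⟩⟩, ⟨⟨2, 0⟩, ⟨0, 0⟩, ⟨0, 0⟩, ⟨0, 0⟩⟩),
  (⟨⟨2, 0⟩, ⟨0, 0⟩, ⟨0, 0⟩, ⟨0, 0⟩⟩, ⟨⟨-1, 2⟩, ⟨-1, 0⟩, ⟨-1, 0⟩, ⟨1, 0⟩⟩, ⟨⟨0, 0⟩, ⟨0, 0⟩, ⟨0, 0⟩, ⟨-2, 0⟩⟩),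
  (⟨⟨2, 0⟩, ⟨0, 0⟩, ⟨0, 0⟩, ⟨0, 0⟩⟩, ⟨⟨-1, 2⟩, ⟨-1, 0⟩, ⟨-1, 0⟩, ⟨1, 0⟩⟩, ⟨⟨0, 0⟩, ⟨0, 0⟩, ⟨0, 0⟩, ⟨2, 0⟩⟩),
  (⟨⟨2, 0⟩, ⟨0, 0⟩, ⟨0, 0⟩, ⟨0, 0⟩⟩, ⟨⟨-1, 2⟩, ⟨-1, 0⟩, ⟨1, 0⟩, ⟨-1, 0⟩⟩, ⟨⟨0, 0⟩, ⟨0, 0⟩, ⟨-2, 0⟩, ⟨0, 0⟩⟩),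
  (⟨⟨2, 0⟩, ⟨0, 0⟩, ⟨0, 0⟩, ⟨0, 0⟩⟩, ⟨⟨-1, 2⟩, ⟨-1, 0⟩, ⟨1, 0⟩, ⟨-1, 0⟩⟩, ⟨⟨0, 0⟩, ⟨0, 0⟩, ⟨2, 0⟩, ⟨0, 0⟩⟩),
  (⟨⟨-1, 2⟩, ⟨1, 0⟩, ⟨-1, 0⟩, ⟨-1, 0⟩⟩, ⟨⟨2, 0⟩, ⟨0, 0⟩, ⟨0, 0⟩, ⟨0, 0⟩⟩, ⟨⟨0, 0⟩, ⟨-2, 0⟩, ⟨0, 0⟩, ⟨0, 0⟩⟩),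
  (⟨⟨-1, 2⟩, ⟨1, 0⟩, ⟨-1, 0⟩, ⟨-1, 0⟩⟩, ⟨⟨2, 0⟩, ⟨0, 0⟩, ⟨0, 0⟩, ⟨0, 0⟩⟩, ⟨⟨0, 0⟩, ⟨2, 0⟩, ⟨0, 0⟩, ⟨0, 0⟩⟩),
  (⟨⟨2, 0⟩, ⟨0, 0⟩, ⟨0, 0⟩, ⟨0, 0⟩⟩, ⟨⟨-1, 2⟩, ⟨1, 0⟩, ⟨-1, 0⟩, ⟨-1, 0⟩⟩, ⟨⟨0, 0⟩, ⟨-2, 0⟩, ⟨0, 0⟩, ⟨0, 0⟩⟩),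
  (⟨⟨2, 0⟩, ⟨0, 0⟩, ⟨0, 0⟩, ⟨0, 0⟩⟩, ⟨⟨-1, 2⟩, ⟨1, 0⟩, ⟨-1, 0⟩, ⟨-1, 0⟩⟩, ⟨⟨0, 0⟩, ⟨2, 0⟩, ⟨0, 0⟩, ⟨0, 0⟩⟩),
  (⟨⟨-1, 2⟩, ⟨-1, 0⟩, ⟨1, 0⟩, ⟨-1, 0⟩⟩, ⟨⟨2, 0⟩, ⟨0, 0⟩, ⟨0, 0⟩, ⟨0, 0⟩⟩, ⟨⟨0, 0⟩, ⟨0, 0⟩, ⟨-2, 0⟩, ⟨0, 0⟩⟩),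
  (⟨⟨-1, 2⟩, ⟨-1, 0⟩, ⟨1, 0⟩, ⟨-1, 0⟩⟩, ⟨⟨2, 0⟩, ⟨0, 0⟩, ⟨0, 0⟩, ⟨0, 0⟩⟩, ⟨⟨0, 0⟩, ⟨0, 0⟩, ⟨2, 0⟩, ⟨0, 0⟩⟩),
  (⟨⟨-1, 2⟩, ⟨-1, 0⟩, ⟨-1, 0⟩, ⟨1, 0⟩⟩, ⟨⟨2, 0⟩, ⟨0, 0⟩, ⟨0, 0⟩, ⟨0, 0⟩⟩, ⟨⟨0, 0⟩, ⟨0, 0⟩, ⟨0, 0⟩, ⟨-2, 0⟩⟩),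
  (⟨⟨-1, 2⟩, ⟨-1, 0⟩, ⟨-1, 0⟩, ⟨1, 0⟩⟩, ⟨⟨2, 0⟩, ⟨0, 0⟩, ⟨0, 0⟩, ⟨0, 0⟩⟩, ⟨⟨0, 0⟩, ⟨0, 0⟩, ⟨0, 0⟩, ⟨2, 0⟩⟩),
  (⟨⟨2, 0⟩, ⟨0, 0⟩, ⟨0, 0⟩, ⟨0, 0⟩⟩, ⟨⟨-1, 2⟩, ⟨1, 0⟩, ⟨1, 0⟩, ⟨1, 0⟩⟩, ⟨⟨2, 0⟩, ⟨0, 0⟩, ⟨0, 0⟩, ⟨0, 0⟩⟩),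
  (⟨⟨2, 0⟩, ⟨0, 0⟩, ⟨0, 0⟩, ⟨0, 0⟩⟩, ⟨⟨-1, 2⟩, ⟨1, 0⟩, ⟨1, 0⟩, ⟨1, 0⟩⟩, ⟨⟨-2, 0⟩, ⟨0, 0⟩, ⟨0, 0⟩, ⟨0, 0⟩⟩),
  (⟨⟨0, -1⟩, ⟨0, 1⟩, ⟨0, 1⟩, ⟨0, 1⟩⟩, ⟨⟨2, 0⟩, ⟨0, 0⟩, ⟨0, 0⟩, ⟨0, 0⟩⟩, ⟨⟨-1, 1⟩, ⟨-1, 1⟩, ⟨-1, 1⟩, ⟨-1, 1⟩⟩),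
  (⟨⟨0, -1⟩, ⟨0, 1⟩, ⟨0, 1⟩, ⟨0, 1⟩⟩, ⟨⟨2, 0⟩, ⟨0, 0⟩, ⟨0, 0⟩, ⟨0, 0⟩⟩, ⟨⟨1, -1⟩, ⟨1, -1⟩, ⟨1, -1⟩, ⟨1, -1⟩⟩),
  (⟨⟨2, 0⟩, ⟨0, 0⟩, ⟨0, 0⟩, ⟨0, 0⟩⟩, ⟨⟨0, -1⟩, ⟨0, -1⟩, ⟨0, -1⟩, ⟨0, 1⟩⟩, ⟨⟨-1, 1⟩, ⟨-1, 1⟩, ⟨1, -1⟩, ⟨1, -1⟩⟩),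
  (⟨⟨2, 0⟩, ⟨0, 0⟩, ⟨0, 0⟩, ⟨0, 0⟩⟩, ⟨⟨0, -1⟩, ⟨0, -1⟩, ⟨0, -1⟩, ⟨0, 1⟩⟩, ⟨⟨1, -1⟩, ⟨1, -1⟩, ⟨-1, 1⟩, ⟨-1, 1⟩⟩),
  (⟨⟨2, 0⟩, ⟨0, 0⟩, ⟨0, 0⟩, ⟨0, 0⟩⟩, ⟨⟨0, -1⟩, ⟨0, -1⟩, ⟨0, 1⟩, ⟨0, -1⟩⟩, ⟨⟨-1, 1⟩, ⟨1, -1⟩, ⟨1, -1⟩, ⟨-1, 1⟩⟩),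
  (⟨⟨2, 0⟩, ⟨0, 0⟩, ⟨0, 0⟩, ⟨0, 0⟩⟩, ⟨⟨0, -1⟩, ⟨0, -1⟩, ⟨0, 1⟩, ⟨0, -1⟩⟩, ⟨⟨1, -1⟩, ⟨-1, 1⟩, ⟨-1, 1⟩, ⟨1, -1⟩⟩),
  (⟨⟨0, -1⟩, ⟨0, 1⟩, ⟨0, -1⟩, ⟨0, -1⟩⟩, ⟨⟨2, 0⟩, ⟨0, 0⟩, ⟨0, 0⟩, ⟨0, 0⟩⟩, ⟨⟨-1, 1⟩, ⟨1, -1⟩, ⟨-1, 1⟩, ⟨1, -1⟩⟩),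
  (⟨⟨0, -1⟩, ⟨0, 1⟩, ⟨0, -1⟩, ⟨0, -1⟩⟩, ⟨⟨2, 0⟩, ⟨0, 0⟩, ⟨0, 0⟩, ⟨0, 0⟩⟩, ⟨⟨1, -1⟩, ⟨-1, 1⟩, ⟨1, -1⟩, ⟨-1, 1⟩⟩),
  (⟨⟨2, 0⟩, ⟨0, 0⟩, ⟨0, 0⟩, ⟨0, 0⟩⟩, ⟨⟨0, -1⟩, ⟨0, 1⟩, ⟨0, -1⟩, ⟨0, -1⟩⟩, ⟨⟨-1, 1⟩, ⟨1, -1⟩, ⟨-1, 1⟩, ⟨1, -1⟩⟩),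
  (⟨⟨2, 0⟩, ⟨0, 0⟩, ⟨0, 0⟩, ⟨0, 0⟩⟩, ⟨⟨0, -1⟩, ⟨0, 1⟩, ⟨0, -1⟩, ⟨0, -1⟩⟩, ⟨⟨1, -1⟩, ⟨-1, 1⟩, ⟨1, -1⟩, ⟨-1, 1⟩⟩),
  (⟨⟨0, -1⟩, ⟨0, -1⟩, ⟨0, 1⟩, ⟨0, -1⟩⟩, ⟨⟨2, 0⟩, ⟨0, 0⟩, ⟨0, 0⟩, ⟨0, 0⟩⟩, ⟨⟨-1, 1⟩, ⟨1, -1⟩, ⟨1, -1⟩, ⟨-1, 1⟩⟩),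
  (⟨⟨0, -1⟩, ⟨0, -1⟩, ⟨0, 1⟩, ⟨0, -1⟩⟩, ⟨⟨2, 0⟩, ⟨0, 0⟩, ⟨0, 0⟩, ⟨0, 0⟩⟩, ⟨⟨1, -1⟩, ⟨-1, 1⟩, ⟨-1, 1⟩, ⟨1, -1⟩⟩),
  (⟨⟨0, -1⟩, ⟨0, -1⟩, ⟨0, -1⟩, ⟨0, 1⟩⟩, ⟨⟨2, 0⟩, ⟨0, 0⟩, ⟨0, 0⟩, ⟨0, 0⟩⟩, ⟨⟨-1, 1⟩, ⟨-1, 1⟩, ⟨1, -1⟩, ⟨1, -1⟩⟩),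
  (⟨⟨0, -1⟩, ⟨0, -1⟩, ⟨0, -1⟩, ⟨0, 1⟩⟩, ⟨⟨2, 0⟩, ⟨0, 0⟩, ⟨0, 0⟩, ⟨0, 0⟩⟩, ⟨⟨1, -1⟩, ⟨1, -1⟩, ⟨-1, 1⟩, ⟨-1, 1⟩⟩),
  (⟨⟨2, 0⟩, ⟨0, 0⟩, ⟨0, 0⟩, ⟨0, 0⟩⟩, ⟨⟨0, -1⟩, ⟨0, 1⟩, ⟨0, 1⟩, ⟨0, 1⟩⟩, ⟨⟨1, -1⟩, ⟨1, -1⟩, ⟨1, -1⟩, ⟨1, -1⟩⟩),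
  (⟨⟨2, 0⟩, ⟨0, 0⟩, ⟨0, 0⟩, ⟨0, 0⟩⟩, ⟨⟨0, -1⟩, ⟨0, 1⟩, ⟨0, 1⟩, ⟨0, 1⟩⟩, ⟨⟨-1, 1⟩, ⟨-1, 1⟩, ⟨-1, 1⟩, ⟨-1, 1⟩⟩),
  (⟨⟨1, -2⟩, ⟨1, 0⟩, ⟨1, 0⟩, ⟨1, 0⟩⟩, ⟨⟨1, 0⟩, ⟨-1, 2⟩, ⟨-1, 0⟩, ⟨1, 0⟩⟩, ⟨⟨0, 0⟩, ⟨0, 0⟩, ⟨0, 0⟩, ⟨0, 0⟩⟩),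
  (⟨⟨2, 0⟩, ⟨0, 0⟩, ⟨0, 0⟩, ⟨0, 0⟩⟩, ⟨⟨0, 0⟩, ⟨-2, 0⟩, ⟨0, 0⟩, ⟨0, 0⟩⟩, ⟨⟨-1, 0⟩, ⟨1, 0⟩, ⟨1, -2⟩, ⟨1, 0⟩⟩),
  (⟨⟨2, 0⟩, ⟨0, 0⟩, ⟨0, 0⟩, ⟨0, 0⟩⟩, ⟨⟨0, 0⟩, ⟨-2, 0⟩, ⟨0, 0⟩, ⟨0, 0⟩⟩, ⟨⟨-1, 2⟩, ⟨1, 0⟩, ⟨-1, 0⟩, ⟨-1, 0⟩⟩),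
  (⟨⟨2, 0⟩, ⟨0, 0⟩, ⟨0, 0⟩, ⟨0, 0⟩⟩, ⟨⟨0, 0⟩, ⟨-2, 0⟩, ⟨0, 0⟩, ⟨0, 0⟩⟩, ⟨⟨1, 0⟩, ⟨1, 0⟩, ⟨1, 0⟩, ⟨-1, 2⟩⟩),
  (⟨⟨2, 0⟩, ⟨0, 0⟩, ⟨0, 0⟩, ⟨0, 0⟩⟩, ⟨⟨0, 0⟩, ⟨-2, 0⟩, ⟨0, 0⟩, ⟨0, 0⟩⟩, ⟨⟨1, 0⟩, ⟨1, -2⟩, ⟨-1, 0⟩, ⟨1, 0⟩⟩),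
  (⟨⟨2, 0⟩, ⟨0, 0⟩, ⟨0, 0⟩, ⟨0, 0⟩⟩, ⟨⟨0, 0⟩, ⟨-2, 0⟩, ⟨0, 0⟩, ⟨0, 0⟩⟩, ⟨⟨-1, 0⟩, ⟨-1, 2⟩, ⟨1, 0⟩, ⟨-1, 0⟩⟩),
  (⟨⟨2, 0⟩, ⟨0, 0⟩, ⟨0, 0⟩, ⟨0, 0⟩⟩, ⟨⟨0, 0⟩, ⟨-2, 0⟩, ⟨0, 0⟩, ⟨0, 0⟩⟩, ⟨⟨-1, 0⟩, ⟨-1, 0⟩, ⟨-1, 0⟩, ⟨1, -2⟩⟩),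
  (⟨⟨2, 0⟩, ⟨0, 0⟩, ⟨0, 0⟩, ⟨0, 0⟩⟩, ⟨⟨0, 0⟩, ⟨-2, 0⟩, ⟨0, 0⟩, ⟨0, 0⟩⟩, ⟨⟨1, -2⟩, ⟨-1, 0⟩, ⟨1, 0⟩, ⟨1, 0⟩⟩),
  (⟨⟨2, 0⟩, ⟨0, 0⟩, ⟨0, 0⟩, ⟨0, 0⟩⟩, ⟨⟨0, 0⟩, ⟨-2, 0⟩, ⟨0, 0⟩, ⟨0, 0⟩⟩, ⟨⟨1, 0⟩, ⟨-1, 0⟩, ⟨-1, 2⟩, ⟨-1, 0⟩⟩),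
  (⟨⟨1, -2⟩, ⟨1, 0⟩, ⟨1, 0⟩, ⟨1, 0⟩⟩, ⟨⟨1, 0⟩, ⟨1, 0⟩, ⟨-1, 2⟩, ⟨-1, 0⟩⟩, ⟨⟨0, 0⟩, ⟨0, 0⟩, ⟨0, 0⟩, ⟨0, 0⟩⟩),
  (⟨⟨2, 0⟩, ⟨0, 0⟩, ⟨0, 0⟩, ⟨0, 0⟩⟩, ⟨⟨0, 0⟩, ⟨0, 0⟩, ⟨-2, 0⟩, ⟨0, 0⟩⟩, ⟨⟨-1, 2⟩, ⟨-1, 0⟩, ⟨1, 0⟩, ⟨-1, 0⟩⟩),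
  (⟨⟨2, 0⟩, ⟨0, 0⟩, ⟨0, 0⟩, ⟨0, 0⟩⟩, ⟨⟨0, 0⟩, ⟨0, 0⟩, ⟨-2, 0⟩, ⟨0, 0⟩⟩, ⟨⟨-1, 0⟩, ⟨1, 0⟩, ⟨1, 0⟩, ⟨1, -2⟩⟩),
  (⟨⟨2, 0⟩, ⟨0, 0⟩, ⟨0, 0⟩, ⟨0, 0⟩⟩, ⟨⟨0, 0⟩, ⟨0, 0⟩, ⟨-2, 0⟩, ⟨0, 0⟩⟩, ⟨⟨1, 0⟩, ⟨-1, 2⟩, ⟨1, 0⟩, ⟨1, 0⟩⟩),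
  (⟨⟨2, 0⟩, ⟨0, 0⟩, ⟨0, 0⟩, ⟨0, 0⟩⟩, ⟨⟨0, 0⟩, ⟨0, 0⟩, ⟨-2, 0⟩, ⟨0, 0⟩⟩, ⟨⟨1, 0⟩, ⟨1, 0⟩, ⟨1, -2⟩, ⟨-1, 0⟩⟩),
  (⟨⟨2, 0⟩, ⟨0, 0⟩, ⟨0, 0⟩, ⟨0, 0⟩⟩, ⟨⟨0, 0⟩, ⟨0, 0⟩, ⟨-2, 0⟩, ⟨0, 0⟩⟩, ⟨⟨-1, 0⟩, ⟨-1, 0⟩, ⟨-1, 2⟩, ⟨1, 0⟩⟩),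
  (⟨⟨2, 0⟩, ⟨0, 0⟩, ⟨0, 0⟩, ⟨0, 0⟩⟩, ⟨⟨0, 0⟩, ⟨0, 0⟩, ⟨-2, 0⟩, ⟨0, 0⟩⟩, ⟨⟨-1, 0⟩, ⟨1, -2⟩, ⟨-1, 0⟩, ⟨-1, 0⟩⟩),
  (⟨⟨2, 0⟩, ⟨0, 0⟩, ⟨0, 0⟩, ⟨0, 0⟩⟩, ⟨⟨0, 0⟩, ⟨0, 0⟩, ⟨-2, 0⟩, ⟨0, 0⟩⟩, ⟨⟨1, 0⟩, ⟨-1, 0⟩, ⟨-1, 0⟩, ⟨-1, 2⟩⟩),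
  (⟨⟨2, 0⟩, ⟨0, 0⟩, ⟨0, 0⟩, ⟨0, 0⟩⟩, ⟨⟨0, 0⟩, ⟨0, 0⟩, ⟨-2, 0⟩, ⟨0, 0⟩⟩, ⟨⟨1, -2⟩, ⟨1, 0⟩, ⟨-1, 0⟩, ⟨1, 0⟩⟩),
  (⟨⟨1, -2⟩, ⟨1, 0⟩, ⟨1, 0⟩, ⟨1, 0⟩⟩, ⟨⟨1, 0⟩, ⟨-1, 0⟩, ⟨1, 0⟩, ⟨-1, 2⟩⟩, ⟨⟨0, 0⟩, ⟨0, 0⟩, ⟨0, 0⟩, ⟨0, 0⟩⟩),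
  (⟨⟨2, 0⟩, ⟨0, 0⟩, ⟨0, 0⟩, ⟨0, 0⟩⟩, ⟨⟨0, 0⟩, ⟨0, 0⟩, ⟨0, 0⟩, ⟨-2, 0⟩⟩, ⟨⟨-1, 0⟩, ⟨1, -2⟩, ⟨1, 0⟩, ⟨1, 0⟩⟩),
  (⟨⟨2, 0⟩, ⟨0, 0⟩, ⟨0, 0⟩, ⟨0, 0⟩⟩, ⟨⟨0, 0⟩, ⟨0, 0⟩, ⟨0, 0⟩, ⟨-2, 0⟩⟩, ⟨⟨1, 0⟩, ⟨1, 0⟩, ⟨-1, 2⟩, ⟨1, 0⟩⟩),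
  (⟨⟨2, 0⟩, ⟨0, 0⟩, ⟨0, 0⟩, ⟨0, 0⟩⟩, ⟨⟨0, 0⟩, ⟨0, 0⟩, ⟨0, 0⟩, ⟨-2, 0⟩⟩, ⟨⟨-1, 2⟩, ⟨-1, 0⟩, ⟨-1, 0⟩, ⟨1, 0⟩⟩),
  (⟨⟨2, 0⟩, ⟨0, 0⟩, ⟨0, 0⟩, ⟨0, 0⟩⟩, ⟨⟨0, 0⟩, ⟨0, 0⟩, ⟨0, 0⟩, ⟨-2, 0⟩⟩, ⟨⟨1, 0⟩, ⟨-1, 0⟩, ⟨1, 0⟩, ⟨1, -2⟩⟩),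
  (⟨⟨2, 0⟩, ⟨0, 0⟩, ⟨0, 0⟩, ⟨0, 0⟩⟩, ⟨⟨0, 0⟩, ⟨0, 0⟩, ⟨0, 0⟩, ⟨-2, 0⟩⟩, ⟨⟨-1, 0⟩, ⟨1, 0⟩, ⟨-1, 0⟩, ⟨-1, 2⟩⟩),
  (⟨⟨2, 0⟩, ⟨0, 0⟩, ⟨0, 0⟩, ⟨0, 0⟩⟩, ⟨⟨0, 0⟩, ⟨0, 0⟩, ⟨0, 0⟩, ⟨-2, 0⟩⟩, ⟨⟨1, -2⟩, ⟨1, 0⟩, ⟨1, 0⟩, ⟨-1, 0⟩⟩),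
  (⟨⟨2, 0⟩, ⟨0, 0⟩, ⟨0, 0⟩, ⟨0, 0⟩⟩, ⟨⟨0, 0⟩, ⟨0, 0⟩, ⟨0, 0⟩, ⟨-2, 0⟩⟩, ⟨⟨-1, 0⟩, ⟨-1, 0⟩, ⟨1, -2⟩, ⟨-1, 0⟩⟩),
  (⟨⟨2, 0⟩, ⟨0, 0⟩, ⟨0, 0⟩, ⟨0, 0⟩⟩, ⟨⟨0, 0⟩, ⟨0, 0⟩, ⟨0, 0⟩, ⟨-2, 0⟩⟩, ⟨⟨1, 0⟩, ⟨-1, 2⟩, ⟨-1, 0⟩, ⟨-1, 0⟩⟩),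
  (⟨⟨0, 0⟩, ⟨0, 0⟩, ⟨0, 0⟩, ⟨0, 0⟩⟩, ⟨⟨1, -2⟩, ⟨1, 0⟩, ⟨1, 0⟩, ⟨1, 0⟩⟩, ⟨⟨-1, 2⟩, ⟨-1, 0⟩, ⟨-1, 0⟩, ⟨-1, 0⟩⟩),
  (⟨⟨0, 0⟩, ⟨0, 0⟩, ⟨0, 0⟩, ⟨0, 0⟩⟩, ⟨⟨1, -2⟩, ⟨1, 0⟩, ⟨1, 0⟩, ⟨1, 0⟩⟩, ⟨⟨1, 0⟩, ⟨-1, 2⟩, ⟨-1, 0⟩, ⟨1, 0⟩⟩),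
  (⟨⟨0, 0⟩, ⟨0, 0⟩, ⟨0, 0⟩, ⟨0, 0⟩⟩, ⟨⟨1, -2⟩, ⟨1, 0⟩, ⟨1, 0⟩, ⟨1, 0⟩⟩, ⟨⟨1, 0⟩, ⟨1, 0⟩, ⟨-1, 2⟩, ⟨-1, 0⟩⟩),
  (⟨⟨0, 0⟩, ⟨0, 0⟩, ⟨0, 0⟩, ⟨0, 0⟩⟩, ⟨⟨1, -2⟩, ⟨1, 0⟩, ⟨1, 0⟩, ⟨1, 0⟩⟩, ⟨⟨1, 0⟩, ⟨-1, 0⟩, ⟨1, 0⟩, ⟨-1, 2⟩⟩),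
  (⟨⟨1, -2⟩, ⟨1, 0⟩, ⟨1, 0⟩, ⟨1, 0⟩⟩, ⟨⟨0, 0⟩, ⟨0, 0⟩, ⟨0, 0⟩, ⟨0, 0⟩⟩, ⟨⟨-1, 2⟩, ⟨-1, 0⟩, ⟨-1, 0⟩, ⟨-1, 0⟩⟩),
  (⟨⟨1, -2⟩, ⟨1, 0⟩, ⟨1, 0⟩, ⟨1, 0⟩⟩, ⟨⟨0, 0⟩, ⟨0, 0⟩, ⟨0, 0⟩, ⟨0, 0⟩⟩, ⟨⟨1, 0⟩, ⟨-1, 2⟩, ⟨-1, 0⟩, ⟨1, 0⟩⟩),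
  (⟨⟨1, -2⟩, ⟨1, 0⟩, ⟨1, 0⟩, ⟨1, 0⟩⟩, ⟨⟨0, 0⟩, ⟨0, 0⟩, ⟨0, 0⟩, ⟨0, 0⟩⟩, ⟨⟨1, 0⟩, ⟨1, 0⟩, ⟨-1, 2⟩, ⟨-1, 0⟩⟩),
  (⟨⟨1, -2⟩, ⟨1, 0⟩, ⟨1, 0⟩, ⟨1, 0⟩⟩, ⟨⟨0, 0⟩, ⟨0, 0⟩, ⟨0, 0⟩, ⟨0, 0⟩⟩, ⟨⟨1, 0⟩, ⟨-1, 0⟩, ⟨1, 0⟩, ⟨-1, 2⟩⟩),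
  (⟨⟨0, 0⟩, ⟨0, 0⟩, ⟨0, 0⟩, ⟨0, 0⟩⟩, ⟨⟨0, 0⟩, ⟨0, 0⟩, ⟨0, 0⟩, ⟨0, 0⟩⟩, ⟨⟨4, 0⟩, ⟨0, 0⟩, ⟨0, 0⟩, ⟨0, 0⟩⟩),
  (⟨⟨0, 0⟩, ⟨0, 0⟩, ⟨0, 0⟩, ⟨0, 0⟩⟩, ⟨⟨4, 0⟩, ⟨0, 0⟩, ⟨0, 0⟩, ⟨0, 0⟩⟩, ⟨⟨0, 0⟩, ⟨0, 0⟩, ⟨0, 0⟩, ⟨0, 0⟩⟩),
  (⟨⟨4, 0⟩, ⟨0, 0⟩, ⟨0, 0⟩, ⟨0, 0⟩⟩, ⟨⟨0, 0⟩, ⟨0, 0⟩, ⟨0, 0⟩, ⟨0, 0⟩⟩, ⟨⟨0, 0⟩, ⟨0, 0⟩, ⟨0, 0⟩, ⟨0, 0⟩⟩),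
  (⟨⟨1, -2⟩, ⟨1, 0⟩, ⟨1, 0⟩, ⟨1, 0⟩⟩, ⟨⟨0, 0⟩, ⟨0, 0⟩, ⟨0, 0⟩, ⟨0, 0⟩⟩, ⟨⟨-1, 0⟩, ⟨1, 0⟩, ⟨-1, 0⟩, ⟨1, -2⟩⟩),
  (⟨⟨1, -2⟩, ⟨1, 0⟩, ⟨1, 0⟩, ⟨1, 0⟩⟩, ⟨⟨0, 0⟩, ⟨0, 0⟩, ⟨0, 0⟩, ⟨0, 0⟩⟩, ⟨⟨-1, 0⟩, ⟨-1, 0⟩, ⟨1, -2⟩, ⟨1, 0⟩⟩),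
  (⟨⟨1, -2⟩, ⟨1, 0⟩, ⟨1, 0⟩, ⟨1, 0⟩⟩, ⟨⟨0, 0⟩, ⟨0, 0⟩, ⟨0, 0⟩, ⟨0, 0⟩⟩, ⟨⟨-1, 0⟩, ⟨1, -2⟩, ⟨1, 0⟩, ⟨-1, 0⟩⟩),
  (⟨⟨1, -2⟩, ⟨1, 0⟩, ⟨1, 0⟩, ⟨1, 0⟩⟩, ⟨⟨0, 0⟩, ⟨0, 0⟩, ⟨0, 0⟩, ⟨0, 0⟩⟩, ⟨⟨1, -2⟩, ⟨1, 0⟩, ⟨1, 0⟩, ⟨1, 0⟩⟩),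
  (⟨⟨0, 0⟩, ⟨0, 0⟩, ⟨0, 0⟩, ⟨0, 0⟩⟩, ⟨⟨1, -2⟩, ⟨1, 0⟩, ⟨1, 0⟩, ⟨1, 0⟩⟩, ⟨⟨-1, 0⟩, ⟨1, 0⟩, ⟨-1, 0⟩, ⟨1, -2⟩⟩),
  (⟨⟨0, 0⟩, ⟨0, 0⟩, ⟨0, 0⟩, ⟨0, 0⟩⟩, ⟨⟨1, -2⟩, ⟨1, 0⟩, ⟨1, 0⟩, ⟨1, 0⟩⟩, ⟨⟨-1, 0⟩, ⟨-1, 0⟩, ⟨1, -2⟩, ⟨1, 0⟩⟩),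
  (⟨⟨0, 0⟩, ⟨0, 0⟩, ⟨0, 0⟩, ⟨0, 0⟩⟩, ⟨⟨1, -2⟩, ⟨1, 0⟩, ⟨1, 0⟩, ⟨1, 0⟩⟩, ⟨⟨-1, 0⟩, ⟨1, -2⟩, ⟨1, 0⟩, ⟨-1, 0⟩⟩),
  (⟨⟨0, 0⟩, ⟨0, 0⟩, ⟨0, 0⟩, ⟨0, 0⟩⟩, ⟨⟨1, -2⟩, ⟨1, 0⟩, ⟨1, 0⟩, ⟨1, 0⟩⟩, ⟨⟨1, -2⟩, ⟨1, 0⟩, ⟨1, 0⟩, ⟨1, 0⟩⟩),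
  (⟨⟨2, 0⟩, ⟨0, 0⟩, ⟨0, 0⟩, ⟨0, 0⟩⟩, ⟨⟨0, 0⟩, ⟨0, 0⟩, ⟨0, 0⟩, ⟨2, 0⟩⟩, ⟨⟨1, 0⟩, ⟨-1, 2⟩, ⟨-1, 0⟩, ⟨-1, 0⟩⟩),
  (⟨⟨2, 0⟩, ⟨0, 0⟩, ⟨0, 0⟩, ⟨0, 0⟩⟩, ⟨⟨0, 0⟩, ⟨0, 0⟩, ⟨0, 0⟩, ⟨2, 0⟩⟩, ⟨⟨-1, 0⟩, ⟨-1, 0⟩, ⟨1, -2⟩, ⟨-1, 0⟩⟩),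
  (⟨⟨2, 0⟩, ⟨0, 0⟩, ⟨0, 0⟩, ⟨0, 0⟩⟩, ⟨⟨0, 0⟩, ⟨0, 0⟩, ⟨0, 0⟩, ⟨2, 0⟩⟩, ⟨⟨1, -2⟩, ⟨1, 0⟩, ⟨1, 0⟩, ⟨-1, 0⟩⟩),
  (⟨⟨2, 0⟩, ⟨0, 0⟩, ⟨0, 0⟩, ⟨0, 0⟩⟩, ⟨⟨0, 0⟩, ⟨0, 0⟩, ⟨0, 0⟩, ⟨2, 0⟩⟩, ⟨⟨-1, 0⟩, ⟨1, 0⟩, ⟨-1, 0⟩, ⟨-1, 2⟩⟩),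
  (⟨⟨2, 0⟩, ⟨0, 0⟩, ⟨0, 0⟩, ⟨0, 0⟩⟩, ⟨⟨0, 0⟩, ⟨0, 0⟩, ⟨0, 0⟩, ⟨2, 0⟩⟩, ⟨⟨1, 0⟩, ⟨-1, 0⟩, ⟨1, 0⟩, ⟨1, -2⟩⟩),
  (⟨⟨2, 0⟩, ⟨0, 0⟩, ⟨0, 0⟩, ⟨0, 0⟩⟩, ⟨⟨0, 0⟩, ⟨0, 0⟩, ⟨0, 0⟩, ⟨2, 0⟩⟩, ⟨⟨-1, 2⟩, ⟨-1, 0⟩, ⟨-1, 0⟩, ⟨1, 0⟩⟩),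
  (⟨⟨2, 0⟩, ⟨0, 0⟩, ⟨0, 0⟩, ⟨0, 0⟩⟩, ⟨⟨0, 0⟩, ⟨0, 0⟩, ⟨0, 0⟩, ⟨2, 0⟩⟩, ⟨⟨1, 0⟩, ⟨1, 0⟩, ⟨-1, 2⟩, ⟨1, 0⟩⟩),
  (⟨⟨2, 0⟩, ⟨0, 0⟩, ⟨0, 0⟩, ⟨0, 0⟩⟩, ⟨⟨0, 0⟩, ⟨0, 0⟩, ⟨0, 0⟩, ⟨2, 0⟩⟩, ⟨⟨-1, 0⟩, ⟨1, -2⟩, ⟨1, 0⟩, ⟨1, 0⟩⟩),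
  (⟨⟨1, -2⟩, ⟨1, 0⟩, ⟨1, 0⟩, ⟨1, 0⟩⟩, ⟨⟨-1, 0⟩, ⟨1, 0⟩, ⟨-1, 0⟩, ⟨1, -2⟩⟩, ⟨⟨0, 0⟩, ⟨0, 0⟩, ⟨0, 0⟩, ⟨0, 0⟩⟩),
  (⟨⟨2, 0⟩, ⟨0, 0⟩, ⟨0, 0⟩, ⟨0, 0⟩⟩, ⟨⟨0, 0⟩, ⟨0, 0⟩, ⟨2, 0⟩, ⟨0, 0⟩⟩, ⟨⟨1, -2⟩, ⟨1, 0⟩, ⟨-1, 0⟩, ⟨1, 0⟩⟩),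
  (⟨⟨2, 0⟩, ⟨0, 0⟩, ⟨0, 0⟩, ⟨0, 0⟩⟩, ⟨⟨0, 0⟩, ⟨0, 0⟩, ⟨2, 0⟩, ⟨0, 0⟩⟩, ⟨⟨1, 0⟩, ⟨-1, 0⟩, ⟨-1, 0⟩, ⟨-1, 2⟩⟩),
  (⟨⟨2, 0⟩, ⟨0, 0⟩, ⟨0, 0⟩, ⟨0, 0⟩⟩, ⟨⟨0, 0⟩, ⟨0, 0⟩, ⟨2, 0⟩, ⟨0, 0⟩⟩, ⟨⟨-1, 0⟩, ⟨1, -2⟩, ⟨-1, 0⟩, ⟨-1, 0⟩⟩),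
  (⟨⟨2, 0⟩, ⟨0, 0⟩, ⟨0, 0⟩, ⟨0, 0⟩⟩, ⟨⟨0, 0⟩, ⟨0, 0⟩, ⟨2, 0⟩, ⟨0, 0⟩⟩, ⟨⟨-1, 0⟩, ⟨-1, 0⟩, ⟨-1, 2⟩, ⟨1, 0⟩⟩),
  (⟨⟨2, 0⟩, ⟨0, 0⟩, ⟨0, 0⟩, ⟨0, 0⟩⟩, ⟨⟨0, 0⟩, ⟨0, 0⟩, ⟨2, 0⟩, ⟨0, 0⟩⟩, ⟨⟨1, 0⟩, ⟨1, 0⟩, ⟨1, -2⟩, ⟨-1, 0⟩⟩),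
  (⟨⟨2, 0⟩, ⟨0, 0⟩, ⟨0, 0⟩, ⟨0, 0⟩⟩, ⟨⟨0, 0⟩, ⟨0, 0⟩, ⟨2, 0⟩, ⟨0, 0⟩⟩, ⟨⟨1, 0⟩, ⟨-1, 2⟩, ⟨1, 0⟩, ⟨1, 0⟩⟩),
  (⟨⟨2, 0⟩, ⟨0, 0⟩, ⟨0, 0⟩, ⟨0, 0⟩⟩, ⟨⟨0, 0⟩, ⟨0, 0⟩, ⟨2, 0⟩, ⟨0, 0⟩⟩, ⟨⟨-1, 0⟩, ⟨1, 0⟩, ⟨1, 0⟩, ⟨1, -2⟩⟩),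
  (⟨⟨2, 0⟩, ⟨0, 0⟩, ⟨0, 0⟩, ⟨0, 0⟩⟩, ⟨⟨0, 0⟩, ⟨0, 0⟩, ⟨2, 0⟩, ⟨0, 0⟩⟩, ⟨⟨-1, 2⟩, ⟨-1, 0⟩, ⟨1, 0⟩, ⟨-1, 0⟩⟩),
  (⟨⟨1, -2⟩, ⟨1, 0⟩, ⟨1, 0⟩, ⟨1, 0⟩⟩, ⟨⟨-1, 0⟩, ⟨-1, 0⟩, ⟨1, -2⟩, ⟨1, 0⟩⟩, ⟨⟨0, 0⟩, ⟨0, 0⟩, ⟨0, 0⟩, ⟨0, 0⟩⟩),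
  (⟨⟨2, 0⟩, ⟨0, 0⟩, ⟨0, 0⟩, ⟨0, 0⟩⟩, ⟨⟨0, 0⟩, ⟨2, 0⟩, ⟨0, 0⟩, ⟨0, 0⟩⟩, ⟨⟨1, 0⟩, ⟨-1, 0⟩, ⟨-1, 2⟩, ⟨-1, 0⟩⟩),
  (⟨⟨2, 0⟩, ⟨0, 0⟩, ⟨0, 0⟩, ⟨0, 0⟩⟩, ⟨⟨0, 0⟩, ⟨2, 0⟩, ⟨0, 0⟩, ⟨0, 0⟩⟩, ⟨⟨1, -2⟩, ⟨-1, 0⟩, ⟨1, 0⟩, ⟨1, 0⟩⟩),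
  (⟨⟨2, 0⟩, ⟨0, 0⟩, ⟨0, 0⟩, ⟨0, 0⟩⟩, ⟨⟨0, 0⟩, ⟨2, 0⟩, ⟨0, 0⟩, ⟨0, 0⟩⟩, ⟨⟨-1, 0⟩, ⟨-1, 0⟩, ⟨-1, 0⟩, ⟨1, -2⟩⟩),
  (⟨⟨2, 0⟩, ⟨0, 0⟩, ⟨0, 0⟩, ⟨0, 0⟩⟩, ⟨⟨0, 0⟩, ⟨2, 0⟩, ⟨0, 0⟩, ⟨0, 0⟩⟩, ⟨⟨-1, 0⟩, ⟨-1, 2⟩, ⟨1, 0⟩, ⟨-1, 0⟩⟩),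
  (⟨⟨2, 0⟩, ⟨0, 0⟩, ⟨0, 0⟩, ⟨0, 0⟩⟩, ⟨⟨0, 0⟩, ⟨2, 0⟩, ⟨0, 0⟩, ⟨0, 0⟩⟩, ⟨⟨1, 0⟩, ⟨1, -2⟩, ⟨-1, 0⟩, ⟨1, 0⟩⟩),
  (⟨⟨2, 0⟩, ⟨0, 0⟩, ⟨0, 0⟩, ⟨0, 0⟩⟩, ⟨⟨0, 0⟩, ⟨2, 0⟩, ⟨0, 0⟩, ⟨0, 0⟩⟩, ⟨⟨1, 0⟩, ⟨1, 0⟩, ⟨1, 0⟩, ⟨-1, 2⟩⟩),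
  (⟨⟨2, 0⟩, ⟨0, 0⟩, ⟨0, 0⟩, ⟨0, 0⟩⟩, ⟨⟨0, 0⟩, ⟨2, 0⟩, ⟨0, 0⟩, ⟨0, 0⟩⟩, ⟨⟨-1, 2⟩, ⟨1, 0⟩, ⟨-1, 0⟩, ⟨-1, 0⟩⟩),
  (⟨⟨2, 0⟩, ⟨0, 0⟩, ⟨0, 0⟩, ⟨0, 0⟩⟩, ⟨⟨0, 0⟩, ⟨2, 0⟩, ⟨0, 0⟩, ⟨0, 0⟩⟩, ⟨⟨-1, 0⟩, ⟨1, 0⟩, ⟨1, -2⟩, ⟨1, 0⟩⟩),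
  (⟨⟨1, -2⟩, ⟨1, 0⟩, ⟨1, 0⟩, ⟨1, 0⟩⟩, ⟨⟨-1, 0⟩, ⟨1, -2⟩, ⟨1, 0⟩, ⟨-1, 0⟩⟩, ⟨⟨0, 0⟩, ⟨0, 0⟩, ⟨0, 0⟩, ⟨0, 0⟩⟩),
  (⟨⟨2, 0⟩, ⟨0, 0⟩, ⟨0, 0⟩, ⟨0, 0⟩⟩, ⟨⟨0, 1⟩, ⟨0, -1⟩, ⟨0, -1⟩, ⟨0, -1⟩⟩, ⟨⟨-1, 1⟩, ⟨-1, 1⟩, ⟨-1, 1⟩, ⟨-1, 1⟩⟩),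
  (⟨⟨2, 0⟩, ⟨0, 0⟩, ⟨0, 0⟩, ⟨0, 0⟩⟩, ⟨⟨0, 1⟩, ⟨0, -1⟩, ⟨0, -1⟩, ⟨0, -1⟩⟩, ⟨⟨1, -1⟩, ⟨1, -1⟩, ⟨1, -1⟩, ⟨1, -1⟩⟩),
  (⟨⟨0, 1⟩, ⟨0, 1⟩, ⟨0, 1⟩, ⟨0, -1⟩⟩, ⟨⟨2, 0⟩, ⟨0, 0⟩, ⟨0, 0⟩, ⟨0, 0⟩⟩, ⟨⟨-1, 1⟩, ⟨-1, 1⟩, ⟨1, -1⟩, ⟨1, -1⟩⟩),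
  (⟨⟨0, 1⟩, ⟨0, 1⟩, ⟨0, 1⟩, ⟨0, -1⟩⟩, ⟨⟨2, 0⟩, ⟨0, 0⟩, ⟨0, 0⟩, ⟨0, 0⟩⟩, ⟨⟨1, -1⟩, ⟨1, -1⟩, ⟨-1, 1⟩, ⟨-1, 1⟩⟩),
  (⟨⟨0, 1⟩, ⟨0, 1⟩, ⟨0, -1⟩, ⟨0, 1⟩⟩, ⟨⟨2, 0⟩, ⟨0, 0⟩, ⟨0, 0⟩, ⟨0, 0⟩⟩, ⟨⟨-1, 1⟩, ⟨1, -1⟩, ⟨1, -1⟩, ⟨-1, 1⟩⟩),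
  (⟨⟨0, 1⟩, ⟨0, 1⟩, ⟨0, -1⟩, ⟨0, 1⟩⟩, ⟨⟨2, 0⟩, ⟨0, 0⟩, ⟨0, 0⟩, ⟨0, 0⟩⟩, ⟨⟨1, -1⟩, ⟨-1, 1⟩, ⟨-1, 1⟩, ⟨1, -1⟩⟩),
  (⟨⟨2, 0⟩, ⟨0, 0⟩, ⟨0, 0⟩, ⟨0, 0⟩⟩, ⟨⟨0, 1⟩, ⟨0, -1⟩, ⟨0, 1⟩, ⟨0, 1⟩⟩, ⟨⟨1, -1⟩, ⟨-1, 1⟩, ⟨1, -1⟩, ⟨-1, 1⟩⟩),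
  (⟨⟨2, 0⟩, ⟨0, 0⟩, ⟨0, 0⟩, ⟨0, 0⟩⟩, ⟨⟨0, 1⟩, ⟨0, -1⟩, ⟨0, 1⟩, ⟨0, 1⟩⟩, ⟨⟨-1, 1⟩, ⟨1, -1⟩, ⟨-1, 1⟩, ⟨1, -1⟩⟩),
  (⟨⟨0, 1⟩, ⟨0, -1⟩, ⟨0, 1⟩, ⟨0, 1⟩⟩, ⟨⟨2, 0⟩, ⟨0, 0⟩, ⟨0, 0⟩, ⟨0, 0⟩⟩, ⟨⟨-1, 1⟩, ⟨1, -1⟩, ⟨-1, 1⟩, ⟨1, -1⟩⟩),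
  (⟨⟨0, 1⟩, ⟨0, -1⟩, ⟨0, 1⟩, ⟨0, 1⟩⟩, ⟨⟨2, 0⟩, ⟨0, 0⟩, ⟨0, 0⟩, ⟨0, 0⟩⟩, ⟨⟨1, -1⟩, ⟨-1, 1⟩, ⟨1, -1⟩, ⟨-1, 1⟩⟩),
  (⟨⟨2, 0⟩, ⟨0, 0⟩, ⟨0, 0⟩, ⟨0, 0⟩⟩, ⟨⟨0, 1⟩, ⟨0, 1⟩, ⟨0, -1⟩, ⟨0, 1⟩⟩, ⟨⟨1, -1⟩, ⟨-1, 1⟩, ⟨-1, 1⟩, ⟨1, -1⟩⟩),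
  (⟨⟨2, 0⟩, ⟨0, 0⟩, ⟨0, 0⟩, ⟨0, 0⟩⟩, ⟨⟨0, 1⟩, ⟨0, 1⟩, ⟨0, -1⟩, ⟨0, 1⟩⟩, ⟨⟨-1, 1⟩, ⟨1, -1⟩, ⟨1, -1⟩, ⟨-1, 1⟩⟩),
  (⟨⟨2, 0⟩, ⟨0, 0⟩, ⟨0, 0⟩, ⟨0, 0⟩⟩, ⟨⟨0, 1⟩, ⟨0, 1⟩, ⟨0, 1⟩, ⟨0, -1⟩⟩, ⟨⟨1, -1⟩, ⟨1, -1⟩, ⟨-1, 1⟩, ⟨-1, 1⟩⟩),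
  (⟨⟨2, 0⟩, ⟨0, 0⟩, ⟨0, 0⟩, ⟨0, 0⟩⟩, ⟨⟨0, 1⟩, ⟨0, 1⟩, ⟨0, 1⟩, ⟨0, -1⟩⟩, ⟨⟨-1, 1⟩, ⟨-1, 1⟩, ⟨1, -1⟩, ⟨1, -1⟩⟩),
  (⟨⟨0, 1⟩, ⟨0, -1⟩, ⟨0, -1⟩, ⟨0, -1⟩⟩, ⟨⟨2, 0⟩, ⟨0, 0⟩, ⟨0, 0⟩, ⟨0, 0⟩⟩, ⟨⟨-1, 1⟩, ⟨-1, 1⟩, ⟨-1, 1⟩, ⟨-1, 1⟩⟩),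
  (⟨⟨0, 1⟩, ⟨0, -1⟩, ⟨0, -1⟩, ⟨0, -1⟩⟩, ⟨⟨2, 0⟩, ⟨0, 0⟩, ⟨0, 0⟩, ⟨0, 0⟩⟩, ⟨⟨1, -1⟩, ⟨1, -1⟩, ⟨1, -1⟩, ⟨1, -1⟩⟩),
  (⟨⟨2, 0⟩, ⟨0, 0⟩, ⟨0, 0⟩, ⟨0, 0⟩⟩, ⟨⟨1, -2⟩, ⟨-1, 0⟩, ⟨-1, 0⟩, ⟨-1, 0⟩⟩, ⟨⟨-2, 0⟩, ⟨0, 0⟩, ⟨0, 0⟩, ⟨0, 0⟩⟩),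
  (⟨⟨2, 0⟩, ⟨0, 0⟩, ⟨0, 0⟩, ⟨0, 0⟩⟩, ⟨⟨1, -2⟩, ⟨-1, 0⟩, ⟨-1, 0⟩, ⟨-1, 0⟩⟩, ⟨⟨2, 0⟩, ⟨0, 0⟩, ⟨0, 0⟩, ⟨0, 0⟩⟩),
  (⟨⟨1, -2⟩, ⟨1, 0⟩, ⟨1, 0⟩, ⟨-1, 0⟩⟩, ⟨⟨2, 0⟩, ⟨0, 0⟩, ⟨0, 0⟩, ⟨0, 0⟩⟩, ⟨⟨0, 0⟩, ⟨0, 0⟩, ⟨0, 0⟩, ⟨-2, 0⟩⟩),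
  (⟨⟨1, -2⟩, ⟨1, 0⟩, ⟨1, 0⟩, ⟨-1, 0⟩⟩, ⟨⟨2, 0⟩, ⟨0, 0⟩, ⟨0, 0⟩, ⟨0, 0⟩⟩, ⟨⟨0, 0⟩, ⟨0, 0⟩, ⟨0, 0⟩, ⟨2, 0⟩⟩),
  (⟨⟨1, -2⟩, ⟨1, 0⟩, ⟨-1, 0⟩, ⟨1, 0⟩⟩, ⟨⟨2, 0⟩, ⟨0, 0⟩, ⟨0, 0⟩, ⟨0, 0⟩⟩, ⟨⟨0, 0⟩, ⟨0, 0⟩, ⟨-2, 0⟩, ⟨0, 0⟩⟩),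
  (⟨⟨1, -2⟩, ⟨1, 0⟩, ⟨-1, 0⟩, ⟨1, 0⟩⟩, ⟨⟨2, 0⟩, ⟨0, 0⟩, ⟨0, 0⟩, ⟨0, 0⟩⟩, ⟨⟨0, 0⟩, ⟨0, 0⟩, ⟨2, 0⟩, ⟨0, 0⟩⟩),
  (⟨⟨2, 0⟩, ⟨0, 0⟩, ⟨0, 0⟩, ⟨0, 0⟩⟩, ⟨⟨1, -2⟩, ⟨-1, 0⟩, ⟨1, 0⟩, ⟨1, 0⟩⟩, ⟨⟨0, 0⟩, ⟨2, 0⟩, ⟨0, 0⟩, ⟨0, 0⟩⟩),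
  (⟨⟨2, 0⟩, ⟨0, 0⟩, ⟨0, 0⟩, ⟨0, 0⟩⟩, ⟨⟨1, -2⟩, ⟨-1, 0⟩, ⟨1, 0⟩, ⟨1, 0⟩⟩, ⟨⟨0, 0⟩, ⟨-2, 0⟩, ⟨0, 0⟩, ⟨0, 0⟩⟩),
  (⟨⟨1, -2⟩, ⟨-1, 0⟩, ⟨1, 0⟩, ⟨1, 0⟩⟩, ⟨⟨2, 0⟩, ⟨0, 0⟩, ⟨0, 0⟩, ⟨0, 0⟩⟩, ⟨⟨0, 0⟩, ⟨-2, 0⟩, ⟨0, 0⟩, ⟨0, 0⟩⟩),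
  (⟨⟨1, -2⟩, ⟨-1, 0⟩, ⟨1, 0⟩, ⟨1, 0⟩⟩, ⟨⟨2, 0⟩, ⟨0, 0⟩, ⟨0, 0⟩, ⟨0, 0⟩⟩, ⟨⟨0, 0⟩, ⟨2, 0⟩, ⟨0, 0⟩, ⟨0, 0⟩⟩),
  (⟨⟨2, 0⟩, ⟨0, 0⟩, ⟨0, 0⟩, ⟨0, 0⟩⟩, ⟨⟨1, -2⟩, ⟨1, 0⟩, ⟨-1, 0⟩, ⟨1, 0⟩⟩, ⟨⟨0, 0⟩, ⟨0, 0⟩, ⟨2, 0⟩, ⟨0, 0⟩⟩),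
  (⟨⟨2, 0⟩, ⟨0, 0⟩, ⟨0, 0⟩, ⟨0, 0⟩⟩, ⟨⟨1, -2⟩, ⟨1, 0⟩, ⟨-1, 0⟩, ⟨1, 0⟩⟩, ⟨⟨0, 0⟩, ⟨0, 0⟩, ⟨-2, 0⟩, ⟨0, 0⟩⟩),
  (⟨⟨2, 0⟩, ⟨0, 0⟩, ⟨0, 0⟩, ⟨0, 0⟩⟩, ⟨⟨1, -2⟩, ⟨1, 0⟩, ⟨1, 0⟩, ⟨-1, 0⟩⟩, ⟨⟨0, 0⟩, ⟨0, 0⟩, ⟨0, 0⟩, ⟨2, 0⟩⟩),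
  (⟨⟨2, 0⟩, ⟨0, 0⟩, ⟨0, 0⟩, ⟨0, 0⟩⟩, ⟨⟨1, -2⟩, ⟨1, 0⟩, ⟨1, 0⟩, ⟨-1, 0⟩⟩, ⟨⟨0, 0⟩, ⟨0, 0⟩, ⟨0, 0⟩, ⟨-2, 0⟩⟩),
  (⟨⟨1, -2⟩, ⟨-1, 0⟩, ⟨-1, 0⟩, ⟨-1, 0⟩⟩, ⟨⟨2, 0⟩, ⟨0, 0⟩, ⟨0, 0⟩, ⟨0, 0⟩⟩, ⟨⟨-2, 0⟩, ⟨0, 0⟩, ⟨0, 0⟩, ⟨0, 0⟩⟩),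
  (⟨⟨1, -2⟩, ⟨-1, 0⟩, ⟨-1, 0⟩, ⟨-1, 0⟩⟩, ⟨⟨2, 0⟩, ⟨0, 0⟩, ⟨0, 0⟩, ⟨0, 0⟩⟩, ⟨⟨2, 0⟩, ⟨0, 0⟩, ⟨0, 0⟩, ⟨0, 0⟩⟩),
  (⟨⟨1, -1⟩, ⟨1, -1⟩, ⟨1, -1⟩, ⟨1, -1⟩⟩, ⟨⟨2, 0⟩, ⟨0, 0⟩, ⟨0, 0⟩, ⟨0, 0⟩⟩, ⟨⟨0, -1⟩, ⟨0, 1⟩, ⟨0, 1⟩, ⟨0, 1⟩⟩),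
  (⟨⟨1, -1⟩, ⟨1, -1⟩, ⟨1, -1⟩, ⟨1, -1⟩⟩, ⟨⟨2, 0⟩, ⟨0, 0⟩, ⟨0, 0⟩, ⟨0, 0⟩⟩, ⟨⟨0, 1⟩, ⟨0, -1⟩, ⟨0, -1⟩, ⟨0, -1⟩⟩),
  (⟨⟨2, 0⟩, ⟨0, 0⟩, ⟨0, 0⟩, ⟨0, 0⟩⟩, ⟨⟨1, -1⟩, ⟨-1, 1⟩, ⟨-1, 1⟩, ⟨1, -1⟩⟩, ⟨⟨0, 1⟩, ⟨0, 1⟩, ⟨0, -1⟩, ⟨0, 1⟩⟩),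
  (⟨⟨2, 0⟩, ⟨0, 0⟩, ⟨0, 0⟩, ⟨0, 0⟩⟩, ⟨⟨1, -1⟩, ⟨-1, 1⟩, ⟨-1, 1⟩, ⟨1, -1⟩⟩, ⟨⟨0, -1⟩, ⟨0, -1⟩, ⟨0, 1⟩, ⟨0, -1⟩⟩),
  (⟨⟨2, 0⟩, ⟨0, 0⟩, ⟨0, 0⟩, ⟨0, 0⟩⟩, ⟨⟨1, -1⟩, ⟨-1, 1⟩, ⟨1, -1⟩, ⟨-1, 1⟩⟩, ⟨⟨0, 1⟩, ⟨0, -1⟩, ⟨0, 1⟩, ⟨0, 1⟩⟩),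
  (⟨⟨2, 0⟩, ⟨0, 0⟩, ⟨0, 0⟩, ⟨0, 0⟩⟩, ⟨⟨1, -1⟩, ⟨-1, 1⟩, ⟨1, -1⟩, ⟨-1, 1⟩⟩, ⟨⟨0, -1⟩, ⟨0, 1⟩, ⟨0, -1⟩, ⟨0, -1⟩⟩),
  (⟨⟨1, -1⟩, ⟨1, -1⟩, ⟨-1, 1⟩, ⟨-1, 1⟩⟩, ⟨⟨2, 0⟩, ⟨0, 0⟩, ⟨0, 0⟩, ⟨0, 0⟩⟩, ⟨⟨0, -1⟩, ⟨0, -1⟩, ⟨0, -1⟩, ⟨0, 1⟩⟩),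
  (⟨⟨1, -1⟩, ⟨1, -1⟩, ⟨-1, 1⟩, ⟨-1, 1⟩⟩, ⟨⟨2, 0⟩, ⟨0, 0⟩, ⟨0, 0⟩, ⟨0, 0⟩⟩, ⟨⟨0, 1⟩, ⟨0, 1⟩, ⟨0, 1⟩, ⟨0, -1⟩⟩),
  (⟨⟨2, 0⟩, ⟨0, 0⟩, ⟨0, 0⟩, ⟨0, 0⟩⟩, ⟨⟨1, -1⟩, ⟨1, -1⟩, ⟨-1, 1⟩, ⟨-1, 1⟩⟩, ⟨⟨0, 1⟩, ⟨0, 1⟩, ⟨0, 1⟩, ⟨0, -1⟩⟩),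
  (⟨⟨2, 0⟩, ⟨0, 0⟩, ⟨0, 0⟩, ⟨0, 0⟩⟩, ⟨⟨1, -1⟩, ⟨1, -1⟩, ⟨-1, 1⟩, ⟨-1, 1⟩⟩, ⟨⟨0, -1⟩, ⟨0, -1⟩, ⟨0, -1⟩, ⟨0, 1⟩⟩),
  (⟨⟨1, -1⟩, ⟨-1, 1⟩, ⟨1, -1⟩, ⟨-1, 1⟩⟩, ⟨⟨2, 0⟩, ⟨0, 0⟩, ⟨0, 0⟩, ⟨0, 0⟩⟩, ⟨⟨0, -1⟩, ⟨0, 1⟩, ⟨0, -1⟩, ⟨0, -1⟩⟩),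
  (⟨⟨1, -1⟩, ⟨-1, 1⟩, ⟨1, -1⟩, ⟨-1, 1⟩⟩, ⟨⟨2, 0⟩, ⟨0, 0⟩, ⟨0, 0⟩, ⟨0, 0⟩⟩, ⟨⟨0, 1⟩, ⟨0, -1⟩, ⟨0, 1⟩, ⟨0, 1⟩⟩),
  (⟨⟨1, -1⟩, ⟨-1, 1⟩, ⟨-1, 1⟩, ⟨1, -1⟩⟩, ⟨⟨2, 0⟩, ⟨0, 0⟩, ⟨0, 0⟩, ⟨0, 0⟩⟩, ⟨⟨0, -1⟩, ⟨0, -1⟩, ⟨0, 1⟩, ⟨0, -1⟩⟩),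
  (⟨⟨1, -1⟩, ⟨-1, 1⟩, ⟨-1, 1⟩, ⟨1, -1⟩⟩, ⟨⟨2, 0⟩, ⟨0, 0⟩, ⟨0, 0⟩, ⟨0, 0⟩⟩, ⟨⟨0, 1⟩, ⟨0, 1⟩, ⟨0, -1⟩, ⟨0, 1⟩⟩),
  (⟨⟨2, 0⟩, ⟨0, 0⟩, ⟨0, 0⟩, ⟨0, 0⟩⟩, ⟨⟨1, -1⟩, ⟨1, -1⟩, ⟨1, -1⟩, ⟨1, -1⟩⟩, ⟨⟨0, -1⟩, ⟨0, 1⟩, ⟨0, 1⟩, ⟨0, 1⟩⟩),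
  (⟨⟨2, 0⟩, ⟨0, 0⟩, ⟨0, 0⟩, ⟨0, 0⟩⟩, ⟨⟨1, -1⟩, ⟨1, -1⟩, ⟨1, -1⟩, ⟨1, -1⟩⟩, ⟨⟨0, 1⟩, ⟨0, -1⟩, ⟨0, -1⟩, ⟨0, -1⟩⟩),
  (⟨⟨0, -1⟩, ⟨0, 1⟩, ⟨0, 1⟩, ⟨0, 1⟩⟩, ⟨⟨-1, 1⟩, ⟨-1, 1⟩, ⟨-1, 1⟩, ⟨-1, 1⟩⟩, ⟨⟨2, 0⟩, ⟨0, 0⟩, ⟨0, 0⟩, ⟨0, 0⟩⟩),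
  (⟨⟨0, 1⟩, ⟨0, -1⟩, ⟨0, -1⟩, ⟨0, -1⟩⟩, ⟨⟨1, -1⟩, ⟨1, -1⟩, ⟨1, -1⟩, ⟨1, -1⟩⟩, ⟨⟨2, 0⟩, ⟨0, 0⟩, ⟨0, 0⟩, ⟨0, 0⟩⟩),
  (⟨⟨2, 0⟩, ⟨0, 0⟩, ⟨0, 0⟩, ⟨0, 0⟩⟩, ⟨⟨1, 0⟩, ⟨-1, 0⟩, ⟨-1, 0⟩, ⟨-1, 2⟩⟩, ⟨⟨0, 0⟩, ⟨0, 0⟩, ⟨2, 0⟩, ⟨0, 0⟩⟩),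
  (⟨⟨2, 0⟩, ⟨0, 0⟩, ⟨0, 0⟩, ⟨0, 0⟩⟩, ⟨⟨1, 0⟩, ⟨-1, 0⟩, ⟨-1, 0⟩, ⟨-1, 2⟩⟩, ⟨⟨0, 0⟩, ⟨0, 0⟩, ⟨-2, 0⟩, ⟨0, 0⟩⟩),
  (⟨⟨1, 0⟩, ⟨1, 0⟩, ⟨1, 0⟩, ⟨-1, 2⟩⟩, ⟨⟨2, 0⟩, ⟨0, 0⟩, ⟨0, 0⟩, ⟨0, 0⟩⟩, ⟨⟨0, 0⟩, ⟨-2, 0⟩, ⟨0, 0⟩, ⟨0, 0⟩⟩),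
  (⟨⟨1, 0⟩, ⟨1, 0⟩, ⟨1, 0⟩, ⟨-1, 2⟩⟩, ⟨⟨2, 0⟩, ⟨0, 0⟩, ⟨0, 0⟩, ⟨0, 0⟩⟩, ⟨⟨0, 0⟩, ⟨2, 0⟩, ⟨0, 0⟩, ⟨0, 0⟩⟩),
  (⟨⟨1, -1⟩, ⟨-1, 1⟩, ⟨1, -1⟩, ⟨-1, 1⟩⟩, ⟨⟨0, -1⟩, ⟨0, 1⟩, ⟨0, -1⟩, ⟨0, -1⟩⟩, ⟨⟨2, 0⟩, ⟨0, 0⟩, ⟨0, 0⟩, ⟨0, 0⟩⟩),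
  (⟨⟨-1, 1⟩, ⟨1, -1⟩, ⟨-1, 1⟩, ⟨1, -1⟩⟩, ⟨⟨0, 1⟩, ⟨0, -1⟩, ⟨0, 1⟩, ⟨0, 1⟩⟩, ⟨⟨2, 0⟩, ⟨0, 0⟩, ⟨0, 0⟩, ⟨0, 0⟩⟩),
  (⟨⟨2, 0⟩, ⟨0, 0⟩, ⟨0, 0⟩, ⟨0, 0⟩⟩, ⟨⟨1, 0⟩, ⟨-1, 0⟩, ⟨-1, 2⟩, ⟨-1, 0⟩⟩, ⟨⟨0, 0⟩, ⟨2, 0⟩, ⟨0, 0⟩, ⟨0, 0⟩⟩),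
  (⟨⟨2, 0⟩, ⟨0, 0⟩, ⟨0, 0⟩, ⟨0, 0⟩⟩, ⟨⟨1, 0⟩, ⟨-1, 0⟩, ⟨-1, 2⟩, ⟨-1, 0⟩⟩, ⟨⟨0, 0⟩, ⟨-2, 0⟩, ⟨0, 0⟩, ⟨0, 0⟩⟩),
  (⟨⟨1, 0⟩, ⟨1, 0⟩, ⟨1, -2⟩, ⟨-1, 0⟩⟩, ⟨⟨2, 0⟩, ⟨0, 0⟩, ⟨0, 0⟩, ⟨0, 0⟩⟩, ⟨⟨0, 0⟩, ⟨0, 0⟩, ⟨-2, 0⟩, ⟨0, 0⟩⟩),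
  (⟨⟨1, 0⟩, ⟨1, 0⟩, ⟨1, -2⟩, ⟨-1, 0⟩⟩, ⟨⟨2, 0⟩, ⟨0, 0⟩, ⟨0, 0⟩, ⟨0, 0⟩⟩, ⟨⟨0, 0⟩, ⟨0, 0⟩, ⟨2, 0⟩, ⟨0, 0⟩⟩),
  (⟨⟨1, 0⟩, ⟨1, 0⟩, ⟨-1, 2⟩, ⟨1, 0⟩⟩, ⟨⟨2, 0⟩, ⟨0, 0⟩, ⟨0, 0⟩, ⟨0, 0⟩⟩, ⟨⟨0, 0⟩, ⟨0, 0⟩, ⟨0, 0⟩, ⟨-2, 0⟩⟩),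
  (⟨⟨1, 0⟩, ⟨1, 0⟩, ⟨-1, 2⟩, ⟨1, 0⟩⟩, ⟨⟨2, 0⟩, ⟨0, 0⟩, ⟨0, 0⟩, ⟨0, 0⟩⟩, ⟨⟨0, 0⟩, ⟨0, 0⟩, ⟨0, 0⟩, ⟨2, 0⟩⟩),
  (⟨⟨2, 0⟩, ⟨0, 0⟩, ⟨0, 0⟩, ⟨0, 0⟩⟩, ⟨⟨1, 0⟩, ⟨-1, 0⟩, ⟨1, -2⟩, ⟨1, 0⟩⟩, ⟨⟨-2, 0⟩, ⟨0, 0⟩, ⟨0, 0⟩, ⟨0, 0⟩⟩),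
  (⟨⟨2, 0⟩, ⟨0, 0⟩, ⟨0, 0⟩, ⟨0, 0⟩⟩, ⟨⟨1, 0⟩, ⟨-1, 0⟩, ⟨1, -2⟩, ⟨1, 0⟩⟩, ⟨⟨2, 0⟩, ⟨0, 0⟩, ⟨0, 0⟩, ⟨0, 0⟩⟩),
  (⟨⟨1, -1⟩, ⟨1, -1⟩, ⟨-1, 1⟩, ⟨-1, 1⟩⟩, ⟨⟨0, -1⟩, ⟨0, -1⟩, ⟨0, -1⟩, ⟨0, 1⟩⟩, ⟨⟨2, 0⟩, ⟨0, 0⟩, ⟨0, 0⟩, ⟨0, 0⟩⟩),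
  (⟨⟨-1, 1⟩, ⟨-1, 1⟩, ⟨1, -1⟩, ⟨1, -1⟩⟩, ⟨⟨0, 1⟩, ⟨0, 1⟩, ⟨0, 1⟩, ⟨0, -1⟩⟩, ⟨⟨2, 0⟩, ⟨0, 0⟩, ⟨0, 0⟩, ⟨0, 0⟩⟩),
  (⟨⟨1, 0⟩, ⟨1, 0⟩, ⟨-1, 0⟩, ⟨1, -2⟩⟩, ⟨⟨2, 0⟩, ⟨0, 0⟩, ⟨0, 0⟩, ⟨0, 0⟩⟩, ⟨⟨-2, 0⟩, ⟨0, 0⟩, ⟨0, 0⟩, ⟨0, 0⟩⟩),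
  (⟨⟨1, 0⟩, ⟨1, 0⟩, ⟨-1, 0⟩, ⟨1, -2⟩⟩, ⟨⟨2, 0⟩, ⟨0, 0⟩, ⟨0, 0⟩, ⟨0, 0⟩⟩, ⟨⟨2, 0⟩, ⟨0, 0⟩, ⟨0, 0⟩, ⟨0, 0⟩⟩),
  (⟨⟨2, 0⟩, ⟨0, 0⟩, ⟨0, 0⟩, ⟨0, 0⟩⟩, ⟨⟨1, 0⟩, ⟨-1, 0⟩, ⟨1, 0⟩, ⟨1, -2⟩⟩, ⟨⟨0, 0⟩, ⟨0, 0⟩, ⟨0, 0⟩, ⟨-2, 0⟩⟩),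
  (⟨⟨2, 0⟩, ⟨0, 0⟩, ⟨0, 0⟩, ⟨0, 0⟩⟩, ⟨⟨1, 0⟩, ⟨-1, 0⟩, ⟨1, 0⟩, ⟨1, -2⟩⟩, ⟨⟨0, 0⟩, ⟨0, 0⟩, ⟨0, 0⟩, ⟨2, 0⟩⟩),
  (⟨⟨0, 1⟩, ⟨0, 1⟩, ⟨0, -1⟩, ⟨0, 1⟩⟩, ⟨⟨-1, 1⟩, ⟨1, -1⟩, ⟨1, -1⟩, ⟨-1, 1⟩⟩, ⟨⟨2, 0⟩, ⟨0, 0⟩, ⟨0, 0⟩, ⟨0, 0⟩⟩),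
  (⟨⟨0, -1⟩, ⟨0, -1⟩, ⟨0, 1⟩, ⟨0, -1⟩⟩, ⟨⟨1, -1⟩, ⟨-1, 1⟩, ⟨-1, 1⟩, ⟨1, -1⟩⟩, ⟨⟨2, 0⟩, ⟨0, 0⟩, ⟨0, 0⟩, ⟨0, 0⟩⟩),
  (⟨⟨2, 0⟩, ⟨0, 0⟩, ⟨0, 0⟩, ⟨0, 0⟩⟩, ⟨⟨1, 0⟩, ⟨-1, 2⟩, ⟨-1, 0⟩, ⟨-1, 0⟩⟩, ⟨⟨0, 0⟩, ⟨0, 0⟩, ⟨0, 0⟩, ⟨2, 0⟩⟩),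
  (⟨⟨2, 0⟩, ⟨0, 0⟩, ⟨0, 0⟩, ⟨0, 0⟩⟩, ⟨⟨1, 0⟩, ⟨-1, 2⟩, ⟨-1, 0⟩, ⟨-1, 0⟩⟩, ⟨⟨0, 0⟩, ⟨0, 0⟩, ⟨0, 0⟩, ⟨-2, 0⟩⟩),
  (⟨⟨1, 0⟩, ⟨1, -2⟩, ⟨1, 0⟩, ⟨-1, 0⟩⟩, ⟨⟨2, 0⟩, ⟨0, 0⟩, ⟨0, 0⟩, ⟨0, 0⟩⟩, ⟨⟨-2, 0⟩, ⟨0, 0⟩, ⟨0, 0⟩, ⟨0, 0⟩⟩),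
  (⟨⟨1, 0⟩, ⟨1, -2⟩, ⟨1, 0⟩, ⟨-1, 0⟩⟩, ⟨⟨2, 0⟩, ⟨0, 0⟩, ⟨0, 0⟩, ⟨0, 0⟩⟩, ⟨⟨2, 0⟩, ⟨0, 0⟩, ⟨0, 0⟩, ⟨0, 0⟩⟩),
  (⟨⟨1, 0⟩, ⟨1, -2⟩, ⟨-1, 0⟩, ⟨1, 0⟩⟩, ⟨⟨2, 0⟩, ⟨0, 0⟩, ⟨0, 0⟩, ⟨0, 0⟩⟩, ⟨⟨0, 0⟩, ⟨-2, 0⟩, ⟨0, 0⟩, ⟨0, 0⟩⟩),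
  (⟨⟨1, 0⟩, ⟨1, -2⟩, ⟨-1, 0⟩, ⟨1, 0⟩⟩, ⟨⟨2, 0⟩, ⟨0, 0⟩, ⟨0, 0⟩, ⟨0, 0⟩⟩, ⟨⟨0, 0⟩, ⟨2, 0⟩, ⟨0, 0⟩, ⟨0, 0⟩⟩),
  (⟨⟨2, 0⟩, ⟨0, 0⟩, ⟨0, 0⟩, ⟨0, 0⟩⟩, ⟨⟨1, 0⟩, ⟨-1, 2⟩, ⟨1, 0⟩, ⟨1, 0⟩⟩, ⟨⟨0, 0⟩, ⟨0, 0⟩, ⟨-2, 0⟩, ⟨0, 0⟩⟩),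
  (⟨⟨2, 0⟩, ⟨0, 0⟩, ⟨0, 0⟩, ⟨0, 0⟩⟩, ⟨⟨1, 0⟩, ⟨-1, 2⟩, ⟨1, 0⟩, ⟨1, 0⟩⟩, ⟨⟨0, 0⟩, ⟨0, 0⟩, ⟨2, 0⟩, ⟨0, 0⟩⟩),
  (⟨⟨1, 0⟩, ⟨-1, 2⟩, ⟨1, 0⟩, ⟨1, 0⟩⟩, ⟨⟨2, 0⟩, ⟨0, 0⟩, ⟨0, 0⟩, ⟨0, 0⟩⟩, ⟨⟨0, 0⟩, ⟨0, 0⟩, ⟨-2, 0⟩, ⟨0, 0⟩⟩),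
  (⟨⟨1, 0⟩, ⟨-1, 2⟩, ⟨1, 0⟩, ⟨1, 0⟩⟩, ⟨⟨2, 0⟩, ⟨0, 0⟩, ⟨0, 0⟩, ⟨0, 0⟩⟩, ⟨⟨0, 0⟩, ⟨0, 0⟩, ⟨2, 0⟩, ⟨0, 0⟩⟩),
  (⟨⟨2, 0⟩, ⟨0, 0⟩, ⟨0, 0⟩, ⟨0, 0⟩⟩, ⟨⟨1, 0⟩, ⟨1, -2⟩, ⟨-1, 0⟩, ⟨1, 0⟩⟩, ⟨⟨0, 0⟩, ⟨-2, 0⟩, ⟨0, 0⟩, ⟨0, 0⟩⟩),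
  (⟨⟨2, 0⟩, ⟨0, 0⟩, ⟨0, 0⟩, ⟨0, 0⟩⟩, ⟨⟨1, 0⟩, ⟨1, -2⟩, ⟨-1, 0⟩, ⟨1, 0⟩⟩, ⟨⟨0, 0⟩, ⟨2, 0⟩, ⟨0, 0⟩, ⟨0, 0⟩⟩),
  (⟨⟨2, 0⟩, ⟨0, 0⟩, ⟨0, 0⟩, ⟨0, 0⟩⟩, ⟨⟨1, 0⟩, ⟨1, -2⟩, ⟨1, 0⟩, ⟨-1, 0⟩⟩, ⟨⟨-2, 0⟩, ⟨0, 0⟩, ⟨0, 0⟩, ⟨0, 0⟩⟩),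
  (⟨⟨2, 0⟩, ⟨0, 0⟩, ⟨0, 0⟩, ⟨0, 0⟩⟩, ⟨⟨1, 0⟩, ⟨1, -2⟩, ⟨1, 0⟩, ⟨-1, 0⟩⟩, ⟨⟨2, 0⟩, ⟨0, 0⟩, ⟨0, 0⟩, ⟨0, 0⟩⟩),
  (⟨⟨1, 0⟩, ⟨-1, 2⟩, ⟨-1, 0⟩, ⟨-1, 0⟩⟩, ⟨⟨2, 0⟩, ⟨0, 0⟩, ⟨0, 0⟩, ⟨0, 0⟩⟩, ⟨⟨0, 0⟩, ⟨0, 0⟩, ⟨0, 0⟩, ⟨-2, 0⟩⟩),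
  (⟨⟨1, 0⟩, ⟨-1, 2⟩, ⟨-1, 0⟩, ⟨-1, 0⟩⟩, ⟨⟨2, 0⟩, ⟨0, 0⟩, ⟨0, 0⟩, ⟨0, 0⟩⟩, ⟨⟨0, 0⟩, ⟨0, 0⟩, ⟨0, 0⟩, ⟨2, 0⟩⟩),
  (⟨⟨1, -1⟩, ⟨-1, 1⟩, ⟨-1, 1⟩, ⟨1, -1⟩⟩, ⟨⟨0, -1⟩, ⟨0, -1⟩, ⟨0, 1⟩, ⟨0, -1⟩⟩, ⟨⟨2, 0⟩, ⟨0, 0⟩, ⟨0, 0⟩, ⟨0, 0⟩⟩),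
  (⟨⟨-1, 1⟩, ⟨1, -1⟩, ⟨1, -1⟩, ⟨-1, 1⟩⟩, ⟨⟨0, 1⟩, ⟨0, 1⟩, ⟨0, -1⟩, ⟨0, 1⟩⟩, ⟨⟨2, 0⟩, ⟨0, 0⟩, ⟨0, 0⟩, ⟨0, 0⟩⟩),
  (⟨⟨1, 0⟩, ⟨-1, 0⟩, ⟨1, 0⟩, ⟨1, -2⟩⟩, ⟨⟨2, 0⟩, ⟨0, 0⟩, ⟨0, 0⟩, ⟨0, 0⟩⟩, ⟨⟨0, 0⟩, ⟨0, 0⟩, ⟨0, 0⟩, ⟨-2, 0⟩⟩),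
  (⟨⟨1, 0⟩, ⟨-1, 0⟩, ⟨1, 0⟩, ⟨1, -2⟩⟩, ⟨⟨2, 0⟩, ⟨0, 0⟩, ⟨0, 0⟩, ⟨0, 0⟩⟩, ⟨⟨0, 0⟩, ⟨0, 0⟩, ⟨0, 0⟩, ⟨2, 0⟩⟩),
  (⟨⟨2, 0⟩, ⟨0, 0⟩, ⟨0, 0⟩, ⟨0, 0⟩⟩, ⟨⟨1, 0⟩, ⟨1, 0⟩, ⟨-1, 0⟩, ⟨1, -2⟩⟩, ⟨⟨-2, 0⟩, ⟨0, 0⟩, ⟨0, 0⟩, ⟨0, 0⟩⟩),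
  (⟨⟨2, 0⟩, ⟨0, 0⟩, ⟨0, 0⟩, ⟨0, 0⟩⟩, ⟨⟨1, 0⟩, ⟨1, 0⟩, ⟨-1, 0⟩, ⟨1, -2⟩⟩, ⟨⟨2, 0⟩, ⟨0, 0⟩, ⟨0, 0⟩, ⟨0, 0⟩⟩),
  (⟨⟨0, 1⟩, ⟨0, 1⟩, ⟨0, 1⟩, ⟨0, -1⟩⟩, ⟨⟨-1, 1⟩, ⟨-1, 1⟩, ⟨1, -1⟩, ⟨1, -1⟩⟩, ⟨⟨2, 0⟩, ⟨0, 0⟩, ⟨0, 0⟩, ⟨0, 0⟩⟩),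
  (⟨⟨0, -1⟩, ⟨0, -1⟩, ⟨0, -1⟩, ⟨0, 1⟩⟩, ⟨⟨1, -1⟩, ⟨1, -1⟩, ⟨-1, 1⟩, ⟨-1, 1⟩⟩, ⟨⟨2, 0⟩, ⟨0, 0⟩, ⟨0, 0⟩, ⟨0, 0⟩⟩),
  (⟨⟨1, 0⟩, ⟨-1, 0⟩, ⟨1, -2⟩, ⟨1, 0⟩⟩, ⟨⟨2, 0⟩, ⟨0, 0⟩, ⟨0, 0⟩, ⟨0, 0⟩⟩, ⟨⟨-2, 0⟩, ⟨0, 0⟩, ⟨0, 0⟩, ⟨0, 0⟩⟩),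
  (⟨⟨1, 0⟩, ⟨-1, 0⟩, ⟨1, -2⟩, ⟨1, 0⟩⟩, ⟨⟨2, 0⟩, ⟨0, 0⟩, ⟨0, 0⟩, ⟨0, 0⟩⟩, ⟨⟨2, 0⟩, ⟨0, 0⟩, ⟨0, 0⟩, ⟨0, 0⟩⟩),
  (⟨⟨2, 0⟩, ⟨0, 0⟩, ⟨0, 0⟩, ⟨0, 0⟩⟩, ⟨⟨1, 0⟩, ⟨1, 0⟩, ⟨-1, 2⟩, ⟨1, 0⟩⟩, ⟨⟨0, 0⟩, ⟨0, 0⟩, ⟨0, 0⟩, ⟨-2, 0⟩⟩),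
  (⟨⟨2, 0⟩, ⟨0, 0⟩, ⟨0, 0⟩, ⟨0, 0⟩⟩, ⟨⟨1, 0⟩, ⟨1, 0⟩, ⟨-1, 2⟩, ⟨1, 0⟩⟩, ⟨⟨0, 0⟩, ⟨0, 0⟩, ⟨0, 0⟩, ⟨2, 0⟩⟩),
  (⟨⟨2, 0⟩, ⟨0, 0⟩, ⟨0, 0⟩, ⟨0, 0⟩⟩, ⟨⟨1, 0⟩, ⟨1, 0⟩, ⟨1, -2⟩, ⟨-1, 0⟩⟩, ⟨⟨0, 0⟩, ⟨0, 0⟩, ⟨-2, 0⟩, ⟨0, 0⟩⟩),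
  (⟨⟨2, 0⟩, ⟨0, 0⟩, ⟨0, 0⟩, ⟨0, 0⟩⟩, ⟨⟨1, 0⟩, ⟨1, 0⟩, ⟨1, -2⟩, ⟨-1, 0⟩⟩, ⟨⟨0, 0⟩, ⟨0, 0⟩, ⟨2, 0⟩, ⟨0, 0⟩⟩),
  (⟨⟨1, 0⟩, ⟨-1, 0⟩, ⟨-1, 2⟩, ⟨-1, 0⟩⟩, ⟨⟨2, 0⟩, ⟨0, 0⟩, ⟨0, 0⟩, ⟨0, 0⟩⟩, ⟨⟨0, 0⟩, ⟨-2, 0⟩, ⟨0, 0⟩, ⟨0, 0⟩⟩),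
  (⟨⟨1, 0⟩, ⟨-1, 0⟩, ⟨-1, 2⟩, ⟨-1, 0⟩⟩, ⟨⟨2, 0⟩, ⟨0, 0⟩, ⟨0, 0⟩, ⟨0, 0⟩⟩, ⟨⟨0, 0⟩, ⟨2, 0⟩, ⟨0, 0⟩, ⟨0, 0⟩⟩),
  (⟨⟨0, 1⟩, ⟨0, -1⟩, ⟨0, 1⟩, ⟨0, 1⟩⟩, ⟨⟨-1, 1⟩, ⟨1, -1⟩, ⟨-1, 1⟩, ⟨1, -1⟩⟩, ⟨⟨2, 0⟩, ⟨0, 0⟩, ⟨0, 0⟩, ⟨0, 0⟩⟩),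
  (⟨⟨0, -1⟩, ⟨0, 1⟩, ⟨0, -1⟩, ⟨0, -1⟩⟩, ⟨⟨1, -1⟩, ⟨-1, 1⟩, ⟨1, -1⟩, ⟨-1, 1⟩⟩, ⟨⟨2, 0⟩, ⟨0, 0⟩, ⟨0, 0⟩, ⟨0, 0⟩⟩),
  (⟨⟨2, 0⟩, ⟨0, 0⟩, ⟨0, 0⟩, ⟨0, 0⟩⟩, ⟨⟨1, 0⟩, ⟨1, 0⟩, ⟨1, 0⟩, ⟨-1, 2⟩⟩, ⟨⟨0, 0⟩, ⟨-2, 0⟩, ⟨0, 0⟩, ⟨0, 0⟩⟩),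
  (⟨⟨2, 0⟩, ⟨0, 0⟩, ⟨0, 0⟩, ⟨0, 0⟩⟩, ⟨⟨1, 0⟩, ⟨1, 0⟩, ⟨1, 0⟩, ⟨-1, 2⟩⟩, ⟨⟨0, 0⟩, ⟨2, 0⟩, ⟨0, 0⟩, ⟨0, 0⟩⟩),
  (⟨⟨1, 0⟩, ⟨-1, 0⟩, ⟨-1, 0⟩, ⟨-1, 2⟩⟩, ⟨⟨2, 0⟩, ⟨0, 0⟩, ⟨0, 0⟩, ⟨0, 0⟩⟩, ⟨⟨0, 0⟩, ⟨0, 0⟩, ⟨-2, 0⟩, ⟨0, 0⟩⟩),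
  (⟨⟨1, 0⟩, ⟨-1, 0⟩, ⟨-1, 0⟩, ⟨-1, 2⟩⟩, ⟨⟨2, 0⟩, ⟨0, 0⟩, ⟨0, 0⟩, ⟨0, 0⟩⟩, ⟨⟨0, 0⟩, ⟨0, 0⟩, ⟨2, 0⟩, ⟨0, 0⟩⟩),
  (⟨⟨-1, 1⟩, ⟨-1, 1⟩, ⟨-1, 1⟩, ⟨-1, 1⟩⟩, ⟨⟨0, -1⟩, ⟨0, 1⟩, ⟨0, 1⟩, ⟨0, 1⟩⟩, ⟨⟨2, 0⟩, ⟨0, 0⟩, ⟨0, 0⟩, ⟨0, 0⟩⟩),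
  (⟨⟨1, -1⟩, ⟨1, -1⟩, ⟨1, -1⟩, ⟨1, -1⟩⟩, ⟨⟨0, 1⟩, ⟨0, -1⟩, ⟨0, -1⟩, ⟨0, -1⟩⟩, ⟨⟨2, 0⟩, ⟨0, 0⟩, ⟨0, 0⟩, ⟨0, 0⟩⟩),
  (⟨⟨2, 0⟩, ⟨0, 0⟩, ⟨0, 0⟩, ⟨0, 0⟩⟩, ⟨⟨2, 0⟩, ⟨0, 0⟩, ⟨0, 0⟩, ⟨0, 0⟩⟩, ⟨⟨-1, 0⟩, ⟨-1, 0⟩, ⟨1, 0⟩, ⟨-1, 2⟩⟩),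
  (⟨⟨2, 0⟩, ⟨0, 0⟩, ⟨0, 0⟩, ⟨0, 0⟩⟩, ⟨⟨2, 0⟩, ⟨0, 0⟩, ⟨0, 0⟩, ⟨0, 0⟩⟩, ⟨⟨-1, 0⟩, ⟨-1, 2⟩, ⟨-1, 0⟩, ⟨1, 0⟩⟩),
  (⟨⟨2, 0⟩, ⟨0, 0⟩, ⟨0, 0⟩, ⟨0, 0⟩⟩, ⟨⟨2, 0⟩, ⟨0, 0⟩, ⟨0, 0⟩, ⟨0, 0⟩⟩, ⟨⟨-1, 0⟩, ⟨1, 0⟩, ⟨-1, 2⟩, ⟨-1, 0⟩⟩),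
  (⟨⟨2, 0⟩, ⟨0, 0⟩, ⟨0, 0⟩, ⟨0, 0⟩⟩, ⟨⟨2, 0⟩, ⟨0, 0⟩, ⟨0, 0⟩, ⟨0, 0⟩⟩, ⟨⟨-1, 2⟩, ⟨1, 0⟩, ⟨1, 0⟩, ⟨1, 0⟩⟩),
  (⟨⟨2, 0⟩, ⟨0, 0⟩, ⟨0, 0⟩, ⟨0, 0⟩⟩, ⟨⟨2, 0⟩, ⟨0, 0⟩, ⟨0, 0⟩, ⟨0, 0⟩⟩, ⟨⟨1, -2⟩, ⟨-1, 0⟩, ⟨-1, 0⟩, ⟨-1, 0⟩⟩),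
  (⟨⟨2, 0⟩, ⟨0, 0⟩, ⟨0, 0⟩, ⟨0, 0⟩⟩, ⟨⟨2, 0⟩, ⟨0, 0⟩, ⟨0, 0⟩, ⟨0, 0⟩⟩, ⟨⟨1, 0⟩, ⟨-1, 0⟩, ⟨1, -2⟩, ⟨1, 0⟩⟩),
  (⟨⟨2, 0⟩, ⟨0, 0⟩, ⟨0, 0⟩, ⟨0, 0⟩⟩, ⟨⟨2, 0⟩, ⟨0, 0⟩, ⟨0, 0⟩, ⟨0, 0⟩⟩, ⟨⟨1, 0⟩, ⟨1, -2⟩, ⟨1, 0⟩, ⟨-1, 0⟩⟩),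
  (⟨⟨2, 0⟩, ⟨0, 0⟩, ⟨0, 0⟩, ⟨0, 0⟩⟩, ⟨⟨2, 0⟩, ⟨0, 0⟩, ⟨0, 0⟩, ⟨0, 0⟩⟩, ⟨⟨1, 0⟩, ⟨1, 0⟩, ⟨-1, 0⟩, ⟨1, -2⟩⟩),
  (⟨⟨1, -2⟩, ⟨1, 0⟩, ⟨1, 0⟩, ⟨1, 0⟩⟩, ⟨⟨1, -2⟩, ⟨1, 0⟩, ⟨1, 0⟩, ⟨1, 0⟩⟩, ⟨⟨0, 0⟩, ⟨0, 0⟩, ⟨0, 0⟩, ⟨0, 0⟩⟩)]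

/-- Line and unit of each permuted normalised vector. -/
def certTab : List (ℕ × ℕ) :=
  [
  (0, 157), (0, 156), (0, 166), (0, 148), (0, 163), (0, 151), (0, 149), (0, 164),
  (0, 165), (0, 150), (0, 310), (0, 312), (0, 309), (0, 307), (0, 306), (0, 311),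
  (0, 308), (0, 313), (0, 191), (0, 188), (0, 186), (0, 189), (0, 185), (0, 190),
  (0, 192), (0, 187), (0, 4), (0, 2), (0, 5), (0, 7), (0, 8), (0, 3),
  (0, 6), (0, 1), (0, 123), (0, 126), (0, 128), (0, 125), (0, 129), (0, 124),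
  (0, 122), (0, 127), (0, 142), (0, 147), (0, 145), (0, 140), (0, 141), (0, 144),
  (0, 146), (0, 143), (0, 183), (0, 181), (0, 176), (0, 178), (0, 177), (0, 180),
  (0, 182), (0, 179), (0, 131), (0, 133), (0, 138), (0, 136), (0, 137), (0, 134),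
  (0, 132), (0, 135), (0, 172), (0, 167), (0, 169), (0, 174), (0, 173), (0, 170),
  (0, 168), (0, 171), (0, 207), (0, 206), (0, 119), (0, 120), (0, 114), (0, 113),
  (0, 107), (0, 108), (0, 110), (0, 109), (0, 195), (0, 194), (0, 200), (0, 201),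
  (0, 204), (0, 205), (0, 156), (0, 157), (0, 166), (3, 148), (39, 151), (60, 163),
  (79, 165), (84, 150), (99, 149), (104, 164), (0, 211), (0, 279), (0, 103), (0, 35),
  (0, 27), (0, 257), (0, 57), (0, 287), (0, 98), (0, 37), (0, 216), (0, 277),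
  (0, 250), (0, 301), (0, 64), (0, 13), (0, 210), (0, 278), (0, 104), (0, 36),
  (0, 28), (0, 256), (0, 58), (0, 286), (0, 97), (0, 38), (0, 217), (0, 276),
  (0, 251), (0, 300), (0, 63), (0, 14), (0, 91), (0, 267), (0, 223), (0, 47),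
  (0, 292), (0, 52), (0, 22), (0, 262), (0, 94), (0, 273), (0, 220), (0, 41),
  (0, 244), (0, 295), (0, 70), (0, 19), (0, 93), (0, 272), (0, 221), (0, 42),
  (0, 245), (0, 294), (0, 69), (0, 20), (0, 92), (0, 266), (0, 222), (0, 48),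
  (0, 293), (0, 51), (0, 21), (0, 263), (0, 80), (0, 234), (0, 240), (0, 74),
  (0, 231), (0, 83), (0, 79), (0, 235), (0, 229), (0, 85), (0, 241), (0, 73),
  (0, 230), (0, 84), (0, 228), (0, 86), (0, 158), (0, 156), (0, 162), (0, 152),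
  (0, 159), (0, 155), (0, 153), (0, 160), (0, 161), (0, 154), (0, 310), (0, 312),
  (0, 309), (0, 307), (0, 306), (0, 311), (0, 308), (0, 313), (1, 125), (1, 123),
  (1, 126), (1, 128), (1, 127), (1, 129), (1, 124), (1, 122), (3, 5), (3, 7),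
  (3, 4), (3, 2), (3, 1), (3, 6), (3, 3), (3, 8), (7, 188), (7, 186),
  (7, 189), (7, 191), (7, 190), (7, 192), (7, 187), (7, 185), (108, 170), (108, 173),
  (108, 171), (108, 168), (108, 174), (108, 169), (108, 167), (108, 172), (115, 134), (115, 137),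
  (115, 135), (115, 132), (115, 136), (115, 138), (115, 133), (115, 131), (116, 179), (116, 182),
  (116, 180), (116, 177), (116, 181), (116, 183), (116, 178), (116, 176), (119, 143), (119, 146),
  (119, 144), (119, 141), (119, 147), (119, 142), (119, 140), (119, 145), (0, 196), (0, 197),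
  (0, 106), (0, 105), (0, 112), (0, 111), (0, 117), (0, 118), (0, 116), (0, 115),
  (0, 209), (0, 208), (0, 203), (0, 202), (0, 199), (0, 198), (0, 158), (0, 157),
  (0, 314), (0, 0), (0, 175), (0, 139), (0, 121), (0, 184), (0, 193), (0, 130),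
  (0, 211), (0, 279), (0, 103), (0, 35), (0, 27), (0, 257), (0, 57), (0, 287),
  (1, 276), (1, 97), (1, 38), (1, 217), (1, 14), (1, 251), (1, 300), (1, 63),
  (3, 104), (3, 36), (3, 210), (3, 278), (3, 286), (3, 58), (3, 256), (3, 28),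
  (7, 37), (7, 216), (7, 277), (7, 98), (7, 301), (7, 64), (7, 13), (7, 250),
  (108, 51), (108, 293), (108, 263), (108, 21), (108, 48), (108, 222), (108, 266), (108, 92),
  (115, 294), (115, 245), (115, 20), (115, 69), (115, 42), (115, 221), (115, 272), (115, 93),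
  (116, 19), (116, 70), (116, 295), (116, 244), (116, 273), (116, 94), (116, 41), (116, 220),
  (119, 262), (119, 22), (119, 52), (119, 292), (119, 267), (119, 91), (119, 47), (119, 223),
  (0, 288), (0, 26), (0, 72), (0, 242), (0, 299), (0, 15), (0, 25), (0, 289),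
  (0, 265), (0, 49), (0, 243), (0, 71), (0, 16), (0, 298), (0, 50), (0, 264),
  (0, 156), (0, 158), (0, 162), (3, 152), (39, 155), (60, 159), (79, 161), (84, 154),
  (99, 153), (104, 160), (0, 225), (0, 269), (0, 90), (0, 46), (0, 54), (0, 291),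
  (0, 24), (0, 261), (0, 96), (0, 44), (0, 219), (0, 271), (0, 297), (0, 247),
  (0, 18), (0, 68), (0, 224), (0, 268), (0, 89), (0, 45), (0, 53), (0, 290),
  (0, 23), (0, 260), (0, 95), (0, 43), (0, 218), (0, 270), (0, 296), (0, 246),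
  (0, 17), (0, 67), (0, 101), (0, 280), (0, 212), (0, 33), (0, 254), (0, 29),
  (0, 59), (0, 284), (0, 100), (0, 275), (0, 215), (0, 40), (0, 303), (0, 253),
  (0, 12), (0, 62), (0, 99), (0, 274), (0, 214), (0, 39), (0, 302), (0, 252),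
  (0, 11), (0, 61), (0, 102), (0, 281), (0, 213), (0, 34), (0, 255), (0, 30),
  (0, 60), (0, 285), (0, 82), (0, 233), (0, 226), (0, 87), (0, 236), (0, 77),
  (0, 81), (0, 232), (0, 238), (0, 75), (0, 227), (0, 88), (0, 237), (0, 78),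
  (0, 239), (0, 76), (0, 157), (0, 158), (0, 314), (3, 0), (39, 139), (60, 175),
  (79, 193), (84, 130), (99, 121), (104, 184), (0, 225), (0, 269), (0, 90), (0, 46),
  (0, 54), (0, 291), (0, 24), (0, 261), (1, 270), (1, 95), (1, 43), (1, 218),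
  (1, 67), (1, 296), (1, 246), (1, 17), (3, 89), (3, 45), (3, 224), (3, 268),
  (3, 260), (3, 23), (3, 290), (3, 53), (7, 44), (7, 219), (7, 271), (7, 96),
  (7, 247), (7, 18), (7, 68), (7, 297), (108, 30), (108, 255), (108, 285), (108, 60),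
  (108, 34), (108, 213), (108, 281), (108, 102), (115, 252), (115, 302), (115, 61), (115, 11),
  (115, 39), (115, 214), (115, 274), (115, 99), (116, 62), (116, 12), (116, 253), (116, 303),
  (116, 275), (116, 100), (116, 40), (116, 215), (119, 284), (119, 59), (119, 29), (119, 254),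
  (119, 280), (119, 101), (119, 33), (119, 212), (0, 259), (0, 56), (0, 9), (0, 304),
  (0, 248), (0, 65), (0, 55), (0, 258), (0, 282), (0, 31), (0, 305), (0, 10),
  (0, 66), (0, 249), (0, 32), (0, 283)]

end CfsgLib.Ico
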