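import Cfsg.Agent.Lib.Ico.Minimal
import Cfsg.Agent.Lib.Ico.KeyData

/-! The 315 lines and their reflections. -/

set_option autoImplicit false

namespace CfsgLib.Ico

open Cfsg.Spor Quaternion

/-- Packing of the coordinates of one quaternion. -/
def packQ (q : Q) : ℕ :=
  ((((((((q.re.re + 64).toNat) * 128 + (q.re.im + 64).toNat) * 128 + (q.imI.re + 64).toNat) * 128 + (q.imI.im + 64).toNat) * 128 + (q.imJ.re + 64).toNat) * 128 + (q.imJ.im + 64).toNat) * 128 + (q.imK.re + 64).toNat) * 128 + (q.imK.im + 64).toNat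

/-- Key of a line. -/
def key (t : T) : ℕ :=
  (((packQ (mulF (star t.1) t.2.1) * 72057594037927936 + packQ (mulF (star t.2.1) t.2.2)) *
    72057594037927936 + packQ (mulF (star t.1) t.2.2)) * 72057594037927936 +
    packQ (mulF (star t.1) t.1)) * 72057594037927936 + packQ (mulF (star t.2.1) t.2.1)

/-- Agreement of the keys with stored values. -/
def keysB : List T → List ℕ → Bool
  | [], [] => true
  | t :: ts, k :: ks => Nat.beq (key t) k && keysB ts ks
  | _, _ => false

theorem map_key_of_keysB : ∀ {ts : List T} {ks : List ℕ}, keysB ts ks = true → ts.map key = ks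
  | [], [], _ => rfl
  | [], _ :: _, h => by simp [keysB] at h
  | _ :: _, [], h => by simp [keysB] at h
  | t :: ts, k :: ks, h => by
    rw [keysB, Bool.and_eq_true, Nat.beq_eq] at h
    rw [List.map_cons, h.1, map_key_of_keysB h.2]

theorem key_checks : keysB repTab keyTab = true := by decide +kernel

/-- Strict increase, as a Boolean. -/
def incB : ℕ → List ℕ → Bool
  | _, [] => true
  | p, x :: l => Nat.blt p x && incB x l

theorem incB_spec : ∀ {l : List ℕ} {p : ℕ}, incB p l = true → (∀ y ∈ l, p < y) ∧ l.Pairwise (· < ·)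
  | [], _, _ => ⟨by simp, List.Pairwise.nil⟩
  | x :: l, p, h => by
    rw [incB, Bool.and_eq_true, Nat.blt_eq] at h
    obtain ⟨h1, h2⟩ := incB_spec h.2
    exact ⟨List.forall_mem_cons.2 ⟨h.1, fun y hy => h.1.trans (h1 y hy)⟩, List.pairwise_cons.2 ⟨h1, h2⟩⟩

theorem keyTab_checks : (incB 0 keyTab && Nat.beq keyTab.length 315) = true := by decide +kernel

theorem keyTab_nodup : keyTab.Nodup ∧ keyTab.length = 315 := by
  have h := keyTab_checks
  rw [Bool.and_eq_true, Nat.beq_eq] at h
  exact ⟨(incB_spec h.1).2.imp fun hxy => Nat.ne_of_lt hxy, h.2⟩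

theorem repTab_length : repTab.length = 315 := by
  rw [← keyTab_nodup.2, ← map_key_of_keysB key_checks, List.length_map]

theorem rep_eq_getElem {i : ℕ} (hi : i < 315) : rep i = repTab[i]'(repTab_length ▸ hi) :=
  List.getD_eq_getElem (hn := repTab_length ▸ hi) (d := (0, 0, 0))

theorem key_injective {i j : ℕ} (hi : i < 315) (hj : j < 315) (h : key (rep i) = key (rep j)) : i = j := by
  have hn : (repTab.map key).Nodup := by rw [map_key_of_keysB key_checks]; exact keyTab_nodup.1
  rw [rep_eq_getElem hi, rep_eq_getElem hj] at h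
  refine (List.Nodup.getElem_inj_iff hn (hi := by rw [List.length_map, repTab_length]; exact hi)
    (hj := by rw [List.length_map, repTab_length]; exact hj)).1 ?_
  rw [List.getElem_map, List.getElem_map]
  exact h

theorem nsum_rep_checks : repTab.all (fun t => nsum t == 16) = true := by decide +kernel

theorem nsum_rep {i : ℕ} (hi : i < 315) : nsum (rep i) = 16 := by
  rw [rep_eq_getElem hi]
  exact eq_of_beq (List.all_eq_true.1 nsum_rep_checks _ (List.getElem_mem _))

/-- A representative as a lattice vector. -/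
noncomputable def repV (i : Fin 315) : icoLeech := ⟨embV (rep i), embV_mem (inL_rep i.2)⟩

theorem qip_repV (i : Fin 315) : qip (repV i : Fin 3 → ℍ[ℝ]) (repV i) = 4 :=
  (qip_embV_iff _).2 (nsum_rep i.2)

/-- The reflection of a line. -/
noncomputable def lineRefl (i : Fin 315) : Equiv.Perm icoLeech := reflPerm (repV i) (qip_repV i)

theorem isIcoReflection_lineRefl (i : Fin 315) : IsIcoReflection (lineRefl i) :=
  isIcoReflection_iff.2 ⟨_, _, rfl⟩

/-- A coordinate axis vector. -/
def axisT : Fin 3 → T := ![(4, 0, 0), (0, 4, 0), (0, 0, 4)]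

theorem inL_axisT : ∀ s, InL (axisT s) = true := by decide +kernel

theorem emb_four : emb (4 : Q) = 2 := by
  rw [show (4 : Q) = 2 + 2 by norm_num, emb_add, emb_two, one_add_one_eq_two]

theorem embV_axisT (s t : Fin 3) : embV (axisT s) t = if t = s then 2 else 0 := by
  fin_cases s <;> fin_cases t <;> simp [embV, axisT, emb_four, emb_zero]

theorem qrefl_axis (r : Fin 3 → ℍ[ℝ]) (s t : Fin 3) :
    qrefl r (embV (axisT s)) t = embV (axisT s) t - star (r s) * r t := by
  have h : qip (embV (axisT s)) r = 2 * star (r s) := by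
    simp only [qip, embV_axisT, ite_mul, zero_mul, Finset.sum_ite_eq', Finset.mem_univ, if_true]
  show embV (axisT s) t - ((1 / 2 : ℝ) • qip (embV (axisT s)) r) * r t = _
  rw [h, half_smul_two_mul]

theorem key_eq_of_refl {a b : T} (ha : InL a = true) (hb : InL b = true)
    (h : ∀ x : icoLeech, qrefl (embV a) x = qrefl (embV b) x) : key a = key b := by
  have h' : ∀ s t, star (embV a s) * embV a t = star (embV b s) * embV b t := fun s t => by
    have := congrFun (h ⟨_, embV_mem (inL_axisT s)⟩) t
    rw [qrefl_axis, qrefl_axis] at this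
    exact sub_right_injective this
  obtain ⟨a0, a1, a2, -⟩ := (inL_iff _).1 ha
  obtain ⟨b0, b1, b2, -⟩ := (inL_iff _).1 hb
  have conv : ∀ {x y x' y' : Q}, InP x = true → InP y = true → InP x' = true → InP y' = true →
      star (emb x) * emb y = star (emb x') * emb y' → mulF (star x) y = mulF (star x') y' := by
    intro x y x' y' hx hy hx' hy' e
    rw [← mulP_eq, ← mulP_eq]
    refine emb_injective ?_
    rw [emb_mulP (inP_star hx) hy, emb_mulP (inP_star hx') hy', emb_star, emb_star, e]
  have e01 := conv a0 a1 b0 b1 (by simpa [embV] using h' 0 1)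
  have e12 := conv a1 a2 b1 b2 (by simpa [embV] using h' 1 2)
  have e02 := conv a0 a2 b0 b2 (by simpa [embV] using h' 0 2)
  have e00 := conv a0 a0 b0 b0 (by simpa [embV] using h' 0 0)
  have e11 := conv a1 a1 b1 b1 (by simpa [embV] using h' 1 1)
  simp only [key, e01, e12, e02, e00, e11]

theorem lineRefl_injective : Function.Injective lineRefl := fun i j h =>
  Fin.ext (key_injective i.2 j.2 (key_eq_of_refl (inL_rep i.2) (inL_rep j.2) fun x =>
    congrArg (fun f : Equiv.Perm icoLeech => (f x : Fin 3 → ℍ[ℝ])) h))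

theorem star_unit_mul {k : ℕ} (hk : k < 120) : star (emb (unit k)) * emb (unit k) = 1 := by
  rw [← emb_star, ← emb_mulP (inP_star (inP_unit hk)) (inP_unit hk), mulP_star_unit hk, emb_two]

theorem qrefl_mulT {k : ℕ} (hk : k < 120) {t : T} (ht : InL t = true) (x : Fin 3 → ℍ[ℝ]) :
    qrefl (embV (mulT (unit k) t)) x = qrefl (embV t) x := by
  rw [embV_mulT (inP_unit hk) ht]
  exact qrefl_scalar (star_unit_mul hk) _ _

/-- Shortest vectors as indexed by units and lines. -/
noncomputable def minVec (p : Fin 120 × Fin 315) : Fin 3 → ℍ[ℝ] := embV (mulT (unit p.1) (rep p.2))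

theorem minSet_eq : {r : Fin 3 → ℍ[ℝ] | r ∈ icoLeech ∧ qip r r = 4} = Set.range minVec := by
  ext r
  simp only [Set.mem_ofPred_eq, Set.mem_range]
  constructor
  · rintro ⟨hr, h4⟩
    obtain ⟨t, ht, rfl⟩ := mem_icoLeech_iff.1 hr
    obtain ⟨k, hk, i, hi, rfl⟩ := exists_rep ht ((qip_embV_iff t).1 h4)
    exact ⟨(⟨k, hk⟩, ⟨i, hi⟩), rfl⟩
  · rintro ⟨⟨k, i⟩, rfl⟩
    refine ⟨embV_mem (inL_mulT (inP_unit k.2) (inL_rep i.2)), (qip_embV_iff _).2 ?_⟩
    rw [nsum_mulT (inP_unit k.2) (nrm_unit k.2) (inL_rep i.2), nsum_rep i.2]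

/-- Pairwise distinctness, as a Boolean. -/
def ndB : List ℕ → Bool
  | [] => true
  | x :: l => l.all (fun y => !Nat.beq x y) && ndB l

theorem nodup_of_ndB : ∀ {l : List ℕ}, ndB l = true → l.Nodup
  | [], _ => List.nodup_nil
  | x :: l, h => by
    rw [ndB, Bool.and_eq_true, List.all_eq_true] at h
    refine List.nodup_cons.2 ⟨fun hx => ?_, nodup_of_ndB h.2⟩
    have := h.1 x hx
    simp at this

theorem unitTab_checks : ndB (unitTab.map packQ) = true := by decide +kernel

theorem unitTab_nodup : unitTab.Nodup := (nodup_of_ndB unitTab_checks).of_map _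

theorem minVec_injective : Function.Injective minVec := by
  rintro ⟨k, i⟩ ⟨l, j⟩ h
  obtain rfl : i = j := lineRefl_injective (Equiv.ext fun x => Subtype.ext (by
    have hh : qrefl (minVec (k, i)) x = qrefl (minVec (l, j)) x := by rw [h]
    rw [minVec, minVec, qrefl_mulT k.2 (inL_rep i.2), qrefl_mulT l.2 (inL_rep j.2)] at hh
    exact hh))
  have e : ∀ t, (emb (unit k) - emb (unit l)) * embV (rep i) t = 0 := fun t => by
    have := congrFun h t
    rw [minVec, minVec, embV_mulT (inP_unit k.2) (inL_rep i.2),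
      embV_mulT (inP_unit l.2) (inL_rep i.2)] at this
    rw [sub_mul, sub_eq_zero]
    exact this
  have he : emb (unit k) = emb (unit l) := by
    by_contra hne
    have h0 : embV (rep i) = 0 := funext fun t =>
      (mul_eq_zero.1 (e t)).resolve_left (sub_ne_zero.2 hne)
    have h4 := (qip_embV_iff _).2 (nsum_rep i.2)
    rw [h0] at h4
    have := congrArg QuaternionAlgebra.re h4
    rw [show (4 : ℍ[ℝ]) = (((4 : ℝ)) : ℍ[ℝ]) from (map_ofNat (algebraMap ℝ ℍ[ℝ]) 4).symm] at this
    simp [qip] at this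
  have hk := emb_injective he
  rw [unit, unit, List.getD_eq_getElem (hn := by rw [unitTab_length]; exact k.2),
    List.getD_eq_getElem (hn := by rw [unitTab_length]; exact l.2)] at hk
  rw [Fin.ext ((List.Nodup.getElem_inj_iff unitTab_nodup).1 hk)]

theorem reflSet_eq : {f : Equiv.Perm icoLeech | IsIcoReflection f} = Set.range lineRefl := by
  ext f
  simp only [Set.mem_ofPred_eq, Set.mem_range]
  constructor
  · intro hf
    obtain ⟨r, h4, rfl⟩ := isIcoReflection_iff.1 hf
    have hr : (r : Fin 3 → ℍ[ℝ]) ∈ Set.range minVec := minSet_eq ▸ ⟨r.2, h4⟩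
    obtain ⟨⟨k, i⟩, e⟩ := hr
    refine ⟨i, Equiv.ext fun x => Subtype.ext ?_⟩
    rw [lineRefl, reflPerm_apply, reflPerm_apply, ← e, minVec, qrefl_mulT k.2 (inL_rep i.2)]
    rfl
  · rintro ⟨i, rfl⟩
    exact isIcoReflection_lineRefl i

end CfsgLib.Ico
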