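import Cfsg.Agent.Lib.Ico.MinimalChecks

/-! Classification of the shortest vectors of the icosian lattice. -/

set_option autoImplicit false

namespace CfsgLib.Ico

open Cfsg.Spor Quaternion

/-- Exchange of the first two entries. -/
def swapA : T → T | (a, b, c) => (b, a, c)

/-- Exchange of the last two entries. -/
def swapB : T → T | (a, b, c) => (a, c, b)

/-- Covered by the table. -/
def Cov (t : T) : Prop := ∃ k < 120, ∃ j < 90, ∃ p < 6, t = mulT (unit k) (permT p (cand j))

theorem inL_swapA {t : T} (h : InL t = true) : InL (swapA t) = true := by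
  obtain ⟨a, b, c⟩ := t
  obtain ⟨h0, h1, h2, k1, k2, k3⟩ := (inL_iff _).1 h
  refine (inL_iff _).2 ⟨h1, h0, h2, ?_, ?_, ?_⟩
  · have := inIdeal_neg k1
    rwa [neg_sub] at this
  · have := inIdeal_add k1 k2
    rwa [sub_add_sub_cancel] at this
  · rwa [show swapA (a, b, c) = (b, a, c) from rfl, show b + a + c = a + b + c by abel]

theorem inL_swapB {t : T} (h : InL t = true) : InL (swapB t) = true := by
  obtain ⟨a, b, c⟩ := t
  obtain ⟨h0, h1, h2, k1, k2, k3⟩ := (inL_iff _).1 h
  refine (inL_iff _).2 ⟨h0, h2, h1, ?_, ?_, ?_⟩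
  · have := inIdeal_add k1 k2
    rwa [sub_add_sub_cancel] at this
  · have := inIdeal_neg k2
    rwa [neg_sub] at this
  · rwa [show swapB (a, b, c) = (a, c, b) from rfl, show a + c + b = a + b + c by abel]

theorem nsum_swapA (t : T) : nsum (swapA t) = nsum t := by
  obtain ⟨a, b, c⟩ := t; simp only [nsum, swapA]; ring

theorem nsum_swapB (t : T) : nsum (swapB t) = nsum t := by
  obtain ⟨a, b, c⟩ := t; simp only [nsum, swapB]; ring

theorem cov_swapA {t : T} (h : Cov (swapA t)) : Cov t := by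
  obtain ⟨k, hk, j, hj, p, hp, e⟩ := h
  have e' : t = mulT (unit k) (swapA (permT p (cand j))) := by
    obtain ⟨a, b, c⟩ := t
    exact congrArg swapA e
  refine ⟨k, hk, j, hj, ([2, 4, 0, 5, 1, 3] : List ℕ).getD p 0, ?_, e'.trans ?_⟩
  · interval_cases p <;> decide
  · interval_cases p <;> rfl

theorem cov_swapB {t : T} (h : Cov (swapB t)) : Cov t := by
  obtain ⟨k, hk, j, hj, p, hp, e⟩ := h
  have e' : t = mulT (unit k) (swapB (permT p (cand j))) := by
    obtain ⟨a, b, c⟩ := t
    exact congrArg swapB e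
  refine ⟨k, hk, j, hj, ([1, 0, 3, 2, 5, 4] : List ℕ).getD p 0, ?_, e'.trans ?_⟩
  · interval_cases p <;> decide
  · interval_cases p <;> rfl

theorem inL_swapA' {a b c : Q} (h : InL (a, b, c) = true) : InL (b, a, c) = true := by
  simpa only [swapA] using inL_swapA h

theorem inL_swapB' {a b c : Q} (h : InL (a, b, c) = true) : InL (a, c, b) = true := by
  simpa only [swapB] using inL_swapB h

theorem nsum_swapA' (a b c : Q) : nsum (b, a, c) = nsum (a, b, c) := by
  simpa only [swapA] using nsum_swapA (a, b, c)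

theorem nsum_swapB' (a b c : Q) : nsum (a, c, b) = nsum (a, b, c) := by
  simpa only [swapB] using nsum_swapB (a, b, c)

theorem cov_swapA' {a b c : Q} (h : Cov (b, a, c)) : Cov (a, b, c) := cov_swapA (t := (a, b, c)) (by simpa only [swapA] using h)

theorem cov_swapB' {a b c : Q} (h : Cov (a, c, b)) : Cov (a, b, c) := cov_swapB (t := (a, b, c)) (by simpa only [swapB] using h)

theorem cover_spec {p j : ℕ} (hp : p < 6) (hj : j < 90) : InL (permT p (cand j)) = true ∧
    ∃ k < 120, ∃ i < 315, permT p (cand j) = mulT (unit k) (rep i) := by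
  have h := cover_checks
  simp only [List.all_eq_true, List.mem_range, coverB, Bool.and_eq_true, Nat.blt_eq, beq_iff_eq] at h
  obtain ⟨⟨⟨a, b⟩, c⟩, d⟩ := h p hp j hj
  exact ⟨(inL_eq _).trans a, _, b, _, c, d.trans (mulT_eq _ _).symm⟩

theorem cov_scale {t : T} {k : ℕ} (hk : k < 120) (ht : InL t = true)
    (h : Cov (mulT (star (unit k)) t)) : Cov t := by
  obtain ⟨l, hl, j, hj, p, hp, e⟩ := h
  obtain ⟨m, hm, e'⟩ := exists_unit_mul hk hl
  refine ⟨m, hm, j, hj, p, hp, ?_⟩
  rw [← unit_star_mulT hk ht, e, mulT_mulT (inP_unit hk) (inP_unit hl) (cover_spec hp hj).1, e']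

theorem cov_of_mem {t : T} (h : t ∈ candTab) : Cov t := by
  obtain ⟨j, hj, rfl⟩ := List.mem_iff_getElem.1 h
  have hl : candTab.length = 90 := by decide +kernel
  refine ⟨0, by norm_num, j, hl ▸ hj, 0, by norm_num, ?_⟩
  have hc : permT 0 (cand j) = candTab[j] := by
    rw [cand, List.getD_eq_getElem (hn := hj)]; rfl
  rw [show unit 0 = 2 by decide +kernel, hc, mulT_two]
  rw [← hc]
  exact (cover_spec (by norm_num) (hl ▸ hj)).1

theorem nrm_tau_unit {k : ℕ} (hk : k < 120) : (nrm (tauQ * unit k)).re = 4 ∧ (nrm (tauQ * unit k)).im = 4 := by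
  have : nrm (tauQ * unit k) = (⟨4, 4⟩ : Zt) := by
    rw [nrm, map_mul, show Quaternion.normSq (unit k) = 4 from nrm_unit hk,
      show Quaternion.normSq tauQ = (⟨1, 1⟩ : Zt) from nrm_tauQ]
    decide
  rw [this]; exact ⟨rfl, rfl⟩

theorem nsum_components {t : T} (h : nsum t = 16) :
    (nrm t.1).re + (nrm t.2.1).re + (nrm t.2.2).re = 16 ∧
    (nrm t.1).im + (nrm t.2.1).im + (nrm t.2.2).im = 0 := by
  have h1 := congrArg QuadraticAlgebra.re h
  have h2 := congrArg QuadraticAlgebra.im h
  simp only [nsum, QuadraticAlgebra.re_add, QuadraticAlgebra.im_add] at h1 h2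
  exact ⟨h1.trans rfl, h2.trans rfl⟩

theorem mulP_assoc' {x y z : Q} (hx : InP x = true) (hy : InP y = true) (hz : InP z = true) :
    mulP x (mulP y z) = mulP (mulP x y) z := by
  refine emb_injective ?_
  rw [emb_mulP hx (mulP_spec hy hz).2, emb_mulP (mulP_spec hx hy).2 hz, emb_mulP hx hy, emb_mulP hy hz,
    mul_assoc]

theorem mulP_star_unit {k : ℕ} (hk : k < 120) : mulP (star (unit k)) (unit k) = 2 := by
  obtain ⟨l, hl, e⟩ := exists_unit_star hk
  have h := unit_mul_star hl
  rw [← e, star_star] at h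
  rw [mulP, h]; decide +kernel

theorem mulP_two_left (x : Q) : mulP 2 x = x := halve_two_mul x

theorem mulP_zero' (x : Q) : mulP x 0 = 0 := by rw [mulP, mul_zero]; rfl

/-- The case of a zero first entry and a zero last entry. -/
theorem cov_axis {b : Q} (hL : InL (0, b, 0) = true) (hn : nsum (0, b, 0) = 16) : Cov (0, b, 0) := by
  obtain ⟨-, hb, -, k1, k2, k3⟩ := (inL_iff _).1 hL
  simp only [zero_add, add_zero, sub_zero] at k2 k3
  obtain ⟨q, hq, rfl⟩ := exists_two_mul hb k2 k3
  obtain ⟨k, hk, rfl⟩ := exists_unit hq (by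
    refine four_cancel ?_
    have e : nrm (2 * q) = 4 * nrm q := by
      rw [nrm, map_mul, show Quaternion.normSq (2 : Q) = (4 : Zt) by decide +kernel]
    have z : nrm (0 : Q) = 0 := map_zero _
    simp only [nsum, e, z, zero_add, add_zero] at hn
    rw [hn]; norm_num)
  refine ⟨k, hk, 0, by norm_num, 0, by norm_num, ?_⟩
  have e : mulP (unit k) 4 = 2 * unit k := by
    rw [mulP, show unit k * 4 = 2 * (2 * unit k) by noncomm_ring, halve_two_mul]
  show (0, 2 * unit k, 0) = (mulP (unit k) 0, mulP (unit k) 4, mulP (unit k) 0)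
  rw [mulP_zero', e]

set_option maxHeartbeats 600000 in
/-- The case of a zero first entry. -/
theorem cov_zero {b c : Q} (hL : InL (0, b, c) = true) (hn : nsum (0, b, c) = 16) : Cov (0, b, c) := by
  obtain ⟨-, hb, hc, k1, k2, k3⟩ := (inL_iff _).1 hL
  have hbI : inIdeal genH b = true := by
    have := inIdeal_neg k1
    rwa [neg_sub, sub_zero] at this
  have hcI : inIdeal genH c = true := by
    have := inIdeal_add hbI (inIdeal_neg k2)
    rwa [neg_sub, add_sub_cancel] at this
  obtain ⟨A, hA, eA⟩ := inIdeal_iff.1 hbI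
  obtain ⟨C, hC, eC⟩ := inIdeal_iff.1 hcI
  replace eA := eq_of_inIdeal idealGen_genH.1 eA
  replace eC := eq_of_inIdeal idealGen_genH.1 eC
  have hH : nrm genH = 8 := by decide +kernel
  have nA := nrm_mul eA
  have nC := nrm_mul eC
  rw [hH] at nA nC
  obtain ⟨r, i⟩ := nsum_components hn
  have comp : ∀ {x y : Zt}, x * 8 = 4 * y → y.re = 2 * x.re ∧ y.im = 2 * x.im := by
    intro x y h
    have h1 := congrArg QuadraticAlgebra.re h
    have h2 := congrArg QuadraticAlgebra.im h
    rw [show x * 8 = 4 * (2 * x) by ring, (four_mul_re_im _).1, (four_mul_re_im _).1,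
      (two_mul_re_im _).1] at h1
    rw [show x * 8 = 4 * (2 * x) by ring, (four_mul_re_im _).2, (four_mul_re_im _).2,
      (two_mul_re_im _).2] at h2
    omega
  obtain ⟨rA, iA⟩ := comp nA
  obtain ⟨rC, iC⟩ := comp nC
  simp only [show nrm (0 : Q) = 0 from map_zero _, QuadraticAlgebra.re_zero, QuadraticAlgebra.im_zero,
    zero_add] at r i
  have h0 := nrm_re_nonneg A
  have h1 := nrm_re_nonneg C
  have h2 := (nrm_emod_four hA).1
  have h3 := (nrm_emod_four hC).1
  rcases (by omega : (nrm C).re = 0 ∨ (nrm A).re = 0 ∨ ((nrm A).re = 4 ∧ (nrm C).re = 4)) with h | h | ⟨ha, hc'⟩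
  · obtain rfl : c = 0 := eq_zero_of_nrm_re (by omega)
    exact cov_axis hL hn
  · obtain rfl : b = 0 := eq_zero_of_nrm_re (by omega)
    exact cov_swapB' (cov_axis (inL_swapB' hL) ((nsum_swapB' _ _ _).trans hn))
  obtain ⟨k, hk, e⟩ := exists_unit_or_tau hA ha
  obtain ⟨l, hl, e'⟩ := exists_unit_or_tau hC hc'
  have hu : ∀ m, m < 120 → (nrm (unit m)).im = 0 := fun m hm => by rw [nrm_unit hm]; rfl
  obtain ⟨rfl, rfl⟩ : A = unit k ∧ C = unit l := by
    rcases e with rfl | rfl <;> rcases e' with rfl | rfl <;>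
      have u1 := hu k hk <;> have u2 := hu l hl <;> have t1 := (nrm_tau_unit hk).2 <;>
      have t2 := (nrm_tau_unit hl).2 <;> first | exact ⟨rfl, rfl⟩ | (exfalso; omega)
  have eb : mulP (unit k) genH = b := by rw [mulP, eA, halve_two_mul]
  have ec : mulP (unit l) genH = c := by rw [mulP, eC, halve_two_mul]
  refine cov_scale hk hL ?_
  have hs := inP_star (inP_unit hk)
  obtain ⟨s, hs', es⟩ := exists_unit_star hk
  obtain ⟨m, hm, em⟩ := exists_unit_mul hs' hl
  have e3 : mulT (star (unit k)) (0, b, c) = (0, genH, mulP (unit m) genH) := by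
    simp only [mulT, mulP_zero']
    rw [← eb, ← ec, mulP_assoc' hs (inP_unit hk) idealGen_genH.1.1, mulP_star_unit hk, mulP_two_left,
      mulP_assoc' hs (inP_unit hl) idealGen_genH.1.1, es, em]
  have hL' := inL_mulT hs hL
  rw [e3] at hL' ⊢
  have hc := caseA_checks
  simp only [← mulP_eq, ← inL_eq] at hc
  simp only [List.all_eq_true, List.mem_range, Bool.or_eq_true, Bool.not_eq_true', List.contains_iff_mem] at hc
  rcases hc m hm with h | h
  · rw [hL'] at h; simp at h
  · exact cov_of_mem h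

/-- The case of first entry one and second entry of smallest trace. -/
theorem cov_one {b c : Q} (hL : InL (2, b, c) = true) (hn : nsum (2, b, c) = 16) (h4 : (nrm b).re = 4) :
    Cov (2, b, c) := by
  obtain ⟨-, hb, hc, k1, k2, k3⟩ := (inL_iff _).1 hL
  obtain ⟨l, hl, rfl | rfl⟩ := exists_unit_or_tau hb h4
  · have h8 : nrm c = 8 := by
      have e : nrm (2 : Q) = 4 := by decide +kernel
      simp only [nsum, e, nrm_unit hl] at hn
      linear_combination hn
    obtain ⟨g, hg, m, hm, rfl⟩ := exists_ideal hc h8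
    have h := caseB_checks
    simp only [← mulP_eq, ← inL_eq] at h
    simp only [List.all_eq_true, List.mem_range, Bool.or_eq_true, Bool.not_eq_true', List.contains_iff_mem] at h
    rcases h l hl with h' | h'
    · rw [maskQ_testBit (inP_sub inP_two hb), k1] at h'; simp at h'
    rcases h' g hg m hm with h' | h'
    · rw [hL] at h'; simp at h'
    · exact cov_of_mem h'
  · obtain ⟨m, hm, e⟩ := exists_unit (inP_tau_mul hc) (by
      have e : nrm (2 : Q) = 4 := by decide +kernel
      have e1 : nrm (tauQ * unit l) = (⟨1, 1⟩ : Zt) * 4 := by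
        rw [nrm, map_mul, show Quaternion.normSq (unit l) = 4 from nrm_unit hl,
          show Quaternion.normSq tauQ = (⟨1, 1⟩ : Zt) from nrm_tauQ]
      simp only [nsum, e, e1] at hn
      have hc8 : nrm c = 16 - 4 - (⟨1, 1⟩ : Zt) * 4 := by linear_combination hn
      rw [nrm, map_mul, show Quaternion.normSq tauQ = (⟨1, 1⟩ : Zt) from nrm_tauQ,
        show Quaternion.normSq c = 16 - 4 - (⟨1, 1⟩ : Zt) * 4 from hc8]
      decide)
    obtain rfl : c = tauInvQ * unit m := by
      rw [← e, ← mul_assoc, show tauInvQ * tauQ = 1 by decide +kernel, one_mul]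
    have h := caseC_checks
    simp only [← mulP_eq, ← inL_eq] at h
    simp only [List.all_eq_true, List.mem_range, Bool.or_eq_true, Bool.not_eq_true', List.contains_iff_mem] at h
    rcases h l hl with h' | h'
    · rw [maskQ_testBit (inP_sub inP_two hb), k1] at h'; simp at h'
    rcases h' m hm with h' | h'
    · rw [hL] at h'; simp at h'
    · exact cov_of_mem h'

theorem cov_unit_first {a b c : Q} (hL : InL (a, b, c) = true) (hn : nsum (a, b, c) = 16)
    (ha : nrm a = 4) (h4 : (nrm b).re = 4) : Cov (a, b, c) := by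
  obtain ⟨k, hk, rfl⟩ := exists_unit ((inL_iff _).1 hL).1 ha
  have hs := inP_star (inP_unit hk)
  have hns : nrm (star (unit k)) = 4 := by rw [nrm, Quaternion.normSq_star]; exact nrm_unit hk
  refine cov_scale hk hL ?_
  have hL' := inL_mulT hs hL
  have hn' := (nsum_mulT hs hns hL).trans hn
  have e : mulT (star (unit k)) (unit k, b, c) =
      (2, mulP (star (unit k)) b, mulP (star (unit k)) c) := by simp only [mulT, mulP_star_unit hk]
  rw [e] at hL' hn' ⊢
  refine cov_one hL' hn' ?_
  have h := nrm_mul (mulP_spec hs ((inL_iff _).1 hL).2.1).1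
  rw [hns] at h
  rw [← four_cancel h]; exact h4

/-- Classification. -/
theorem cov_of_min {t : T} (hL : InL t = true) (hn : nsum t = 16) : Cov t := by
  obtain ⟨a, b, c⟩ := t
  obtain ⟨ha, hb, hc, -⟩ := (inL_iff _).1 hL
  change InP a = true at ha
  change InP b = true at hb
  change InP c = true at hc
  obtain ⟨r, i⟩ := nsum_components hn
  have a0 := nrm_re_nonneg a
  have b0 := nrm_re_nonneg b
  have c0 := nrm_re_nonneg c
  have a4 := (nrm_emod_four ha).1
  have b4 := (nrm_emod_four hb).1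
  have c4 := (nrm_emod_four hc).1
  simp only at r i
  by_cases za : (nrm a).re = 0
  · obtain rfl := eq_zero_of_nrm_re za
    exact cov_zero hL hn
  by_cases zb : (nrm b).re = 0
  · obtain rfl := eq_zero_of_nrm_re zb
    exact cov_swapA' (cov_zero (inL_swapA' hL) ((nsum_swapA' _ _ _).trans hn))
  by_cases zc : (nrm c).re = 0
  · obtain rfl := eq_zero_of_nrm_re zc
    exact cov_swapB' (cov_swapA' (cov_zero (inL_swapA' (inL_swapB' hL))
      (((nsum_swapA' _ _ _).trans (nsum_swapB' _ _ _)).trans hn)))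
  have main : ∀ {x y z : Q}, InL (x, y, z) = true → nsum (x, y, z) = 16 →
      (nrm x).re = 4 → (nrm y).re = 4 → Cov (x, y, z) := by
    intro x y z hL hn hx hy
    obtain ⟨px, py, pz, -⟩ := (inL_iff _).1 hL
    obtain ⟨r, i⟩ := nsum_components hn
    simp only at r i
    obtain ⟨k, hk, ex | ex⟩ := exists_unit_or_tau (q := x) px hx
    · exact cov_unit_first hL hn (ex ▸ nrm_unit hk) hy
    obtain ⟨l, hl, ey | ey⟩ := exists_unit_or_tau (q := y) py hy
    · exact cov_swapA' (cov_unit_first (inL_swapA' hL) ((nsum_swapA' _ _ _).trans hn) (ey ▸ nrm_unit hl) hx)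
    exfalso
    have t1 := (nrm_tau_unit hk).2
    have t2 := (nrm_tau_unit hl).2
    rw [← ex] at t1
    rw [← ey] at t2
    obtain rfl := eq_zero_of_nrm_im (q := z) (by omega)
    simp only [show nrm (0 : Q) = 0 from map_zero _, QuadraticAlgebra.re_zero] at r
    omega
  rcases (by omega : ((nrm a).re = 4 ∧ (nrm b).re = 4) ∨ ((nrm a).re = 4 ∧ (nrm c).re = 4) ∨
      ((nrm b).re = 4 ∧ (nrm c).re = 4)) with ⟨h, h'⟩ | ⟨h, h'⟩ | ⟨h, h'⟩
  · exact main hL hn h h'
  · exact cov_swapB' (main (inL_swapB' hL) ((nsum_swapB' _ _ _).trans hn) h h')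
  · exact cov_swapA' (cov_swapB' (main (inL_swapB' (inL_swapA' hL))
      (((nsum_swapB' _ _ _).trans (nsum_swapA' _ _ _)).trans hn) h h'))

/-- Every shortest vector is a unit multiple of a representative. -/
theorem exists_rep {t : T} (hL : InL t = true) (hn : nsum t = 16) :
    ∃ k < 120, ∃ i < 315, t = mulT (unit k) (rep i) := by
  obtain ⟨k, hk, j, hj, p, hp, e⟩ := cov_of_min hL hn
  obtain ⟨-, l, hl, i, hi, e'⟩ := cover_spec hp hj
  obtain ⟨m, hm, e''⟩ := exists_unit_mul hk hl
  refine ⟨m, hm, i, hi, ?_⟩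
  rw [e, e', mulT_mulT (inP_unit hk) (inP_unit hl) (inL_rep hi), e'']

end CfsgLib.Ico
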