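import Cfsg.Agent.Lib.Ico.Fast

/-! Kernel checks for the classification of shortest vectors. -/

set_option autoImplicit false

namespace CfsgLib.Ico

/-- A normalised shortest vector. -/
def cand (j : ℕ) : T := candTab.getD j (0, 0, 0)

/-- A line representative. -/
def rep (i : ℕ) : T := repTab.getD i (0, 0, 0)

/-- The six arrangements of three entries. -/
def permT : ℕ → T → T
  | 0, (a, b, c) => (a, b, c)
  | 1, (a, b, c) => (a, c, b)
  | 2, (a, b, c) => (b, a, c)
  | 3, (a, b, c) => (b, c, a)
  | 4, (a, b, c) => (c, a, b)
  | _, (a, b, c) => (c, b, a)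

/-- Check of one arrangement of one normalised vector. -/
def coverB (p j : ℕ) : Bool :=
  inLF (permT p (cand j)) && Nat.blt (certTab.getD (90 * p + j) (0, 0)).1 120 &&
    Nat.blt (certTab.getD (90 * p + j) (0, 0)).2 315 &&
    permT p (cand j) ==
      mulTF (unit (certTab.getD (90 * p + j) (0, 0)).1) (rep (certTab.getD (90 * p + j) (0, 0)).2)

theorem cover_checks : ((List.range 6).all fun p => (List.range 90).all (coverB p)) = true := by
  decide +kernel

theorem caseA_checks :
    ((List.range 120).all fun m =>
      !inLF (0, genH, mulF (unit m) genH) || candTab.contains (0, genH, mulF (unit m) genH)) = true := by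
  decide +kernel

theorem caseB_checks :
    ((List.range 120).all fun l =>
      !tabH.testBit (maskQ (2 - unit l)) || idealTab.all fun g => (List.range 120).all fun m =>
        !inLF (2, unit l, mulF (unit m) g) || candTab.contains (2, unit l, mulF (unit m) g)) = true := by
  decide +kernel

theorem caseC_checks :
    ((List.range 120).all fun l =>
      !tabH.testBit (maskQ (2 - tauQ * unit l)) || (List.range 120).all fun m =>
        !inLF (2, tauQ * unit l, tauInvQ * unit m) ||
          candTab.contains (2, tauQ * unit l, tauInvQ * unit m)) = true := by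
  decide +kernel

theorem rep_checks : ((List.range 315).all fun i => inLF (rep i)) = true := by decide +kernel

theorem inL_rep {i : ℕ} (hi : i < 315) : InL (rep i) = true := by
  rw [inL_eq]
  exact List.all_eq_true.1 rep_checks i (List.mem_range.2 hi)

theorem maskQ_testBit {x : Q} (hx : InP x = true) : Nat.testBit tabH (maskQ x) = inIdeal genH x := by
  have h := tab_checks
  simp only [List.all_eq_true, List.mem_range, Bool.and_eq_true, beq_iff_eq] at h
  rw [inIdeal_eq_mask idealGen_genH.1.1 hx]
  exact ((h _ (Golay.bitsOf_lt _ 8)).1).symm

end CfsgLib.Ico
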