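import Cfsg.Agent.Lib.Ico.Ring
import Cfsg.Agent.Lib.Golay.Basic

/-! Norms in the icosian ring and elements of small norm. -/

set_option autoImplicit false

namespace CfsgLib.Ico

open Quaternion CfsgLib

/-- Norm of doubled coordinates: four times the norm. -/
abbrev nrm (q : Q) : Zt := Quaternion.normSq q

theorem nrm_eq (q : Q) : nrm q = q.re * q.re + q.imI * q.imI + q.imJ * q.imJ + q.imK * q.imK := by
  rw [nrm, Quaternion.normSq_def']; ring

theorem four_mul_re_im (z : Zt) : (4 * z).re = 4 * z.re ∧ (4 * z).im = 4 * z.im := by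
  rw [show (4 : Zt) = ⟨4, 0⟩ from rfl]
  constructor <;> simp

theorem two_mul_re_im (z : Zt) : (2 * z).re = 2 * z.re ∧ (2 * z).im = 2 * z.im := by
  rw [show (2 : Zt) = ⟨2, 0⟩ from rfl]
  constructor <;> simp

theorem four_cancel {a b : Zt} (h : 4 * a = 4 * b) : a = b := by
  have h1 := congrArg QuadraticAlgebra.re h
  have h2 := congrArg QuadraticAlgebra.im h
  rw [(four_mul_re_im a).1, (four_mul_re_im b).1] at h1
  rw [(four_mul_re_im a).2, (four_mul_re_im b).2] at h2
  exact QuadraticAlgebra.ext (by omega) (by omega)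

theorem nrm_mul {a b r : Q} (h : a * b = 2 * r) : nrm a * nrm b = 4 * nrm r := by
  have h2 : Quaternion.normSq (2 : Q) = (4 : Zt) := by decide +kernel
  show Quaternion.normSq a * Quaternion.normSq b = 4 * Quaternion.normSq r
  rw [← map_mul, h, map_mul, h2]

theorem self_mul_star_coe (q : Q) : q * star q = ((nrm q : Zt) : Q) := Quaternion.self_mul_star q

theorem nrm_emod_four {q : Q} (hq : InP q = true) : (nrm q).re % 4 = 0 ∧ (nrm q).im % 4 = 0 := by
  obtain ⟨r, e, hr⟩ := exists_mul hq (inP_star hq)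
  rw [self_mul_star_coe, two_mul] at e
  rw [inP_iff] at hr
  have e1 := congrArg (fun x : Q => (x.re.re, x.re.im, x.imI.re, x.imI.im, x.imJ.re, x.imJ.im)) e
  simp only [Prod.mk.injEq, re_coe, imI_coe, imJ_coe, re_add, imI_add, imJ_add,
    QuadraticAlgebra.re_add, QuadraticAlgebra.im_add, QuadraticAlgebra.re_zero,
    QuadraticAlgebra.im_zero] at e1
  omega

theorem sq_re_im (z : Zt) : (z * z).re = z.re * z.re + z.im * z.im ∧
    (z * z).im = 2 * (z.re * z.im) + z.im * z.im := by
  constructor <;> simp <;> ring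

theorem nrm_re_im (q : Q) :
    (nrm q).re = q.re.re * q.re.re + q.re.im * q.re.im + q.imI.re * q.imI.re + q.imI.im * q.imI.im +
      q.imJ.re * q.imJ.re + q.imJ.im * q.imJ.im + q.imK.re * q.imK.re + q.imK.im * q.imK.im ∧
    (nrm q).im = 2 * (q.re.re * q.re.im) + q.re.im * q.re.im + 2 * (q.imI.re * q.imI.im) + q.imI.im * q.imI.im +
      2 * (q.imJ.re * q.imJ.im) + q.imJ.im * q.imJ.im + 2 * (q.imK.re * q.imK.im) + q.imK.im * q.imK.im := by
  rw [nrm_eq]
  simp only [QuadraticAlgebra.re_add, QuadraticAlgebra.im_add, (sq_re_im _).1, (sq_re_im _).2]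
  constructor <;> ring

theorem nrm_re_nonneg (q : Q) : 0 ≤ (nrm q).re := by
  rw [(nrm_re_im q).1]
  nlinarith [mul_self_nonneg q.re.re, mul_self_nonneg q.re.im, mul_self_nonneg q.imI.re,
    mul_self_nonneg q.imI.im, mul_self_nonneg q.imJ.re, mul_self_nonneg q.imJ.im,
    mul_self_nonneg q.imK.re, mul_self_nonneg q.imK.im]

theorem sq_zero_of_sum {a b c d e f g h : ℤ}
    (H : a * a + b * b + c * c + d * d + e * e + f * f + g * g + h * h ≤ 0) :
    (a = 0 ∧ b = 0) ∧ (c = 0 ∧ d = 0) ∧ (e = 0 ∧ f = 0) ∧ g = 0 ∧ h = 0 := by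
  have ha := mul_self_nonneg a; have hb := mul_self_nonneg b; have hc := mul_self_nonneg c
  have hd := mul_self_nonneg d; have he := mul_self_nonneg e; have hf := mul_self_nonneg f
  have hg := mul_self_nonneg g; have hh := mul_self_nonneg h
  refine ⟨⟨?_, ?_⟩, ⟨?_, ?_⟩, ⟨?_, ?_⟩, ?_, ?_⟩ <;> exact mul_self_eq_zero.1 (by omega)

theorem eq_zero_of_nrm_re {q : Q} (h : (nrm q).re = 0) : q = 0 := by
  obtain ⟨⟨h1, h2⟩, ⟨h3, h4⟩, ⟨h5, h6⟩, h7, h8⟩ := sq_zero_of_sum ((nrm_re_im q).1 ▸ h.le)
  exact QuaternionAlgebra.ext (QuadraticAlgebra.ext h1 h2) (QuadraticAlgebra.ext h3 h4)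
    (QuadraticAlgebra.ext h5 h6) (QuadraticAlgebra.ext h7 h8)

theorem eq_zero_of_nrm_im {q : Q} (h : (nrm q).re + (nrm q).im ≤ 0) : q = 0 := by
  rw [(nrm_re_im q).1, (nrm_re_im q).2] at h
  obtain ⟨⟨h1, h2⟩, ⟨h3, h4⟩, ⟨h5, h6⟩, h7, h8⟩ := sq_zero_of_sum
    (a := q.re.re + q.re.im) (b := q.re.im) (c := q.imI.re + q.imI.im) (d := q.imI.im)
    (e := q.imJ.re + q.imJ.im) (f := q.imJ.im) (g := q.imK.re + q.imK.im) (h := q.imK.im) (by linarith)
  exact QuaternionAlgebra.ext (QuadraticAlgebra.ext (show q.re.re = 0 by omega) h2)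
    (QuadraticAlgebra.ext (show q.imI.re = 0 by omega) h4)
    (QuadraticAlgebra.ext (show q.imJ.re = 0 by omega) h6)
    (QuadraticAlgebra.ext (show q.imK.re = 0 by omega) h8)

/-- The scalar `τ`. -/
def tauQ : Q := ⟨⟨0, 1⟩, ⟨0, 0⟩, ⟨0, 0⟩, ⟨0, 0⟩⟩

/-- The scalar `τ - 1`. -/
def tauInvQ : Q := ⟨⟨-1, 1⟩, ⟨0, 0⟩, ⟨0, 0⟩, ⟨0, 0⟩⟩

theorem inP_tau_mul {q : Q} (hq : InP q = true) : InP (tauQ * q) = true := by
  obtain ⟨r, e, hr⟩ := exists_mul (show InP (2 * tauQ) = true by decide +kernel) hq
  rw [mul_assoc] at e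
  rwa [two_mul_injective e]

/-- Quaternion with given integer coordinates, listed backwards. -/
def ofRev : List ℤ → Q
  | [h, g, f, e, d, c, b, a] => ⟨⟨a, b⟩, ⟨c, d⟩, ⟨e, f⟩, ⟨g, h⟩⟩
  | _ => 0

/-- The elements of norm one and their multiples by `τ`. -/
def smallTab : List Q := unitTab ++ unitTab.map fun u => tauQ * u

/-- Leaves of the search. -/
def leafB (l : List ℤ) : Bool := !InP (ofRev l) || smallTab.contains (ofRev l)

/-- Search over coordinate lists of given square sum. -/
def scan : ℕ → ℤ → List ℤ → Bool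
  | 0, b, acc => b != 0 || leafB acc
  | n + 1, b, acc => ([-2, -1, 0, 1, 2] : List ℤ).all fun x => decide (b < x * x) || scan n (b - x * x) (x :: acc)

theorem scan_sound : ∀ (xs : List ℤ) (b : ℤ) (acc : List ℤ), scan xs.length b acc = true →
    (xs.map fun x => x * x).sum = b → b ≤ 4 → leafB (xs.reverse ++ acc) = true
  | [], b, acc, h, hs, _ => by
    simp only [List.map_nil, List.sum_nil] at hs
    subst hs
    simpa [scan] using h
  | x :: xs, b, acc, h, hs, hb => by
    simp only [List.map_cons, List.sum_cons] at hs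
    have hnn : 0 ≤ (xs.map fun x => x * x).sum :=
      List.sum_nonneg fun y hy => by
        obtain ⟨z, -, rfl⟩ := List.mem_map.1 hy
        exact mul_self_nonneg z
    have hx2 : x * x ≤ 4 := by linarith
    have hx : -2 ≤ x ∧ x ≤ 2 := ⟨by nlinarith, by nlinarith⟩
    simp only [List.length_cons, scan, List.all_eq_true, Bool.or_eq_true, decide_eq_true_eq] at h
    rcases h x (by obtain ⟨h1, h2⟩ := hx; interval_cases x <;> decide) with h' | h'
    · omega
    · have := scan_sound xs (b - x * x) (x :: acc) h' (by omega) (by nlinarith)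
      simpa using this

theorem scan_check : scan 8 4 [] = true := by decide +kernel

theorem nrm_unit {k : ℕ} (hk : k < 120) : nrm (unit k) = 4 := by
  have h := congrArg QuaternionAlgebra.re (self_mul_star_coe (unit k))
  rw [unit_mul_star hk] at h
  exact h.symm

theorem unitTab_length : unitTab.length = 120 := by decide +kernel

/-- Classification of the elements with smallest trace. -/
theorem exists_unit_or_tau {q : Q} (hq : InP q = true) (h4 : (nrm q).re = 4) :
    ∃ k < 120, q = unit k ∨ q = tauQ * unit k := by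
  set xs : List ℤ := [q.re.re, q.re.im, q.imI.re, q.imI.im, q.imJ.re, q.imJ.im, q.imK.re, q.imK.im]
  have hs := scan_sound xs 4 [] scan_check
    (by rw [← h4, (nrm_re_im q).1]; simp [xs]; ring) le_rfl
  have e : ofRev (xs.reverse ++ []) = q := rfl
  rw [leafB, e, hq] at hs
  have hm : q ∈ smallTab := by simpa using hs
  simp only [smallTab, List.mem_append, List.mem_map] at hm
  have idx : ∀ u ∈ unitTab, ∃ k < 120, u = unit k := by
    intro u hu
    obtain ⟨k, hk, rfl⟩ := List.mem_iff_getElem.1 hu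
    exact ⟨k, unitTab_length ▸ hk, (List.getD_eq_getElem (hn := hk) (d := 0)).symm⟩
  rcases hm with hm | ⟨u, hu, rfl⟩
  · obtain ⟨k, hk, e⟩ := idx q hm
    exact ⟨k, hk, Or.inl e⟩
  · obtain ⟨k, hk, rfl⟩ := idx u hu
    exact ⟨k, hk, Or.inr rfl⟩

theorem nrm_tauQ : nrm tauQ = (⟨1, 1⟩ : Zt) := by decide +kernel

theorem exists_unit {q : Q} (hq : InP q = true) (h4 : nrm q = 4) : ∃ k < 120, q = unit k := by
  obtain ⟨k, hk, e | e⟩ := exists_unit_or_tau hq (by rw [h4]; rfl)
  · exact ⟨k, hk, e⟩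
  · rw [e, nrm, map_mul, show Quaternion.normSq (unit k) = 4 from nrm_unit hk,
      show Quaternion.normSq tauQ = (⟨1, 1⟩ : Zt) from nrm_tauQ] at h4
    exact absurd h4 (by decide)

theorem exists_unit_mul {j k : ℕ} (hj : j < 120) (hk : k < 120) :
    ∃ l < 120, mulP (unit j) (unit k) = unit l := by
  obtain ⟨e, hr⟩ := mulP_spec (inP_unit hj) (inP_unit hk)
  obtain ⟨l, hl, e'⟩ := exists_unit hr (by
    have h := nrm_mul e
    rw [nrm_unit hj, nrm_unit hk] at h
    exact (four_cancel h).symm)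
  exact ⟨l, hl, e'⟩

theorem exists_unit_star {k : ℕ} (hk : k < 120) : ∃ l < 120, star (unit k) = unit l :=
  exists_unit (inP_star (inP_unit hk)) (by rw [nrm, Quaternion.normSq_star]; exact nrm_unit hk)

/-- Residue modulo twice the ring. -/
def maskVec (m : ℕ) : Q := ∑ j ∈ Finset.range 8, (if m.testBit j then basisRow j else 0)

theorem inP_basisRow : ∀ j < 8, InP (basisRow j) = true := by decide +kernel

theorem inP_sum {s : Finset ℕ} {f : ℕ → Q} (h : ∀ j ∈ s, InP (f j) = true) :
    InP (∑ j ∈ s, f j) = true :=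
  Finset.sum_induction f (fun x => InP x = true) (fun _ _ => inP_add) inP_zero h

theorem inP_maskVec (m : ℕ) : InP (maskVec m) = true :=
  inP_sum fun j hj => by
    split
    · exact inP_basisRow j (Finset.mem_range.1 hj)
    · exact inP_zero

/-- Residue mask of a doubled quaternion. -/
def maskQ (q : Q) : ℕ := Golay.bitsOf (fun j => coef q j % 2 == 1) 8

theorem exists_maskQ {q : Q} (hq : InP q = true) :
    ∃ p, InP p = true ∧ q = maskVec (maskQ q) + 2 * p := by
  refine ⟨∑ j ∈ Finset.range 8, (coef q j / 2) • basisRow j, ?_, ?_⟩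
  · refine inP_sum fun j hj => ?_
    rw [inP_iff]
    have hb := (inP_iff _).1 (inP_basisRow j (Finset.mem_range.1 hj))
    obtain ⟨⟨a1, a2⟩, ⟨b1, b2⟩, ⟨c1, c2⟩, d1, d2⟩ := zsmul_comp (coef q j / 2) (basisRow j)
    simp only [a1, a2, b1, b2, c1, c2, d1, d2, ← mul_add]
    refine ⟨?_, ?_, ?_, ?_⟩ <;> rw [Int.mul_emod] <;>
      first | rw [hb.1] | rw [hb.2.1] | rw [hb.2.2.1] | rw [hb.2.2.2]
    all_goals simp
  · conv_lhs => rw [sum_coef hq]
    rw [maskVec, Finset.mul_sum, ← Finset.sum_add_distrib]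
    refine Finset.sum_congr rfl fun j hj => ?_
    rw [maskQ, Golay.testBit_bitsOf]
    simp only [Finset.mem_range.1 hj, decide_true, Bool.true_and, beq_iff_eq]
    have e : coef q j = coef q j % 2 + (coef q j / 2 + coef q j / 2) := by omega
    conv_lhs => rw [e, add_zsmul, add_zsmul]
    rw [two_mul]
    congr 1
    rcases Int.emod_two_eq_zero_or_one (coef q j) with h | h <;> rw [h] <;> simp

theorem exists_mask {q : Q} (hq : InP q = true) :
    ∃ m < 256, ∃ p, InP p = true ∧ q = maskVec m + 2 * p :=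
  ⟨maskQ q, Golay.bitsOf_lt _ 8, exists_maskQ hq⟩

theorem inIdeal_add {g x y : Q} (hx : inIdeal g x = true) (hy : inIdeal g y = true) :
    inIdeal g (x + y) = true := by
  rw [inIdeal_iff] at *
  obtain ⟨a, ha, e⟩ := hx
  obtain ⟨b, hb, f⟩ := hy
  exact ⟨a + b, inP_add ha hb, by rw [add_mul, e, f, mul_add, mul_add]⟩

set_option maxHeartbeats 400000 in
theorem inIdeal_neg {g x : Q} (hx : inIdeal g x = true) : inIdeal g (-x) = true := by
  rw [inIdeal_iff] at *
  obtain ⟨a, ha, e⟩ := hx
  refine ⟨-a, inP_neg ha, ?_⟩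
  rw [show -x * star g = -(x * star g) from neg_mul x (star g), e]
  noncomm_ring

theorem inIdeal_two_mul {g p : Q} (hg : InP g = true) (hp : InP p = true) :
    inIdeal g (2 * p) = true := by
  obtain ⟨r, e, hr⟩ := exists_mul hp (inP_star hg)
  exact inIdeal_iff.2 ⟨r, hr, by rw [mul_assoc, e]⟩

set_option maxHeartbeats 400000 in
theorem nrm_add_two_mul {a p : Q} (ha : InP a = true) (hp : InP p = true) :
    (nrm (a + 2 * p)).re % 8 = (nrm a).re % 8 ∧ (nrm (a + 2 * p)).im % 8 = (nrm a).im % 8 := by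
  obtain ⟨r, e, -⟩ := exists_mul ha (inP_star hp)
  have e' : p * star a = star r * 2 := by
    have h := congrArg star e
    rwa [star_mul, star_star, star_mul, show star (2 : Q) = 2 by decide +kernel] at h
  have key : nrm (a + 2 * p) = nrm a + 2 * (2 * r.re + 2 * r.re) + 4 * nrm p := by
    have hh : (a + 2 * p) * star (a + 2 * p) =
        a * star a + 2 * (a * star p + p * star a) + 4 * (p * star p) := by
      rw [show star (a + 2 * p) = star a + star (2 * p) from star_add a (2 * p),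
        show star (2 * p) = star p * star 2 from star_mul 2 p, show star (2 : Q) = 2 by decide +kernel]
      noncomm_ring
    rw [e, e', self_mul_star_coe, self_mul_star_coe, self_mul_star_coe] at hh
    have := congrArg QuaternionAlgebra.re hh
    simp only [re_coe, re_add, re_mul, mul_two, two_mul, re_star, imI_star, imJ_star, imK_star,
      imI_add, imJ_add, imK_add, imI_coe, imJ_coe, imK_coe] at this
    rw [show (4 : Q) = ((4 : Zt) : Q) from rfl] at this
    simp at this
    rw [two_mul p, this]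
    ring
  obtain ⟨h1, h2⟩ := nrm_emod_four hp
  rw [key]
  simp only [QuadraticAlgebra.re_add, QuadraticAlgebra.im_add, (two_mul_re_im _).1, (two_mul_re_im _).2,
    (four_mul_re_im _).1, (four_mul_re_im _).2]
  omega

/-- Checks on residues. -/
def residueB (m : ℕ) : Bool :=
  ((!inIdeal genH (maskVec m) || !inIdeal (star genH) (maskVec m)) || maskVec m == 0) &&
    ((nrm (maskVec m)).re % 8 != 0 || (nrm (maskVec m)).im % 8 != 0 ||
      idealTab.any fun g => inIdeal g (maskVec m))

theorem residue_checks : ((List.range 256).all residueB) = true := by decide +kernel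

theorem ideal_checks : idealTab.all (fun g => InP g && g * star g == 8 && star g * g == 8) = true := by
  decide +kernel

theorem idealGen_of_mem {g : Q} (hg : g ∈ idealTab) : IdealGen g := by
  have h := ideal_checks
  simp only [List.all_eq_true, Bool.and_eq_true, beq_iff_eq] at h
  exact ⟨(h g hg).1.1, (h g hg).1.2, (h g hg).2⟩

theorem exists_two_mul {y : Q} (hy : InP y = true) (h1 : inIdeal genH y = true)
    (h2 : inIdeal (star genH) y = true) : ∃ p, InP p = true ∧ y = 2 * p := by
  obtain ⟨m, hm, p, hp, rfl⟩ := exists_mask hy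
  refine ⟨p, hp, ?_⟩
  have h := List.all_eq_true.1 residue_checks m (List.mem_range.2 hm)
  simp only [residueB, Bool.and_eq_true, Bool.or_eq_true, Bool.not_eq_true', beq_iff_eq] at h
  have k1 := inIdeal_add h1 (inIdeal_neg (inIdeal_two_mul idealGen_genH.1.1 hp))
  have k2 := inIdeal_add h2 (inIdeal_neg (inIdeal_two_mul idealGen_genH.2.1 hp))
  rw [add_assoc, add_neg_cancel, add_zero] at k1 k2
  rcases h.1 with (h' | h') | h'
  · simp [k1] at h'
  · simp [k2] at h'
  · rw [h', zero_add]

theorem exists_ideal {z : Q} (hz : InP z = true) (h8 : nrm z = 8) :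
    ∃ g ∈ idealTab, ∃ k < 120, z = mulP (unit k) g := by
  obtain ⟨m, hm, p, hp, rfl⟩ := exists_mask hz
  obtain ⟨n1, n2⟩ := nrm_add_two_mul (inP_maskVec m) hp
  rw [h8] at n1 n2
  have h := List.all_eq_true.1 residue_checks m (List.mem_range.2 hm)
  simp only [residueB, Bool.and_eq_true, Bool.or_eq_true, bne_iff_ne, List.any_eq_true] at h
  rcases h.2 with (h' | h') | ⟨g, hg, h'⟩
  · exact absurd n1.symm h'
  · exact absurd n2.symm h'
  have hG := idealGen_of_mem hg
  have hin := inIdeal_add h' (inIdeal_two_mul hG.1 hp)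
  obtain ⟨a, ha, e⟩ := inIdeal_iff.1 hin
  have e2 := eq_of_inIdeal hG e
  have hn := nrm_mul e2
  have hng : nrm g = 8 := by
    have h := congrArg QuaternionAlgebra.re (self_mul_star_coe g)
    rw [hG.2.1] at h
    exact h.symm
  rw [h8, hng] at hn
  obtain ⟨k, hk, rfl⟩ := exists_unit ha (by
    refine four_cancel (four_cancel ?_)
    rw [show (4 : Zt) * (4 * nrm a) = 2 * (nrm a * 8) by ring, hn]
    norm_num)
  exact ⟨g, hg, k, hk, by rw [mulP, e2, halve_two_mul]⟩

end CfsgLib.Ico
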