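import Cfsg.Agent.Lib.Ico.UnitData

/-! The icosian ring in exact coordinates. -/

set_option autoImplicit false

namespace CfsgLib.Ico

open Quaternion

/-- Parity conditions of the icosian ring. -/
def InP (q : Q) : Bool :=
  (q.re.im + q.imI.re + q.imI.im + q.imJ.re) % 2 == 0 &&
  (q.re.re + q.re.im + q.imI.re + q.imJ.im) % 2 == 0 &&
  (q.re.re + q.re.im + q.imI.im + q.imK.re) % 2 == 0 &&
  (q.re.re + q.imI.re + q.imI.im + q.imK.im) % 2 == 0

theorem inP_iff (q : Q) : InP q = true ↔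
    (q.re.im + q.imI.re + q.imI.im + q.imJ.re) % 2 = 0 ∧
    (q.re.re + q.re.im + q.imI.re + q.imJ.im) % 2 = 0 ∧
    (q.re.re + q.re.im + q.imI.im + q.imK.re) % 2 = 0 ∧
    (q.re.re + q.imI.re + q.imI.im + q.imK.im) % 2 = 0 := by
  simp [InP, and_assoc]

theorem inP_zero : InP 0 = true := by decide

theorem inP_two : InP 2 = true := by decide +kernel

theorem inP_add {a b : Q} (ha : InP a = true) (hb : InP b = true) : InP (a + b) = true := by
  rw [inP_iff] at *
  simp only [re_add, imI_add, imJ_add, imK_add, QuadraticAlgebra.re_add, QuadraticAlgebra.im_add]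
  omega

theorem inP_neg {a : Q} (ha : InP a = true) : InP (-a) = true := by
  rw [inP_iff] at *
  simp only [re_neg, imI_neg, imJ_neg, imK_neg, QuadraticAlgebra.re_neg, QuadraticAlgebra.im_neg]
  omega

theorem inP_sub {a b : Q} (ha : InP a = true) (hb : InP b = true) : InP (a - b) = true := by
  rw [sub_eq_add_neg]; exact inP_add ha (inP_neg hb)

theorem inP_star {a : Q} (ha : InP a = true) : InP (star a) = true := by
  rw [inP_iff] at *
  simp only [re_star, imI_star, imJ_star, imK_star, QuadraticAlgebra.re_neg, QuadraticAlgebra.im_neg]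
  omega

/-- Basis of the ring. -/
def basisRow : ℕ → Q
  | 0 => ⟨⟨0, 1⟩, ⟨1, 1⟩, ⟨1, 0⟩, ⟨0, 0⟩⟩
  | 1 => ⟨⟨1, 1⟩, ⟨1, 0⟩, ⟨0, 1⟩, ⟨0, 0⟩⟩
  | 2 => ⟨⟨1, 1⟩, ⟨0, 1⟩, ⟨0, 0⟩, ⟨1, 0⟩⟩
  | 3 => ⟨⟨1, 0⟩, ⟨1, 1⟩, ⟨0, 0⟩, ⟨0, 1⟩⟩
  | 4 => ⟨⟨2, 0⟩, ⟨0, 0⟩, ⟨0, 0⟩, ⟨0, 0⟩⟩
  | 5 => ⟨⟨0, 2⟩, ⟨0, 0⟩, ⟨0, 0⟩, ⟨0, 0⟩⟩
  | 6 => ⟨⟨0, 0⟩, ⟨2, 0⟩, ⟨0, 0⟩, ⟨0, 0⟩⟩
  | _ => ⟨⟨0, 0⟩, ⟨0, 2⟩, ⟨0, 0⟩, ⟨0, 0⟩⟩

/-- Coordinates on the basis. -/
def coef (q : Q) : ℕ → ℤ
  | 0 => q.imJ.re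
  | 1 => q.imJ.im
  | 2 => q.imK.re
  | 3 => q.imK.im
  | 4 => (q.re.re - q.imJ.im - q.imK.re - q.imK.im) / 2
  | 5 => (q.re.im - q.imJ.re - q.imJ.im - q.imK.re) / 2
  | 6 => (q.imI.re - q.imJ.re - q.imJ.im - q.imK.im) / 2
  | _ => (q.imI.im - q.imJ.re - q.imK.re - q.imK.im) / 2

theorem zsmul_comp (n : ℤ) (x : Q) : ((n • x).re.re = n * x.re.re ∧ (n • x).re.im = n * x.re.im) ∧
    ((n • x).imI.re = n * x.imI.re ∧ (n • x).imI.im = n * x.imI.im) ∧
    ((n • x).imJ.re = n * x.imJ.re ∧ (n • x).imJ.im = n * x.imJ.im) ∧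
    ((n • x).imK.re = n * x.imK.re ∧ (n • x).imK.im = n * x.imK.im) :=
  ⟨⟨rfl, rfl⟩, ⟨rfl, rfl⟩, ⟨rfl, rfl⟩, rfl, rfl⟩

set_option maxHeartbeats 400000 in
theorem sum_coef {q : Q} (hq : InP q = true) : q = ∑ j ∈ Finset.range 8, coef q j • basisRow j := by
  rw [inP_iff] at hq
  simp only [Finset.sum_range_succ, Finset.sum_range_zero, zero_add]
  refine QuaternionAlgebra.ext (QuadraticAlgebra.ext ?_ ?_) (QuadraticAlgebra.ext ?_ ?_)
    (QuadraticAlgebra.ext ?_ ?_) (QuadraticAlgebra.ext ?_ ?_)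
  · simp only [re_add, QuadraticAlgebra.re_add, (zsmul_comp _ _).1.1]
    show q.re.re = (coef q 0 * 0 + coef q 1 * 1 + coef q 2 * 1 + coef q 3 * 1 + coef q 4 * 2 + coef q 5 * 0 + coef q 6 * 0 + coef q 7 * 0 : ℤ)
    simp only [coef]
    omega
  · simp only [re_add, QuadraticAlgebra.im_add, (zsmul_comp _ _).1.2]
    show q.re.im = (coef q 0 * 1 + coef q 1 * 1 + coef q 2 * 1 + coef q 3 * 0 + coef q 4 * 0 + coef q 5 * 2 + coef q 6 * 0 + coef q 7 * 0 : ℤ)
    simp only [coef]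
    omega
  · simp only [imI_add, QuadraticAlgebra.re_add, (zsmul_comp _ _).2.1.1]
    show q.imI.re = (coef q 0 * 1 + coef q 1 * 1 + coef q 2 * 0 + coef q 3 * 1 + coef q 4 * 0 + coef q 5 * 0 + coef q 6 * 2 + coef q 7 * 0 : ℤ)
    simp only [coef]
    omega
  · simp only [imI_add, QuadraticAlgebra.im_add, (zsmul_comp _ _).2.1.2]
    show q.imI.im = (coef q 0 * 1 + coef q 1 * 0 + coef q 2 * 1 + coef q 3 * 1 + coef q 4 * 0 + coef q 5 * 0 + coef q 6 * 0 + coef q 7 * 2 : ℤ)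
    simp only [coef]
    omega
  · simp only [imJ_add, QuadraticAlgebra.re_add, (zsmul_comp _ _).2.2.1.1]
    show q.imJ.re = (coef q 0 * 1 + coef q 1 * 0 + coef q 2 * 0 + coef q 3 * 0 + coef q 4 * 0 + coef q 5 * 0 + coef q 6 * 0 + coef q 7 * 0 : ℤ)
    simp only [coef]
    omega
  · simp only [imJ_add, QuadraticAlgebra.im_add, (zsmul_comp _ _).2.2.1.2]
    show q.imJ.im = (coef q 0 * 0 + coef q 1 * 1 + coef q 2 * 0 + coef q 3 * 0 + coef q 4 * 0 + coef q 5 * 0 + coef q 6 * 0 + coef q 7 * 0 : ℤ)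
    simp only [coef]
    omega
  · simp only [imK_add, QuadraticAlgebra.re_add, (zsmul_comp _ _).2.2.2.1]
    show q.imK.re = (coef q 0 * 0 + coef q 1 * 0 + coef q 2 * 1 + coef q 3 * 0 + coef q 4 * 0 + coef q 5 * 0 + coef q 6 * 0 + coef q 7 * 0 : ℤ)
    simp only [coef]
    omega
  · simp only [imK_add, QuadraticAlgebra.im_add, (zsmul_comp _ _).2.2.2.2]
    show q.imK.im = (coef q 0 * 0 + coef q 1 * 0 + coef q 2 * 0 + coef q 3 * 1 + coef q 4 * 0 + coef q 5 * 0 + coef q 6 * 0 + coef q 7 * 0 : ℤ)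
    simp only [coef]
    omega

/-- The additive group spanned by the basis. -/
def span : AddSubgroup Q := AddSubgroup.closure {x | ∃ j < 8, x = basisRow j}

theorem mem_span {q : Q} (hq : InP q = true) : q ∈ span := by
  rw [sum_coef hq]
  exact sum_mem fun j hj =>
    zsmul_mem (show basisRow j ∈ span from AddSubgroup.subset_closure ⟨j, Finset.mem_range.1 hj, rfl⟩) _

/-- Division by two of all coordinates. -/
def halve (q : Q) : Q :=
  ⟨⟨q.re.re / 2, q.re.im / 2⟩, ⟨q.imI.re / 2, q.imI.im / 2⟩, ⟨q.imJ.re / 2, q.imJ.im / 2⟩,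
    ⟨q.imK.re / 2, q.imK.im / 2⟩⟩

theorem halve_two_mul (r : Q) : halve (2 * r) = r := by
  ext <;> simp [halve, two_mul] <;> omega

/-- The product of doubled coordinates. -/
def mulP (x y : Q) : Q := halve (x * y)

theorem basis_mul_checks :
    ((List.range 8).all fun i => (List.range 8).all fun j =>
      basisRow i * basisRow j == 2 * mulP (basisRow i) (basisRow j) &&
        InP (mulP (basisRow i) (basisRow j))) = true := by
  decide +kernel

set_option maxHeartbeats 400000 in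
theorem exists_mul {x y : Q} (hx : InP x = true) (hy : InP y = true) :
    ∃ r, x * y = 2 * r ∧ InP r = true := by
  suffices H : ∀ a ∈ span, ∀ b ∈ span, ∃ r, a * b = 2 * r ∧ InP r = true from
    H x (mem_span hx) y (mem_span hy)
  intro a ha
  induction ha using AddSubgroup.closure_induction with
  | mem a h =>
    obtain ⟨i, hi, rfl⟩ := h
    intro b hb
    induction hb using AddSubgroup.closure_induction with
    | mem b h =>
      obtain ⟨j, hj, rfl⟩ := h
      have h := basis_mul_checks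
      simp only [List.all_eq_true, List.mem_range, Bool.and_eq_true, beq_iff_eq] at h
      exact ⟨_, h i hi j hj⟩
    | zero => exact ⟨0, by rw [mul_zero, mul_zero], inP_zero⟩
    | add b c _ _ h1 h2 =>
      obtain ⟨r, e, hr⟩ := h1
      obtain ⟨s, f, hs⟩ := h2
      exact ⟨r + s, by rw [mul_add, e, f, mul_add], inP_add hr hs⟩
    | neg b _ h1 =>
      obtain ⟨r, e, hr⟩ := h1
      exact ⟨-r, (mul_neg (basisRow i) b).trans ((congrArg Neg.neg e).trans (mul_neg 2 r).symm), inP_neg hr⟩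
  | zero => exact fun b _ => ⟨0, by rw [zero_mul, mul_zero], inP_zero⟩
  | add a c _ _ h1 h2 =>
    intro b hb
    obtain ⟨r, e, hr⟩ := h1 b hb
    obtain ⟨s, f, hs⟩ := h2 b hb
    exact ⟨r + s, by rw [add_mul, e, f, mul_add], inP_add hr hs⟩
  | neg a _ h1 =>
    intro b hb
    obtain ⟨r, e, hr⟩ := h1 b hb
    exact ⟨-r, (neg_mul a b).trans ((congrArg Neg.neg e).trans (mul_neg 2 r).symm), inP_neg hr⟩

theorem mulP_spec {x y : Q} (hx : InP x = true) (hy : InP y = true) :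
    x * y = 2 * mulP x y ∧ InP (mulP x y) = true := by
  obtain ⟨r, e, hr⟩ := exists_mul hx hy
  rw [mulP, e, halve_two_mul]
  exact ⟨rfl, hr⟩

theorem emb_mulP {x y : Q} (hx : InP x = true) (hy : InP y = true) :
    emb (mulP x y) = emb x * emb y := (emb_mul (mulP_spec hx hy).1).symm

/-- The imaginary generator. -/
def genI : Q := ⟨⟨0, 0⟩, ⟨2, 0⟩, ⟨0, 0⟩, ⟨0, 0⟩⟩

/-- The second generator. -/
def genW : Q := ⟨⟨1, 0⟩, ⟨1, -1⟩, ⟨0, 0⟩, ⟨0, 1⟩⟩

/-- Element of norm one. -/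
def unit (k : ℕ) : Q := unitTab.getD k 0

theorem unit_checks :
    ((List.range 120).all fun k => InP (unit k) && unit k * star (unit k) == 4 &&
      (Nat.beq k 0 && unit k == 2 ||
        Nat.blt (parTab.getD k (0, false)).1 k &&
          unit k == mulP (unit (parTab.getD k (0, false)).1)
            (bif (parTab.getD k (0, false)).2 then genW else genI))) = true := by
  decide +kernel

theorem inP_unit {k : ℕ} (hk : k < 120) : InP (unit k) = true := by
  have h := unit_checks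
  simp only [List.all_eq_true, List.mem_range, Bool.and_eq_true] at h
  exact (h k hk).1.1

theorem unit_mul_star {k : ℕ} (hk : k < 120) : unit k * star (unit k) = 4 := by
  have h := unit_checks
  simp only [List.all_eq_true, List.mem_range, Bool.and_eq_true] at h
  exact eq_of_beq (h k hk).1.2

theorem emb_eq {q : Q} {x : ℍ[ℝ]} (h1 : φ q.re = 2 * x.re) (h2 : φ q.imI = 2 * x.imI)
    (h3 : φ q.imJ = 2 * x.imJ) (h4 : φ q.imK = 2 * x.imK) : emb q = x := by
  ext <;> simp [emb, h1, h2, h3, h4]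

theorem qI_eq : Cfsg.Spor.qI = emb genI := by
  refine (emb_eq ?_ ?_ ?_ ?_).symm <;> simp [φ_apply, genI, Cfsg.Spor.qI]

theorem wGen_eq : (⟨1 / 2, Cfsg.Spor.sig / 2, 0, Cfsg.Spor.tau / 2⟩ : ℍ[ℝ]) = emb genW := by
  refine (emb_eq ?_ ?_ ?_ ?_).symm <;> simp [φ_apply, genW, Cfsg.Spor.sig, Cfsg.Spor.tau] <;> ring

theorem emb_unit_mem : ∀ k, k < 120 → emb (unit k) ∈ Cfsg.Spor.icosians := by
  intro k
  induction k using Nat.strong_induction_on with
  | _ k ih =>
    intro hk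
    have h := unit_checks
    simp only [List.all_eq_true, List.mem_range, Bool.and_eq_true, Bool.or_eq_true, beq_iff_eq,
      Nat.blt_eq] at h
    rcases (h k hk).2 with ⟨-, e⟩ | ⟨hlt, e⟩
    · rw [e, emb_two]; exact one_mem _
    · rw [e, emb_mulP (inP_unit (by omega)) (by cases (parTab.getD k (0, false)).2 <;> decide)]
      refine mul_mem (ih _ hlt (by omega)) ?_
      cases (parTab.getD k (0, false)).2
      · exact Subring.subset_closure (Or.inl qI_eq.symm)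
      · exact Subring.subset_closure (Or.inr wGen_eq.symm)

theorem word_checks :
    ((List.range 8).all fun j =>
      (wordTab.getD j []).all (fun k => Nat.blt k 120) &&
        basisRow j == ((wordTab.getD j []).map unit).sum) = true := by
  decide +kernel

theorem emb_mem {q : Q} (hq : InP q = true) : emb q ∈ Cfsg.Spor.icosians := by
  let S : AddSubgroup Q := (Cfsg.Spor.icosians.toAddSubgroup).comap (AddMonoidHom.mk' emb emb_add)
  refine (show span ≤ S from (AddSubgroup.closure_le _).2 ?_) (mem_span hq)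
  rintro _ ⟨j, hj, rfl⟩
  have h := word_checks
  simp only [List.all_eq_true, List.mem_range, Bool.and_eq_true, beq_iff_eq, Nat.blt_eq] at h
  rw [SetLike.mem_coe, (h j hj).2]
  refine list_sum_mem fun x hx => ?_
  obtain ⟨k, hk, rfl⟩ := List.mem_map.1 hx
  exact emb_unit_mem k ((h j hj).1 k hk)

theorem mem_icosians_iff {x : ℍ[ℝ]} :
    x ∈ Cfsg.Spor.icosians ↔ ∃ q, InP q = true ∧ emb q = x := by
  refine ⟨fun h => ?_, fun ⟨q, hq, e⟩ => e ▸ emb_mem hq⟩
  induction h using Subring.closure_induction with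
  | mem x h =>
    rcases h with rfl | rfl
    · exact ⟨genI, by decide, qI_eq.symm⟩
    · exact ⟨genW, by decide, wGen_eq.symm⟩
  | zero => exact ⟨0, inP_zero, emb_zero⟩
  | one => exact ⟨2, inP_two, emb_two⟩
  | add x y _ _ hx hy =>
    obtain ⟨a, ha, rfl⟩ := hx
    obtain ⟨b, hb, rfl⟩ := hy
    exact ⟨a + b, inP_add ha hb, emb_add a b⟩
  | neg x _ hx =>
    obtain ⟨a, ha, rfl⟩ := hx
    exact ⟨-a, inP_neg ha, emb_neg a⟩
  | mul x y _ _ hx hy =>
    obtain ⟨a, ha, rfl⟩ := hx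
    obtain ⟨b, hb, rfl⟩ := hy
    exact ⟨mulP a b, (mulP_spec ha hb).2, emb_mulP ha hb⟩

theorem star_mem_icosians {x : ℍ[ℝ]} (hx : x ∈ Cfsg.Spor.icosians) : star x ∈ Cfsg.Spor.icosians := by
  obtain ⟨a, ha, rfl⟩ := mem_icosians_iff.1 hx
  rw [← emb_star]
  exact emb_mem (inP_star ha)

/-- Division by four of all coordinates. -/
def quarter (q : Q) : Q := halve (halve q)

/-- Membership in the left ideal of a generator of norm two. -/
def inIdeal (g x : Q) : Bool := x * star g == 2 * (2 * quarter (x * star g)) && InP (quarter (x * star g))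

theorem inIdeal_iff {g x : Q} :
    inIdeal g x = true ↔ ∃ a, InP a = true ∧ x * star g = 2 * (2 * a) := by
  refine ⟨fun h => ?_, fun ⟨a, ha, e⟩ => ?_⟩
  · simp only [inIdeal, Bool.and_eq_true, beq_iff_eq] at h
    exact ⟨_, h.2, h.1⟩
  · have hq : quarter (x * star g) = a := by rw [quarter, e, halve_two_mul, halve_two_mul]
    rw [inIdeal, hq, e]
    simp [ha]

/-- A generator of a left ideal of norm two. -/
def IdealGen (g : Q) : Prop := InP g = true ∧ g * star g = 8 ∧ star g * g = 8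

theorem eq_of_inIdeal {g x a : Q} (hg : IdealGen g) (h : x * star g = 2 * (2 * a)) : a * g = 2 * x := by
  refine two_mul_injective (two_mul_injective ?_)
  have h' := congrArg (· * g) h
  simp only [mul_assoc, hg.2.2] at h'
  rw [← h', show (8 : Q) = 2 * (2 * 2) by norm_num]
  noncomm_ring

theorem mem_leftIdeal_iff {g x : Q} (hg : IdealGen g) :
    emb x ∈ Cfsg.Spor.leftIdeal (emb g) ↔ inIdeal g x = true := by
  rw [inIdeal_iff]
  refine ⟨fun ⟨c, hc, e⟩ => ?_, fun ⟨a, ha, e⟩ => ⟨emb a, emb_mem ha, (emb_mul (eq_of_inIdeal hg e)).symm⟩⟩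
  obtain ⟨a, ha, rfl⟩ := mem_icosians_iff.1 hc
  rw [← emb_mulP ha hg.1] at e
  refine ⟨a, ha, two_mul_injective ?_⟩
  have h' := (mulP_spec ha hg.1).1
  rw [← emb_injective e] at h'
  rw [← mul_assoc, ← h', mul_assoc, hg.2.1, show (8 : Q) = 2 * (2 * 2) by norm_num]
  noncomm_ring

/-- The element defining the congruences, doubled. -/
def genH : Q := ⟨⟨1, -2⟩, ⟨1, 0⟩, ⟨1, 0⟩, ⟨1, 0⟩⟩

theorem icoH_eq : Cfsg.Spor.icoH = emb genH := by
  refine (emb_eq ?_ ?_ ?_ ?_).symm <;> simp [φ_apply, genH, Cfsg.Spor.icoH, Cfsg.Spor.tau] <;> ring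

theorem idealGen_genH : IdealGen genH ∧ IdealGen (star genH) := by
  refine ⟨⟨?_, ?_, ?_⟩, ⟨?_, ?_, ?_⟩⟩ <;> decide +kernel

end CfsgLib.Ico
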