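import Cfsg.Agent.Lib.Ico.ScalarChecks

/-!
The centraliser, among the rational isometries of the icosian lattice, of a scalar of order five.
-/

set_option autoImplicit false

namespace CfsgLib.Ico

open Cfsg Cfsg.Spor Quaternion

theorem inP_zT : InP zT = true := inP_unit (by norm_num)

theorem inP_iQ : InP iQ = true := inP_unit (by norm_num)

theorem inP_zP : ∀ k, InP (zP k) = true
  | 0 => inP_two
  | k + 1 => (mulP_spec inP_zT (inP_zP k)).2

theorem inP_ikQ (k : ℕ) : InP (ikQ k) = true :=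
  (mulP_spec (mulP_spec (inP_zP k) inP_iQ).2 (inP_star (inP_zP k))).2

theorem zP_checks : mulP (star zT) zT = 2 ∧ mulP zT (star zT) = 2 ∧ zP 5 = 2 ∧
    (∀ k < 5, mulP (zP k) (star (zP k)) = 2) := by decide +kernel

/-- Scalar multiplication on the lattice. -/
def scL (q : Q) (hq : InP q = true) (t : lsub) : lsub := ⟨mulT q t, inL_mulT hq t.2⟩

theorem coe_scL (q : Q) (hq : InP q = true) (t : lsub) : (scL q hq t : T) = mulT q t := rfl

theorem scL_congr {a b : Q} (e : a = b) {ha : InP a = true} {hb : InP b = true} (t : lsub) :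
    scL a ha t = scL b hb t := by subst e; rfl

theorem scL_two (t : lsub) : scL 2 inP_two t = t := Subtype.ext (mulT_two t.2)

theorem scL_scL {a b : Q} (ha : InP a = true) (hb : InP b = true) (t : lsub) :
    scL a ha (scL b hb t) = scL (mulP a b) (mulP_spec ha hb).2 t :=
  Subtype.ext (mulT_mulT ha hb t.2)

theorem scL_add_right {q : Q} (hq : InP q = true) (a b : lsub) :
    scL q hq (a + b) = scL q hq a + scL q hq b := by
  refine Subtype.ext (embV_injective ?_)
  rw [AddSubgroup.coe_add, coe_scL, coe_scL, coe_scL, embV_mulT hq (a + b).2, embV_add,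
    embV_mulT hq a.2, embV_mulT hq b.2, AddSubgroup.coe_add, embV_add]
  funext i
  simp [mul_add]

theorem scL_add_left {a b : Q} (ha : InP a = true) (hb : InP b = true) (t : lsub) :
    scL (a + b) (inP_add ha hb) t = scL a ha t + scL b hb t := by
  refine Subtype.ext (embV_injective ?_)
  rw [AddSubgroup.coe_add, coe_scL, coe_scL, coe_scL, embV_mulT (inP_add ha hb) t.2, embV_add,
    embV_mulT ha t.2, embV_mulT hb t.2]
  funext i
  simp [emb_add, add_mul]

theorem scL_zero (t : lsub) : scL 0 inP_zero t = 0 := by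
  refine Subtype.ext (embV_injective ?_)
  rw [coe_scL, embV_mulT inP_zero t.2]
  funext i
  fin_cases i <;> simp [embV, emb_zero]

theorem scL_neg {a : Q} (ha : InP a = true) (t : lsub) :
    scL (-a) (inP_neg ha) t = -scL a ha t := by
  refine eq_neg_of_add_eq_zero_left ?_
  rw [← scL_add_left (inP_neg ha) ha, scL_congr (neg_add_cancel a) (hb := inP_zero), scL_zero]

/-- Cancellation of a scalar. -/
theorem wT_scL {q : Q} (hq : InP q = true) (s t : lsub) :
    wT (scL q hq s : T) t = mulP q (wT (s : T) t) := by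
  refine emb_injective ?_
  rw [← qip_embV' (scL q hq s).2 t.2, emb_mulP hq (inP_wT s.2 t.2), coe_scL, embV_mulT hq s.2, qip_lmul,
    qip_embV' s.2 t.2]

theorem wT_swap (s t : lsub) : wT (t : T) s = star (wT (s : T) t) := by
  refine emb_injective ?_
  rw [emb_star, ← qip_embV' t.2 s.2, ← qip_embV' s.2 t.2, star_qip]

theorem wT_scL_right {q : Q} (hq : InP q = true) (s t : lsub) :
    wT (s : T) (scL q hq t : T) = mulP (wT (s : T) t) (star q) := by
  refine emb_injective ?_
  rw [← qip_embV' s.2 (scL q hq t).2, emb_mulP (inP_wT s.2 t.2) (inP_star hq), emb_star, coe_scL,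
    embV_mulT hq t.2, ← qip_embV' s.2 t.2]
  simp only [qip, Fin.sum_univ_three, star_mul, add_mul, mul_assoc]

theorem wT_add_left (a b t : lsub) : wT ((a + b : lsub) : T) t = wT (a : T) t + wT (b : T) t := by
  refine emb_injective ?_
  rw [emb_add, ← qip_embV' (a + b).2 t.2, ← qip_embV' a.2 t.2, ← qip_embV' b.2 t.2, AddSubgroup.coe_add,
    embV_add, qip_add]

/-- Permutation by the scalar. -/
noncomputable def zPerm : Equiv.Perm icoLeech :=
  (lsubEquiv.symm.trans
    { toFun := scL zT inP_zT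
      invFun := scL (star zT) (inP_star inP_zT)
      left_inv := fun t => by rw [scL_scL, scL_congr zP_checks.1 (hb := inP_two), scL_two]
      right_inv := fun t => by rw [scL_scL, scL_congr zP_checks.2.1 (hb := inP_two), scL_two] }).trans
    lsubEquiv

theorem lmap_zPerm (t : lsub) : lmap zPerm t = scL zT inP_zT t := by
  simp [lmap, zPerm]

theorem lmap_mul (f g : Equiv.Perm icoLeech) (t : lsub) : lmap (f * g) t = lmap f (lmap g t) := by
  simp [lmap]

theorem lmap_one (t : lsub) : lmap 1 t = t := by simp [lmap]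

theorem lmap_inv_lmap (f : Equiv.Perm icoLeech) (t : lsub) : lmap f⁻¹ (lmap f t) = t := by
  rw [← lmap_mul, inv_mul_cancel, lmap_one]

theorem ext_lmap {f g : Equiv.Perm icoLeech} (h : ∀ t, lmap f t = lmap g t) : f = g := by
  refine Equiv.ext fun x => ?_
  have := h (lsubEquiv.symm x)
  simpa [lmap] using this

theorem lsubEquiv_coe (t : lsub) : ((lsubEquiv t : icoLeech) : Fin 3 → ℍ[ℝ]) = embV t := rfl

theorem lmap_coe {f : Equiv.Perm icoLeech} (t : lsub) :
    ((f (lsubEquiv t) : icoLeech) : Fin 3 → ℍ[ℝ]) = embV (lmap f t) := by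
  rw [← lsubEquiv_coe, lsubEquiv_lmap]

theorem auto_lmap_add {g : Equiv.Perm icoLeech} (hg : g ∈ autGroup) (a b : lsub) :
    lmap g (a + b) = lmap g a + lmap g b := by
  refine Subtype.ext (embV_injective ?_)
  rw [AddSubgroup.coe_add, embV_add, ← lmap_coe, ← lmap_coe, ← lmap_coe]
  exact hg.1 _ _ _ (by rw [lsubEquiv_coe, lsubEquiv_coe, lsubEquiv_coe, AddSubgroup.coe_add, embV_add])

theorem auto_lmap_scL {g : Equiv.Perm icoLeech} (hg : g ∈ autGroup) {q : Q} (hq : InP q = true)
    (a : lsub) : lmap g (scL q hq a) = scL q hq (lmap g a) := by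
  refine Subtype.ext (embV_injective ?_)
  rw [coe_scL, embV_mulT hq (lmap g a).2, ← lmap_coe, ← lmap_coe]
  exact hg.2.1 _ (emb_mem hq) _ _ (by rw [lsubEquiv_coe, lsubEquiv_coe, coe_scL, embV_mulT hq a.2])

theorem auto_lmap_wT {g : Equiv.Perm icoLeech} (hg : g ∈ autGroup) (a b : lsub) :
    wT (lmap g a : T) (lmap g b) = wT (a : T) b := by
  refine emb_injective ?_
  rw [← qip_embV' (lmap g a).2 (lmap g b).2, ← qip_embV' a.2 b.2, ← lmap_coe, ← lmap_coe]
  exact hg.2.2 _ _

theorem twoJ2_le_isoGroup : twoJ2 ≤ isoGroup := fun g hg => by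
  have hg' := twoJ2_le_autGroup hg
  refine mem_isoGroup (auto_lmap_add hg') fun a => ?_
  rw [P_eq (lmap g a).2 (lmap g a).2, P_eq a.2 a.2, auto_lmap_wT hg']

theorem zPerm_mem : zPerm ∈ isoGroup := by
  refine mem_isoGroup (fun a b => ?_) fun a => ?_
  · rw [lmap_zPerm, lmap_zPerm, lmap_zPerm, scL_add_right]
  · rw [lmap_zPerm, P_eq (scL zT inP_zT a).2 (scL zT inP_zT a).2, P_eq a.2 a.2, wT_scL, wT_scL_right]
    obtain ⟨o, ho, e⟩ := exists_half_wT a.2 a.2
    have hs : star (wT (a : T) a) = wT (a : T) a := (wT_swap a a).symm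
    congr 2
    have h1 := congrArg QuaternionAlgebra.imI hs
    have h2 := congrArg QuaternionAlgebra.imJ hs
    have h3 := congrArg QuaternionAlgebra.imK hs
    have z0 : ∀ {x : Zt}, -x = x → x = 0 := fun {x} h => by
      have h1 := congrArg QuadraticAlgebra.re h
      have h2 := congrArg QuadraticAlgebra.im h
      simp only [QuadraticAlgebra.re_neg, QuadraticAlgebra.im_neg] at h1 h2
      exact QuadraticAlgebra.ext (by simp; omega) (by simp; omega)
    simp only [Quaternion.imI_star, Quaternion.imJ_star, Quaternion.imK_star] at h1 h2 h3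
    have hw : wT (a : T) a = ((wT (a : T) a).re : Q) :=
      QuaternionAlgebra.ext rfl (z0 h1) (z0 h2) (z0 h3)
    refine congrArg QuaternionAlgebra.re (emb_injective ?_)
    have hp := inP_wT a.2 a.2
    rw [emb_mulP inP_zT (mulP_spec hp (inP_star inP_zT)).2, emb_mulP hp (inP_star inP_zT)]
    have hc : emb (wT (a : T) a) * emb (star zT) = emb (star zT) * emb (wT (a : T) a) := by
      rw [← emb_mulP hp (inP_star inP_zT), ← emb_mulP (inP_star inP_zT) hp]
      refine congrArg emb ?_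
      rw [mulP, mulP, hw, ← (Quaternion.coe_commutes _ (star zT))]
    rw [hc, ← mul_assoc, ← emb_mulP inP_zT (inP_star inP_zT), zP_checks.2.1, emb_two, one_mul]

theorem zPerm_comm {g : Equiv.Perm icoLeech} (hg : g ∈ autGroup) : zPerm * g = g * zPerm :=
  ext_lmap fun t => by rw [lmap_mul, lmap_mul, lmap_zPerm, lmap_zPerm, auto_lmap_scL hg]

/-- The centraliser of the scalar. -/
noncomputable def centZ : Subgroup (Equiv.Perm icoLeech) :=
  isoGroup ⊓ Subgroup.centralizer {zPerm}

theorem twoJ2_le_centZ : twoJ2 ≤ centZ := fun g hg =>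
  ⟨twoJ2_le_isoGroup hg, by
    intro y hy
    rw [Set.mem_singleton_iff.1 hy]
    exact zPerm_comm (twoJ2_le_autGroup hg)⟩

theorem zPerm_mem_centZ : zPerm ∈ centZ :=
  ⟨zPerm_mem, fun y hy => by rw [Set.mem_singleton_iff.1 hy]⟩

theorem cent_lmap_zT {f : Equiv.Perm icoLeech} (hf : f ∈ centZ) (t : lsub) :
    lmap f (scL zT inP_zT t) = scL zT inP_zT (lmap f t) := by
  rw [← lmap_zPerm, ← lmap_zPerm, ← lmap_mul, ← lmap_mul]
  exact congrArg (fun g => lmap g t) (hf.2 zPerm rfl).symm

theorem cent_lmap_star {f : Equiv.Perm icoLeech} (hf : f ∈ centZ) (t : lsub) :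
    lmap f (scL (star zT) (inP_star inP_zT) t) = scL (star zT) (inP_star inP_zT) (lmap f t) := by
  set u := scL (star zT) (inP_star inP_zT) t
  have : t = scL zT inP_zT u := by
    rw [scL_scL, scL_congr zP_checks.2.1 (hb := inP_two), scL_two]
  rw [this, cent_lmap_zT hf, scL_scL, scL_congr zP_checks.1 (hb := inP_two), scL_two]

theorem re_mulP_golden (w : Q) :
    (mulP (zT + star zT) w).re = ⟨w.re.im - w.re.re, w.re.re⟩ := by
  have : zT + star zT = (⟨⟨-2, 2⟩, 0, 0, 0⟩ : Q) := by
    have h : (zT + star zT).re = ⟨-2, 2⟩ ∧ (zT + star zT).imI = 0 ∧ (zT + star zT).imJ = 0 ∧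
        (zT + star zT).imK = 0 := by decide +kernel
    exact QuaternionAlgebra.ext h.1 h.2.1 h.2.2.1 h.2.2.2
  rw [mulP_eq, this]
  simp only [mulF]
  refine QuadraticAlgebra.ext ?_ ?_ <;> simp <;> omega

/-- The real part of the product is invariant. -/
theorem cent_re {f : Equiv.Perm icoLeech} (hf : f ∈ centZ) (s t : lsub) :
    (wT (lmap f s : T) (lmap f t)).re = (wT (s : T) t).re := by
  have hl : ∀ a b : lsub, lam (wT (lmap f a : T) (lmap f b)).re = lam (wT (a : T) b).re := fun a b => by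
    have h := P_lmap hf.1 a b
    rw [P_eq (lmap f a).2 (lmap f b).2, P_eq a.2 b.2] at h
    omega
  have h1 := hl s t
  have h2 := hl (scL (zT + star zT) (inP_add inP_zT (inP_star inP_zT)) s) t
  have e : lmap f (scL (zT + star zT) (inP_add inP_zT (inP_star inP_zT)) s) =
      scL (zT + star zT) (inP_add inP_zT (inP_star inP_zT)) (lmap f s) := by
    rw [scL_add_left inP_zT (inP_star inP_zT), scL_add_left inP_zT (inP_star inP_zT), lmap_add hf.1,
      cent_lmap_zT hf, cent_lmap_star hf]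
  rw [e, wT_scL, wT_scL, re_mulP_golden, re_mulP_golden] at h2
  simp only [lam] at h1 h2
  exact QuadraticAlgebra.ext (by omega) (by omega)

theorem nsum_eq {t : lsub} : nsum (t : T) = (wT (t : T) t).re + (wT (t : T) t).re := by
  obtain ⟨a, b, c, -⟩ := (inL_iff (t : T)).1 t.2
  have key : ∀ {x : Q}, InP x = true → nrm x = (mulP x (star x)).re + (mulP x (star x)).re := by
    intro x hx
    have h := congrArg QuaternionAlgebra.re ((self_mul_star_coe x).symm.trans (mulP_spec hx (inP_star hx)).1)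
    rw [Quaternion.re_coe, two_mul, Quaternion.re_add] at h
    exact h
  rw [nsum, key a, key b, key c, wT, Quaternion.re_add, Quaternion.re_add]
  abel

/-- The axis. -/
def e0L : lsub := ⟨e0T, inL_e0T⟩

theorem lsubEquiv_e0L : lsubEquiv e0L = e0 := rfl

theorem qip_of_nsum {t : lsub} (h : nsum (t : T) = 16) :
    qip ((lsubEquiv t : icoLeech) : Fin 3 → ℍ[ℝ]) (lsubEquiv t : icoLeech) = 4 :=
  (qip_embV_iff _).2 h

theorem exists_mapL {t : lsub} (h : nsum (t : T) = 16) : ∃ g ∈ twoJ2, lmap g e0L = t := by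
  obtain ⟨g, hg, e⟩ := exists_map (qip_of_nsum h)
  exact ⟨g, hg, by rw [lmap, lsubEquiv_e0L, e, Equiv.symm_apply_apply]⟩

theorem wT_e0 (t : T) : wT t e0T = mulF t.1 4 := by
  have h : ∀ x : Q, mulP x (star 0) = 0 := fun x => by
    rw [star_zero, mulP, mul_zero]; rfl
  rw [wT, show e0T.2.1 = 0 from rfl, show e0T.2.2 = 0 from rfl, h, h, add_zero, add_zero,
    show star e0T.1 = 4 by decide +kernel, mulP_eq]

theorem exists_cand {t : lsub} (hn : nsum (t : T) = 16)
    (h1 : (wT (t : T) e0T).re = (wT (mulT iQ e0T) e0T).re)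
    (h2 : (wT (mulT zT (t : T)) e0T).re = (wT (mulT zT (mulT iQ e0T)) e0T).re) :
    ∃ k < 5, t = scL (ikQ k) (inP_ikQ k) e0L := by
  obtain ⟨j, hj, i, hi, e⟩ := exists_rep t.2 hn
  have hc : condF (mulF (unit j) (rep i).1) = true := by
    rw [condF, Bool.and_eq_true, decide_eq_true_eq, decide_eq_true_eq]
    rw [e, wT_e0] at h1
    rw [e, wT_e0] at h2
    rw [mulT_eq] at h1
    rw [mulT_eq, mulT_eq] at h2
    exact ⟨h1, h2⟩
  have hk := cand_check
  simp only [List.all_eq_true] at hk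
  have hr := hk (rep i) (by rw [rep_eq_getElem hi]; exact List.getElem_mem _)
  rw [Bool.or_eq_true, decide_eq_true_eq] at hr
  have := List.all_eq_true.1 (hr.resolve_left fun hlt => by
    obtain ⟨p0, -⟩ := (inL_iff _).1 (inL_rep hi)
    have hge := weight_ge (mulP_eq _ _ ▸ (mulP_spec (inP_unit hj) p0).2) hc
    have hu := nrm_mul (mulP_spec (inP_unit hj) p0).1
    rw [nrm_unit hj] at hu
    rw [weightF, ← mulP_eq, ← four_cancel hu] at hge
    rw [weightF] at hlt
    omega) (unit j) (unit_mem_unitTab hj)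
  rw [hc, Bool.not_true, Bool.false_or, List.contains_iff_mem, candList, List.mem_map] at this
  obtain ⟨k, hk5, ek⟩ := this
  refine ⟨k, List.mem_range.1 hk5, Subtype.ext ?_⟩
  rw [coe_scL, e, mulT_eq, mulT_eq]
  exact ek.symm

/-- The second scalar goes to one of its conjugates. -/
theorem exists_ik {f : Equiv.Perm icoLeech} (hf : f ∈ centZ) {s : lsub} (hs : nsum (s : T) = 16) :
    ∃ k < 5, lmap f (scL iQ inP_iQ s) = scL (ikQ k) (inP_ikQ k) (lmap f s) := by
  have hfs : nsum (lmap f s : T) = 16 := by rw [nsum_eq, cent_re hf, ← nsum_eq, hs]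
  obtain ⟨g, hg, e⟩ := exists_mapL hfs
  have hh : g⁻¹ * f ∈ centZ := mul_mem (inv_mem (twoJ2_le_centZ hg)) hf
  set h := g⁻¹ * f with hdef
  have e' : lmap h s = e0L := by rw [hdef, lmap_mul, ← e, lmap_inv_lmap]
  have hss : wT (s : T) s = wT e0T e0T := by
    refine emb_injective ?_
    rw [← qip_embV' s.2 s.2, ← qip_embV' inL_e0T inL_e0T]
    exact (qip_of_nsum hs).trans qip_e0.symm
  have hi : nsum (scL iQ inP_iQ s : T) = 16 := by
    rw [coe_scL, nsum_mulT inP_iQ (nrm_unit (by norm_num)) s.2, hs]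
  have hn : nsum (lmap h (scL iQ inP_iQ s) : T) = 16 := by rw [nsum_eq, cent_re hh, ← nsum_eq, hi]
  have h1 := cent_re hh (scL iQ inP_iQ s) s
  have h2 := cent_re hh (scL zT inP_zT (scL iQ inP_iQ s)) s
  rw [e', wT_scL inP_iQ s s, hss] at h1
  rw [e', cent_lmap_zT hh, wT_scL inP_zT (scL iQ inP_iQ s) s, wT_scL inP_iQ s s, hss] at h2
  obtain ⟨k, hk, ek⟩ := exists_cand hn (h1.trans (by decide +kernel)) (h2.trans (by decide +kernel))
  refine ⟨k, hk, ?_⟩
  have := congrArg (lmap g) ek
  rwa [auto_lmap_scL (twoJ2_le_autGroup hg), e, ← lmap_mul, hdef, mul_inv_cancel_left] at this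

theorem inP_zi (m : ℕ) : InP (mulP (zP m) iQ) = true := (mulP_spec (inP_zP m) inP_iQ).2

theorem cent_lmap_zP {f : Equiv.Perm icoLeech} (hf : f ∈ centZ) : ∀ (m : ℕ) (t : lsub),
    lmap f (scL (zP m) (inP_zP m) t) = scL (zP m) (inP_zP m) (lmap f t)
  | 0, t => (congrArg (lmap f) (scL_two t)).trans (scL_two (lmap f t)).symm
  | m + 1, t => by
    have e : ∀ u : lsub, scL (zP (m + 1)) (inP_zP (m + 1)) u = scL zT inP_zT (scL (zP m) (inP_zP m) u) :=
      fun u => (scL_scL inP_zT (inP_zP m) u).symm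
    rw [e, e, cent_lmap_zT hf, cent_lmap_zP hf m]

/-- Integral expressions of the basis in the span of the two scalars. -/
def spanCoef : List (List ℤ) :=
  [[0, 0, -1, 0, 0, 0, -1, -1], [0, -1, -1, -1, 1, 0, 0, 0], [0, 0, -1, -1, 0, 0, 0, -1],
    [1, 0, 0, 0, 1, 1, 0, 0], [1, 0, 0, 0, 0, 0, 0, 0], [0, 0, -1, -1, 0, 0, 0, 0],
    [0, 0, 0, 0, 1, 0, 0, 0], [0, 0, 0, 0, 0, 0, -1, -1]]

theorem span_check : ∀ j < 8, basisRow j =
    ((List.range 4).map fun m => (spanCoef.getD j []).getD m 0 • zP m +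
      (spanCoef.getD j []).getD (m + 4) 0 • mulP (zP m) iQ).sum := by
  decide +kernel

/-- If the second scalar commutes with the map at a vector, all scalars do. -/
theorem cent_scL_all {f : Equiv.Perm icoLeech} (hf : f ∈ centZ) {r : lsub}
    (hr : lmap f (scL iQ inP_iQ r) = scL iQ inP_iQ (lmap f r)) {q : Q} (hq : InP q = true) :
    lmap f (scL q hq r) = scL q hq (lmap f r) := by
  have hneg : ∀ u : lsub, lmap f (-u) = -lmap f u := fun u =>
    map_neg (AddMonoidHom.mk' (lmap f) (lmap_add hf.1)) u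
  let K : AddSubgroup Q :=
    { carrier := {x | ∃ hx : InP x = true, lmap f (scL x hx r) = scL x hx (lmap f r)}
      zero_mem' := ⟨inP_zero, by
        rw [scL_zero, scL_zero]
        exact map_zero (AddMonoidHom.mk' (lmap f) (lmap_add hf.1))⟩
      add_mem' := fun {a b} ⟨ha, ea⟩ ⟨hb, eb⟩ => ⟨inP_add ha hb, by
        rw [scL_add_left ha hb, scL_add_left ha hb, lmap_add hf.1, ea, eb]⟩
      neg_mem' := fun {a} ⟨ha, ea⟩ => ⟨inP_neg ha, by rw [scL_neg ha, scL_neg ha, hneg, ea]⟩ }
  have h1 : ∀ m, zP m ∈ K := fun m => ⟨inP_zP m, cent_lmap_zP hf m r⟩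
  have h2 : ∀ m, mulP (zP m) iQ ∈ K := fun m => ⟨inP_zi m, by
    rw [← scL_scL (inP_zP m) inP_iQ, cent_lmap_zP hf, hr, scL_scL]⟩
  have hle : span ≤ K := (AddSubgroup.closure_le _).2 fun x ⟨j, hj, e⟩ => by
    rw [e, span_check j hj]
    refine list_sum_mem fun y hy => ?_
    obtain ⟨m, -, rfl⟩ := List.mem_map.1 hy
    exact add_mem (zsmul_mem (h1 m) _) (zsmul_mem (h2 m) _)
  exact (hle (mem_span hq)).2

theorem re_mulP_star (a q : Q) : (mulP a (star q)).re =
    ⟨(a.re * q.re + a.imI * q.imI + a.imJ * q.imJ + a.imK * q.imK).re / 2,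
      (a.re * q.re + a.imI * q.imI + a.imJ * q.imJ + a.imK * q.imK).im / 2⟩ := by
  have h : (a * star q).re = a.re * q.re + a.imI * q.imI + a.imJ * q.imJ + a.imK * q.imK := by
    simp [Quaternion.re_mul]
    try ring
  rw [mulP, halve, h]

theorem components_of_re {a b : Q} (h : ∀ q, InP q = true → (mulP a (star q)).re = (mulP b (star q)).re) :
    a = b := by
  have key : ∀ q : Q, InP q = true →
      (a.re * q.re + a.imI * q.imI + a.imJ * q.imJ + a.imK * q.imK).re / 2 =
        (b.re * q.re + b.imI * q.imI + b.imJ * q.imJ + b.imK * q.imK).re / 2 ∧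
      (a.re * q.re + a.imI * q.imI + a.imJ * q.imJ + a.imK * q.imK).im / 2 =
        (b.re * q.re + b.imI * q.imI + b.imJ * q.imJ + b.imK * q.imK).im / 2 := fun q hq => by
    have e := h q hq
    rw [re_mulP_star, re_mulP_star] at e
    exact ⟨congrArg QuadraticAlgebra.re e, congrArg QuadraticAlgebra.im e⟩
  have h0 := key (⟨⟨2, 0⟩, 0, 0, 0⟩ : Q) (by decide +kernel)
  have hI := key (⟨0, ⟨2, 0⟩, 0, 0⟩ : Q) (by decide +kernel)
  have hJ := key (⟨0, 0, ⟨2, 0⟩, 0⟩ : Q) (by decide +kernel)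
  have hK := key (⟨0, 0, 0, ⟨2, 0⟩⟩ : Q) (by decide +kernel)
  simp at h0 hI hJ hK
  exact QuaternionAlgebra.ext (QuadraticAlgebra.ext h0.1 h0.2) (QuadraticAlgebra.ext hI.1 hI.2)
    (QuadraticAlgebra.ext hJ.1 hJ.2) (QuadraticAlgebra.ext hK.1 hK.2)

/-- A map fixing the first axis block keeps the products with it. -/
theorem cent_wT_e0 {f : Equiv.Perm icoLeech} (hf : f ∈ centZ)
    (h0 : ∀ (q : Q) (hq : InP q = true), lmap f (scL q hq e0L) = scL q hq e0L) (x : lsub) :
    wT (lmap f x : T) e0T = wT (x : T) e0T := by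
  refine components_of_re fun q hq => ?_
  have h := cent_re hf x (scL q hq e0L)
  rwa [h0, wT_scL_right, wT_scL_right] at h

/-- The vectors tying the axes together. -/
def linkVec : Fin 3 → ℕ := ![0, 0, 152]

theorem linkVec_lt : ∀ s : Fin 3, linkVec s < 315 := by decide

theorem link_check : ∀ s : Fin 3, s ≠ 0 →
    (wT (rep (linkVec s)) e0T ≠ 0 ∧
      ∃ q ∈ [star (rep (linkVec s)).2.1, star (rep (linkVec s)).2.2], InP q = true ∧
        axisT s = mulT q (rep (linkVec s)) + e0T) := by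
  decide +kernel

theorem cent_link {f : Equiv.Perm icoLeech} (hf : f ∈ centZ)
    (h0 : ∀ (q : Q) (hq : InP q = true), lmap f (scL q hq e0L) = scL q hq e0L) {r : lsub}
    (hn : nsum (r : T) = 16) (hw : wT (r : T) e0T ≠ 0) {q : Q} (hq : InP q = true) :
    lmap f (scL q hq r) = scL q hq (lmap f r) := by
  refine cent_scL_all hf ?_ hq
  obtain ⟨k, -, e⟩ := exists_ik hf hn
  have h1 := cent_wT_e0 hf h0 (scL iQ inP_iQ r)
  have h2 := cent_wT_e0 hf h0 r
  rw [e] at h1
  rw [show (e0T : T) = (e0L : lsub) from rfl] at h1 h2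
  rw [wT_scL, wT_scL, h2] at h1
  have h3 := congrArg emb h1
  rw [emb_mulP (inP_ikQ k) (inP_wT r.2 e0L.2), emb_mulP inP_iQ (inP_wT r.2 e0L.2)] at h3
  have hne : emb (wT (r : T) (e0L : lsub)) ≠ 0 := fun h => hw (emb_injective (h.trans emb_zero.symm))
  rw [e, scL_congr (emb_injective (mul_right_cancel₀ hne h3)) (hb := inP_iQ)]

/-- The axes in doubled coordinates. -/
def axL (s : Fin 3) : lsub := ⟨axisT s, inL_axisT s⟩

theorem double_eq (t : lsub) (h0 : InP (t : T).1 = true) (h1 : InP (t : T).2.1 = true)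
    (h2 : InP (t : T).2.2 = true) :
    t + t = scL (t : T).1 h0 (axL 0) + scL (t : T).2.1 h1 (axL 1) + scL (t : T).2.2 h2 (axL 2) := by
  refine Subtype.ext (embV_injective ?_)
  simp only [AddSubgroup.coe_add, embV_add, coe_scL]
  rw [embV_mulT h0 (axL 0).2, embV_mulT h1 (axL 1).2, embV_mulT h2 (axL 2).2]
  funext i
  simp only [Pi.add_apply, axL, embV_axisT]
  fin_cases i <;> simp [embV, mul_two]

theorem lsub_double_inj {a b : lsub} (h : a + a = b + b) : a = b := by
  refine Subtype.ext (coordT_inj fun i _ => ?_)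
  have h' := congrArg (coordHom i) (congrArg Subtype.val h)
  rw [AddSubgroup.coe_add, AddSubgroup.coe_add, map_add, map_add] at h'
  show coordHom i _ = coordHom i _
  omega

/-- A map fixing two scalar multiples of the axis is linear. -/
theorem mem_autGroup_of_fix {f : Equiv.Perm icoLeech} (hf : f ∈ centZ) (h0 : lmap f e0L = e0L)
    (h1 : lmap f (scL iQ inP_iQ e0L) = scL iQ inP_iQ e0L) : f ∈ autGroup := by
  have hfix : ∀ (q : Q) (hq : InP q = true), lmap f (scL q hq e0L) = scL q hq e0L := fun q hq =>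
    (cent_scL_all hf (h1.trans (by rw [h0])) hq).trans (by rw [h0])
  have hax : ∀ (s : Fin 3) (q : Q) (hq : InP q = true),
      lmap f (scL q hq (axL s)) = scL q hq (lmap f (axL s)) := by
    intro s q hq
    by_cases hs : s = 0
    · subst hs
      rw [show axL 0 = e0L from rfl, hfix, h0]
    · obtain ⟨hw, p, -, hp, e⟩ := link_check s hs
      have hlt : linkVec s < 315 := linkVec_lt s
      let r : lsub := ⟨rep (linkVec s), inL_rep hlt⟩
      have e' : axL s = scL p hp r + e0L := Subtype.ext (by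
        rw [AddSubgroup.coe_add, coe_scL]; exact e)
      have hl : ∀ (b : Q) (hb : InP b = true), lmap f (scL b hb r) = scL b hb (lmap f r) := fun b hb =>
        cent_link hf hfix (r := r) (nsum_rep hlt) hw hb
      rw [e', scL_add_right hq, lmap_add hf.1, lmap_add hf.1, scL_scL hq hp, hl, hl, hfix, h0,
        scL_add_right hq, scL_scL hq hp]
  have hlin : ∀ (q : Q) (hq : InP q = true) (t : lsub), lmap f (scL q hq t) = scL q hq (lmap f t) := by
    intro q hq t
    obtain ⟨a, b, c, -⟩ := (inL_iff (t : T)).1 t.2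
    have d := double_eq t a b c
    have hA : lmap f (t + t) = scL (t : T).1 a (lmap f (axL 0)) + scL (t : T).2.1 b (lmap f (axL 1)) +
        scL (t : T).2.2 c (lmap f (axL 2)) := by
      rw [d, lmap_add hf.1, lmap_add hf.1, hax 0, hax 1, hax 2]
    refine lsub_double_inj ?_
    calc lmap f (scL q hq t) + lmap f (scL q hq t) = lmap f (scL q hq (t + t)) := by
          rw [scL_add_right hq t t, lmap_add hf.1]
      _ = scL q hq (lmap f (t + t)) := by
          rw [hA, d, scL_add_right hq, scL_add_right hq, lmap_add hf.1, lmap_add hf.1,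
            scL_scL hq a, scL_scL hq b, scL_scL hq c, hax 0, hax 1, hax 2,
            scL_add_right hq, scL_add_right hq, scL_scL hq a, scL_scL hq b, scL_scL hq c]
      _ = scL q hq (lmap f t) + scL q hq (lmap f t) := by rw [lmap_add hf.1, scL_add_right hq]
  refine ⟨fun x y z h => ?_, fun a ha x z h => ?_, fun x y => ?_⟩
  · obtain ⟨x, rfl⟩ := lsubEquiv.surjective x
    obtain ⟨y, rfl⟩ := lsubEquiv.surjective y
    obtain ⟨z, rfl⟩ := lsubEquiv.surjective z
    rw [lsubEquiv_coe, lsubEquiv_coe, lsubEquiv_coe, ← embV_add, ← AddSubgroup.coe_add] at h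
    rw [lmap_coe, lmap_coe, lmap_coe, Subtype.ext (embV_injective h), lmap_add hf.1, AddSubgroup.coe_add,
      embV_add]
  · obtain ⟨q, hq, rfl⟩ := mem_icosians_iff.1 ha
    obtain ⟨x, rfl⟩ := lsubEquiv.surjective x
    obtain ⟨z, rfl⟩ := lsubEquiv.surjective z
    rw [lsubEquiv_coe, lsubEquiv_coe, ← embV_mulT hq x.2, ← coe_scL q hq] at h
    rw [lmap_coe, lmap_coe, Subtype.ext (embV_injective h), hlin, coe_scL, embV_mulT hq (lmap f x).2]
  · obtain ⟨x, rfl⟩ := lsubEquiv.surjective x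
    obtain ⟨y, rfl⟩ := lsubEquiv.surjective y
    rw [lmap_coe, lmap_coe, lsubEquiv_coe, lsubEquiv_coe, qip_embV' (lmap f x).2 (lmap f y).2,
      qip_embV' x.2 y.2]
    refine congrArg emb (components_of_re fun q hq => ?_)
    rw [← wT_scL_right hq, ← wT_scL_right hq, ← hlin]
    exact cent_re hf x _

theorem lmap_zPerm_pow : ∀ (k : ℕ) (t : lsub), lmap (zPerm ^ k) t = scL (zP k) (inP_zP k) t
  | 0, t => by rw [pow_zero, lmap_one]; exact (scL_two t).symm
  | k + 1, t => by
    rw [pow_succ', lmap_mul, lmap_zPerm_pow k, lmap_zPerm, scL_scL]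
    rfl

/-- The centraliser is generated by the scalar and the reflection group. -/
theorem exists_decomp {f : Equiv.Perm icoLeech} (hf : f ∈ centZ) :
    ∃ k, ∃ g ∈ twoJ2, f = g * zPerm ^ k := by
  have hn0 : nsum (e0L : T) = 16 := by decide +kernel
  obtain ⟨g1, hg1, e1⟩ := exists_mapL (t := lmap f e0L) (by rw [nsum_eq, cent_re hf, ← nsum_eq, hn0])
  have hf1 : g1⁻¹ * f ∈ centZ := mul_mem (inv_mem (twoJ2_le_centZ hg1)) hf
  have a0 : lmap (g1⁻¹ * f) e0L = e0L := by rw [lmap_mul, ← e1, lmap_inv_lmap]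
  obtain ⟨k, hk, ek⟩ := exists_ik hf1 hn0
  rw [a0] at ek
  have hns : ∀ j < 5, nsum (scL (star (zP j)) (inP_star (inP_zP j)) e0L : T) = 16 := by decide +kernel
  obtain ⟨g2, hg2, e2⟩ := exists_mapL (hns k hk)
  set h := zPerm ^ k * g2 with hh
  have hc : h ∈ centZ := mul_mem (pow_mem zPerm_mem_centZ k) (twoJ2_le_centZ hg2)
  have hz : mulP (zP k) (star (zP k)) = 2 := zP_checks.2.2.2 k hk
  have b0 : lmap h e0L = e0L := by
    rw [hh, lmap_mul, e2, lmap_zPerm_pow, scL_scL, scL_congr hz (hb := inP_two), scL_two]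
  have b1 : lmap h (scL iQ inP_iQ e0L) = scL (ikQ k) (inP_ikQ k) e0L := by
    rw [hh, lmap_mul, auto_lmap_scL (twoJ2_le_autGroup hg2), e2, lmap_zPerm_pow,
      scL_scL (inP_zP k) inP_iQ, scL_scL]
    exact scL_congr rfl _
  have hm : h⁻¹ * (g1⁻¹ * f) ∈ twoJ2 := by
    rw [← autGroup_eq]
    refine mem_autGroup_of_fix (mul_mem (inv_mem hc) hf1) ?_ ?_
    · rw [lmap_mul, a0]
      conv_lhs => rw [← b0]
      rw [lmap_inv_lmap]
    · rw [lmap_mul, ek, ← b1, lmap_inv_lmap]
  refine ⟨k, g1 * g2 * (h⁻¹ * (g1⁻¹ * f)), mul_mem (mul_mem hg1 hg2) hm, ?_⟩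
  set m := h⁻¹ * (g1⁻¹ * f) with hm'
  have hcomm : zPerm ^ k * (g2 * m) = g2 * m * zPerm ^ k :=
    (Commute.pow_left (zPerm_comm (twoJ2_le_autGroup (mul_mem hg2 hm))) k).eq
  calc f = g1 * (h * m) := by rw [hm']; group
    _ = g1 * (zPerm ^ k * (g2 * m)) := by rw [hh, mul_assoc]
    _ = g1 * g2 * m * zPerm ^ k := by rw [hcomm]; group

theorem zPerm_pow_five : zPerm ^ 5 = 1 := ext_lmap fun t => by
  rw [lmap_zPerm_pow, scL_congr zP_checks.2.2.1 (hb := inP_two), scL_two, lmap_one]

theorem zPerm_not_mem : zPerm ∉ twoJ2 := by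
  intro h
  have key : ∀ q : Q, ∀ hq : InP q = true, lmap zPerm e0L = scL q hq e0L → mulT zT e0T = mulT q e0T :=
    fun q hq e => congrArg Subtype.val ((lmap_zPerm e0L).symm.trans e)
  rcases central_cases h (fun g hg => (zPerm_comm (twoJ2_le_autGroup hg)).symm) with e | e
  · have h1 := congrArg (fun f => lmap f e0L) e
    rw [lmap_one] at h1
    have := key 2 inP_two (h1.trans (scL_two _).symm)
    revert this; decide +kernel
  · have hn : lmap negPerm e0L = scL (-2) (inP_neg inP_two) e0L := by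
      refine Subtype.ext (embV_injective ?_)
      rw [← lmap_coe, negPerm_apply, lsubEquiv_coe, coe_scL, embV_mulT (inP_neg inP_two) e0L.2, emb_neg,
        emb_two]
      funext i; simp
    have := key (-2) (inP_neg inP_two) ((congrArg (fun f => lmap f e0L) e).trans hn)
    revert this; decide +kernel

theorem zPerm_ne_one : zPerm ≠ 1 := fun e => zPerm_not_mem (e ▸ one_mem _)

end CfsgLib.Ico
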