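import Cfsg.Agent.Lib.Ico.Isometry

/-! The shortest vectors with the same golden products as a scalar multiple of the first axis. -/

set_option autoImplicit false
set_option maxHeartbeats 0

namespace CfsgLib.Ico

open Cfsg.Spor Quaternion

/-- A scalar of order five. -/
def zT : Q := unit 4

/-- A scalar of order four not commuting with the first. -/
def iQ : Q := unit 1

/-- The powers of the scalar. -/
def zP : ℕ → Q
  | 0 => 2
  | k + 1 => mulP zT (zP k)

/-- The conjugates of the second scalar. -/
def ikQ (k : ℕ) : Q := mulP (mulP (zP k) iQ) (star (zP k))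

/-- The test on a first coordinate. -/
def condF (a : Q) : Bool :=
  decide ((mulF a 4).re = (wT (mulT iQ e0T) e0T).re) &&
    decide ((mulF (mulF zT a) 4).re = (wT (mulT zT (mulT iQ e0T)) e0T).re)

/-- The five possible images. -/
def candList : List T := (List.range 5).map fun k => mulTF (ikQ k) e0T

/-- A weighted trace of the norm. -/
def weightF (q : Q) : ℤ :=
  3 * (nrm q).re - (nrm q).im

theorem cand_check : (repTab.all fun r => decide (weightF r.1 < 32) || unitTab.all fun u =>
    !condF (mulF u r.1) || candList.contains (mulTF u r)) = true := by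
  decide +kernel

theorem weight_square (x y : ℤ) : 0 ≤ 3 * (x * x + y * y) - (2 * (x * y) + y * y) := by
  nlinarith [mul_self_nonneg (x - y), mul_self_nonneg x, mul_self_nonneg y]

/-- A coordinate with the prescribed products has large weight. -/
theorem weight_ge {a : Q} (ha : InP a = true) (hc : condF a = true) : 32 ≤ weightF a := by
  have t1 : (wT (mulT iQ e0T) e0T).re = (⟨0, 0⟩ : Zt) := by decide +kernel
  have t2 : (wT (mulT zT (mulT iQ e0T)) e0T).re = (⟨-4, 0⟩ : Zt) := by decide +kernel
  have z : zT = (⟨⟨-1, 1⟩, ⟨1, 0⟩, ⟨0, -1⟩, ⟨0, 0⟩⟩ : Q) := rfl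
  have four : ∀ x : Q, (mulF x 4).re = ⟨x.re.re * 4 / 2, x.re.im * 4 / 2⟩ := fun x => by
    have h4 : (4 : Q) = ((4 : Zt) : Q) := rfl
    rw [← mulP_eq, h4]
    simp only [mulP, halve, Quaternion.re_mul, Quaternion.re_coe, Quaternion.imI_coe, Quaternion.imJ_coe,
      Quaternion.imK_coe]
    simp [show QuadraticAlgebra.re (4 : Zt) = 4 from rfl, show QuadraticAlgebra.im (4 : Zt) = 0 from rfl]
  simp only [condF, Bool.and_eq_true, decide_eq_true_eq, four, t1, t2] at hc
  obtain ⟨h0, h1⟩ := hc
  simp only [QuadraticAlgebra.ext_iff, mulF, z] at h0 h1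
  rw [inP_iff] at ha
  have e0 : a.re.re = 0 := by omega
  have e0' : a.re.im = 0 := by omega
  rw [e0, e0'] at h1 ha
  have es : a.imJ.im = a.imI.re - 4 := by omega
  have er : a.imJ.re = a.imI.im - a.imJ.im := by omega
  rw [weightF, (nrm_re_im a).1, (nrm_re_im a).2, e0, e0', er, es]
  have := weight_square a.imK.re a.imK.im
  nlinarith [mul_self_nonneg (5 * a.imI.im - 5 * a.imI.re + 16), mul_self_nonneg (5 * a.imI.re - 12)]

end CfsgLib.Ico
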