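import Cfsg.Agent.Lib.Ico.ScalarCent

/-!
The scalar of order five as an automorphism of the Leech lattice: its centraliser modulo the scalar
and the centre is the reflection group of the icosian lattice modulo its centre.
-/

set_option autoImplicit false

namespace CfsgLib.Ico

open Cfsg Cfsg.Spor Quaternion

/-- The scalar as an automorphism of the Leech lattice. -/
noncomputable def zaCo : Co0 := ⟨leechConj zPerm, zPerm_mem⟩

/-- The group of order five. -/
noncomputable def fiveSub : Subgroup Co0 := Subgroup.zpowers zaCo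

theorem zaCo_ne_one : zaCo ≠ 1 := fun h =>
  zPerm_ne_one (leechConj.injective ((congrArg Subtype.val h).trans (map_one leechConj).symm))

theorem zaCo_pow_five : zaCo ^ 5 = 1 := Subtype.ext (by
  rw [SubgroupClass.coe_pow, zaCo, ← map_pow, zPerm_pow_five, map_one, OneMemClass.coe_one])

theorem card_fiveSub : Nat.card fiveSub = 5 := by
  haveI : Fact (Nat.Prime 5) := ⟨by norm_num⟩
  rw [fiveSub, Nat.card_zpowers]
  exact orderOf_eq_prime zaCo_pow_five zaCo_ne_one

theorem mem_centralizer_fiveSub {x : Co0} :
    x ∈ Subgroup.centralizer (fiveSub : Set Co0) ↔ zaCo * x = x * zaCo := by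
  refine ⟨fun h => h zaCo (Subgroup.mem_zpowers zaCo), fun h y hy => ?_⟩
  obtain ⟨n, rfl⟩ := Subgroup.mem_zpowers_iff.1 hy
  exact (Commute.zpow_left h n).eq

/-- The normal subgroup generated by the scalar and the centre. -/
noncomputable def radSub : Subgroup (Subgroup.centralizer (fiveSub : Set Co0)) :=
  (fiveSub ⊔ Subgroup.center Co0).subgroupOf (Subgroup.centralizer (fiveSub : Set Co0))

theorem radSub_comm {m : Co0} (hm : m ∈ fiveSub ⊔ Subgroup.center Co0) {x : Co0}
    (hx : x ∈ Subgroup.centralizer (fiveSub : Set Co0)) : x * m = m * x := by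
  have h : fiveSub ⊔ Subgroup.center Co0 ≤ Subgroup.centralizer ({x} : Set Co0) := sup_le
    (fun a ha => Subgroup.mem_centralizer_singleton_iff.2 (hx a ha))
    fun a ha => Subgroup.mem_centralizer_singleton_iff.2 (Subgroup.mem_center_iff.1 ha x).symm
  exact (Subgroup.mem_centralizer_singleton_iff.1 (h hm)).symm

instance radSub_normal : radSub.Normal where
  conj_mem n hn g := by
    have h : g * n = n * g := Subtype.ext (radSub_comm (Subgroup.mem_subgroupOf.1 hn) g.2)
    rwa [h, mul_inv_cancel_right]

/-- The reflection group inside the centraliser of the scalar. -/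
noncomputable def toCentFive : twoJ2 →* Subgroup.centralizer (fiveSub : Set Co0) where
  toFun g := ⟨⟨leechConj g, twoJ2_le_isoGroup g.2⟩, mem_centralizer_fiveSub.2 (Subtype.ext (by
    show leechConj zPerm * leechConj g = leechConj g * leechConj zPerm
    rw [← map_mul, ← map_mul, zPerm_comm (twoJ2_le_autGroup g.2)]))⟩
  map_one' := Subtype.ext (Subtype.ext (map_one leechConj))
  map_mul' a b := Subtype.ext (Subtype.ext (map_mul leechConj (a : Equiv.Perm icoLeech) b))

theorem coe_toCentFive (g : twoJ2) :
    (((toCentFive g : Co0) : Equiv.Perm leechLattice)) = leechConj (g : Equiv.Perm icoLeech) := rfl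

/-- The reflection group onto the section. -/
noncomputable def toSection : twoJ2 →* Subgroup.centralizer (fiveSub : Set Co0) ⧸ radSub :=
  (QuotientGroup.mk' radSub).comp toCentFive

theorem toSection_surjective : Function.Surjective toSection := by
  intro q
  obtain ⟨x, rfl⟩ := QuotientGroup.mk_surjective q
  obtain ⟨f, hf⟩ := leechConj.surjective ((x : Co0) : Equiv.Perm leechLattice)
  have hcz : f ∈ centZ := ⟨show leechConj f ∈ Co0 from hf ▸ (x : Co0).2, fun y hy => by
    rw [Set.mem_singleton_iff.1 hy]
    refine leechConj.injective ?_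
    rw [map_mul, map_mul, hf]
    exact congrArg Subtype.val (mem_centralizer_fiveSub.1 x.2)⟩
  obtain ⟨k, g, hg, e⟩ := exists_decomp hcz
  refine ⟨⟨g, hg⟩, QuotientGroup.eq.2 (Subgroup.mem_subgroupOf.2 (Subgroup.mem_sup_left ?_))⟩
  refine ⟨k, Subtype.ext ?_⟩
  show ((zaCo ^ (k : ℤ) : Co0) : Equiv.Perm leechLattice) = (leechConj g)⁻¹ * ((x : Co0) : Equiv.Perm leechLattice)
  rw [zpow_natCast, SubgroupClass.coe_pow, zaCo, ← map_pow, ← hf, e, map_mul, inv_mul_cancel_left]

theorem lmap_negPerm (t : lsub) : lmap negPerm t = -t := by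
  refine Subtype.ext (embV_injective ?_)
  rw [← lmap_coe, negPerm_apply, lsubEquiv_coe, AddSubgroup.coe_neg]
  funext i
  fin_cases i <;> simp [embV, emb_neg]

theorem negPerm_central : (⟨leechConj negPerm, twoJ2_le_isoGroup negPerm_mem⟩ : Co0) ∈ Subgroup.center Co0 := by
  have h : ∀ v : leechLattice, leechConj negPerm v = -v := fun v => by
    obtain ⟨t, rfl⟩ := toLeech_surjective v
    rw [leechConj_toLeech, lmap_negPerm, map_neg]
  refine Subgroup.mem_center_iff.2 fun g => Subtype.ext (Equiv.ext fun v => ?_)
  show (g : Equiv.Perm leechLattice) (leechConj negPerm v) = leechConj negPerm ((g : Equiv.Perm leechLattice) v)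
  rw [h, h]
  exact Leech.smul_neg' g v

theorem ker_toSection : toSection.ker = Subgroup.center twoJ2 := by
  ext g
  rw [MonoidHom.mem_ker]
  show (QuotientGroup.mk (toCentFive g) : _ ⧸ radSub) = 1 ↔ _
  rw [QuotientGroup.eq_one_iff, radSub, Subgroup.mem_subgroupOf]
  constructor
  · intro hg
    refine Subgroup.mem_center_iff.2 fun h => Subtype.ext (leechConj.injective ?_)
    rw [Subgroup.coe_mul, Subgroup.coe_mul, map_mul, map_mul]
    exact congrArg Subtype.val (radSub_comm hg (toCentFive h).2)
  · intro hg
    refine Subgroup.mem_sup_right ?_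
    rcases central_cases g.2 (fun h hh =>
      congrArg Subtype.val (Subgroup.mem_center_iff.1 hg ⟨h, hh⟩)) with e | e
    · rw [show g = 1 from Subtype.ext e, map_one]
      exact one_mem _
    · rw [show g = ⟨negPerm, negPerm_mem⟩ from Subtype.ext e]
      exact negPerm_central

/-- The Hall–Janko group as a section of the automorphism group of the Leech lattice. -/
noncomputable def sectionEquiv : J2 ≃* Subgroup.centralizer (fiveSub : Set Co0) ⧸ radSub :=
  (QuotientGroup.quotientMulEquivOfEq ker_toSection.symm).trans
    (QuotientGroup.quotientKerEquivOfSurjective toSection toSection_surjective)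

end CfsgLib.Ico
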