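import Cfsg.Agent.Lib.Ico.Lattice
import Cfsg.Agent.Lib.Ico.Norm
import Cfsg.Agent.Lib.Ico.LineData

/-! Triples of doubled coordinates as vectors of the icosian lattice. -/

set_option autoImplicit false

namespace CfsgLib.Ico

open Cfsg.Spor Quaternion

/-- Vectors in doubled coordinates. -/
abbrev T : Type := Q × Q × Q

/-- The embedding of vectors. -/
noncomputable def embV (t : T) : Fin 3 → ℍ[ℝ] := ![emb t.1, emb t.2.1, emb t.2.2]

theorem embV_injective : Function.Injective embV := fun a b h => by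
  have h0 := congrFun h 0
  have h1 := congrFun h 1
  have h2 := congrFun h 2
  simp [embV] at h0 h1 h2
  exact Prod.ext (emb_injective h0) (Prod.ext (emb_injective h1) (emb_injective h2))

/-- Lattice membership. -/
def InL (t : T) : Bool :=
  InP t.1 && InP t.2.1 && InP t.2.2 && inIdeal genH (t.1 - t.2.1) && inIdeal genH (t.2.1 - t.2.2) &&
    inIdeal (star genH) (t.1 + t.2.1 + t.2.2)

theorem inL_iff (t : T) : InL t = true ↔ InP t.1 = true ∧ InP t.2.1 = true ∧ InP t.2.2 = true ∧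
    inIdeal genH (t.1 - t.2.1) = true ∧ inIdeal genH (t.2.1 - t.2.2) = true ∧
    inIdeal (star genH) (t.1 + t.2.1 + t.2.2) = true := by
  simp [InL, and_assoc]

theorem embV_mem_iff {t : T} (h0 : InP t.1 = true) (h1 : InP t.2.1 = true) (h2 : InP t.2.2 = true) :
    embV t ∈ icoLeech ↔ inIdeal genH (t.1 - t.2.1) = true ∧ inIdeal genH (t.2.1 - t.2.2) = true ∧
      inIdeal (star genH) (t.1 + t.2.1 + t.2.2) = true := by
  rw [← mem_leftIdeal_iff idealGen_genH.1, ← mem_leftIdeal_iff idealGen_genH.1,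
    ← mem_leftIdeal_iff idealGen_genH.2, emb_star, ← icoH_eq, emb_sub, emb_sub, emb_add, emb_add]
  refine ⟨fun ⟨_, a, b, c⟩ => ?_, fun ⟨a, b, c⟩ => ⟨fun i => ?_, ?_, ?_, ?_⟩⟩
  · simp [embV] at a b c
    exact ⟨a, b, c⟩
  · fin_cases i
    · exact emb_mem h0
    · exact emb_mem h1
    · exact emb_mem h2
  all_goals simpa [embV]

theorem mem_icoLeech_iff {v : Fin 3 → ℍ[ℝ]} : v ∈ icoLeech ↔ ∃ t, InL t = true ∧ embV t = v := by
  refine ⟨fun h => ?_, fun ⟨t, ht, e⟩ => ?_⟩
  · obtain ⟨a, ha, ea⟩ := mem_icosians_iff.1 (h.1 0)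
    obtain ⟨b, hb, eb⟩ := mem_icosians_iff.1 (h.1 1)
    obtain ⟨c, hc, ec⟩ := mem_icosians_iff.1 (h.1 2)
    have e : embV (a, b, c) = v := by
      funext i; fin_cases i <;> simp [embV, ea, eb, ec]
    refine ⟨(a, b, c), (inL_iff _).2 ⟨ha, hb, hc, ?_⟩, e⟩
    rw [← e] at h
    exact (embV_mem_iff (t := (a, b, c)) ha hb hc).1 h
  · obtain ⟨h0, h1, h2, h⟩ := (inL_iff t).1 ht
    exact e ▸ (embV_mem_iff h0 h1 h2).2 h

theorem embV_mem {t : T} (ht : InL t = true) : embV t ∈ icoLeech := mem_icoLeech_iff.2 ⟨t, ht, rfl⟩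

/-- Four times the Hermitian norm. -/
def nsum (t : T) : Zt := nrm t.1 + nrm t.2.1 + nrm t.2.2

theorem emb_mul_star (x : Q) : emb x * star (emb x) = ((φ (nrm x) / 4 : ℝ) : ℍ[ℝ]) := by
  rw [emb, Quaternion.star_smul, smul_mul_smul_comm, ← φq_star, ← map_mul, self_mul_star_coe]
  generalize hc : φ (nrm x) / 4 = c
  ext <;> simp
  rw [← hc]
  ring

theorem qip_embV_iff (t : T) : qip (embV t) (embV t) = 4 ↔ nsum t = 16 := by
  have h : qip (embV t) (embV t) = ((φ (nsum t) / 4 : ℝ) : ℍ[ℝ]) := by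
    rw [qip, Fin.sum_univ_three]
    simp only [embV, Matrix.cons_val_zero, Matrix.cons_val_one, Matrix.cons_val_two, Matrix.head_cons,
      Matrix.tail_cons, Matrix.cons_val, emb_mul_star, nsum, map_add, ← Quaternion.coe_add]
    congr 1
    ring
  rw [h, show (4 : ℍ[ℝ]) = (((4 : ℝ)) : ℍ[ℝ]) from (map_ofNat (algebraMap ℝ ℍ[ℝ]) 4).symm,
    Quaternion.coe_inj]
  constructor
  · intro e
    refine φ_injective ?_
    rw [map_ofNat]; linarith
  · intro e
    rw [e, map_ofNat]; norm_num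

/-- Left multiplication by a doubled quaternion. -/
def mulT (u : Q) (t : T) : T := (mulP u t.1, mulP u t.2.1, mulP u t.2.2)

theorem embV_mulT {u : Q} {t : T} (hu : InP u = true) (ht : InL t = true) :
    embV (mulT u t) = fun i => emb u * embV t i := by
  obtain ⟨h0, h1, h2, -⟩ := (inL_iff t).1 ht
  funext i
  fin_cases i <;> simp [embV, mulT, emb_mulP, hu, h0, h1, h2]

theorem inL_mulT {u : Q} {t : T} (hu : InP u = true) (ht : InL t = true) : InL (mulT u t) = true := by
  obtain ⟨s, hs, e⟩ := mem_icoLeech_iff.1 (smul_mem_icoLeech (emb_mem hu) (embV_mem ht))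
  rw [← embV_mulT hu ht] at e
  rwa [← embV_injective e]

theorem mulT_mulT {u v : Q} {t : T} (hu : InP u = true) (hv : InP v = true) (ht : InL t = true) :
    mulT u (mulT v t) = mulT (mulP u v) t := by
  refine embV_injective ?_
  rw [embV_mulT hu (inL_mulT hv ht), embV_mulT (mulP_spec hu hv).2 ht, embV_mulT hv ht, emb_mulP hu hv]
  funext i
  rw [mul_assoc]

theorem mulT_two {t : T} (ht : InL t = true) : mulT 2 t = t := by
  refine embV_injective ?_
  rw [embV_mulT inP_two ht, emb_two]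
  simp

theorem nsum_mulT {u : Q} {t : T} (hu : InP u = true) (hn : nrm u = 4) (ht : InL t = true) :
    nsum (mulT u t) = nsum t := by
  obtain ⟨h0, h1, h2, -⟩ := (inL_iff t).1 ht
  have key : ∀ x, InP x = true → nrm (mulP u x) = nrm x := fun x hx => by
    have h := nrm_mul (mulP_spec hu hx).1
    rw [hn] at h
    exact (four_cancel h).symm
  simp only [nsum, mulT, key _ h0, key _ h1, key _ h2]

theorem unit_star_mulT {k : ℕ} (hk : k < 120) {t : T} (ht : InL t = true) :
    mulT (unit k) (mulT (star (unit k)) t) = t := by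
  rw [mulT_mulT (inP_unit hk) (inP_star (inP_unit hk)) ht]
  have : mulP (unit k) (star (unit k)) = 2 := by
    rw [mulP, unit_mul_star hk]; decide +kernel
  rw [this, mulT_two ht]

end CfsgLib.Ico
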