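import Cfsg.Agent.Lib.Ico.U33Data
import Cfsg.Agent.Lib.Ico.Bridge
import Cfsg.Agent.Lib.UnitaryThreeThree.Lines

/-! The point stabiliser of the Hall–Janko group on 100 points is the unitary group of degree three over nine elements. -/

set_option autoImplicit false

set_option maxHeartbeats 400000

namespace CfsgLib.Ico.U33

open CfsgLib.Comp Matrix

/-- The coded stabiliser. -/
noncomputable def stab : Subgroup (Equiv.Perm (Fin 100)) := PermCode.span 100 stabGens

/-- The coded group on 63 points. -/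
noncomputable def unitary : Subgroup (Equiv.Perm (Fin 63)) := PermCode.span 63 unitaryGens

theorem bijective_of_span {A : Type*} [Group A] [Finite A] (φ : A →* Equiv.Perm (Fin 63))
    (hA : Nat.card A = 6048) (hle : unitary ≤ φ.range) : φ.range = unitary ∧ Function.Injective φ := by
  have h1 : Nat.card φ.range ≤ 6048 :=
    hA ▸ Nat.card_le_card_of_surjective φ.rangeRestrict φ.rangeRestrict_surjective
  have h2 : Nat.card unitary = 6048 := unitary_card
  have e : unitary = φ.range := Subgroup.eq_of_le_of_card_ge hle (h2 ▸ h1)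
  refine ⟨e.symm, ?_⟩
  have hb : Function.Bijective φ.rangeRestrict :=
    (Nat.bijective_iff_surjective_and_card _).2 ⟨φ.rangeRestrict_surjective, by rw [← e, h2, hA]⟩
  exact fun a b h => hb.1 (Subtype.ext h)

/-! ### the unitary side -/

section
open CfsgLib.UThree

/-- Check that a tabulated element moves a line as a code does. -/
def rowOk (i s r : ℕ) : Bool :=
  anyLt 8 fun k => beqV (smulc (expc k) (nonData.getD (PermCode.get s r) (0, 0, 0)))
    (appc (eltc i) (nonData.getD r (0, 0, 0)))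

theorem unitary_rows : PermCode.allLt 2 (fun j =>
    PermCode.okb 63 (unitaryGens.getD j 0) && Nat.blt (idxTab.getD j 0) 6048 &&
      PermCode.allLt 63 (rowOk (idxTab.getD j 0) (unitaryGens.getD j 0))) = true := by
  decide +kernel

variable {F : Type} [Field F] [Fintype F] (D : Nine F)

theorem decV_appc (A : M3) (v : C3) : D.decV (appc A v) = D.decM A *ᵥ D.decV v := by
  funext k
  fin_cases k <;> simp [Nine.decV, Nine.decM, appc, dotc, dec_add, dec_mul, mulVec, dotProduct,
    Fin.sum_univ_three]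

theorem unitary_le : unitary ≤ (D.lineHom non).range := by
  refine (Subgroup.closure_le _).2 ?_
  rintro _ ⟨s, hs, rfl⟩
  obtain ⟨j, hj, rfl⟩ : ∃ j < 2, unitaryGens.getD j 0 = s := by
    obtain ⟨n, hn, e⟩ := List.mem_iff_getElem.1 hs
    exact ⟨n, hn, by rw [← e]; exact List.getD_eq_getElem ..⟩
  have h := PermCode.allLt_spec unitary_rows j hj
  simp only [Bool.and_eq_true, Nat.blt_eq] at h
  obtain ⟨⟨hok, hi⟩, hr⟩ := h
  refine ⟨D.elt ⟨_, hi⟩, ?_⟩
  refine (PermCode.val_eq_of hok _ fun r => ?_).symm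
  obtain ⟨k, hk, e⟩ := anyLt_spec.1 (PermCode.allLt_spec hr r r.2)
  rw [beqV_iff] at e
  have hlt : PermCode.get (unitaryGens.getD j 0) r < 63 := (PermCode.ok_of_okb hok).1 r r.2
  have himg : D.img non (D.elt ⟨_, hi⟩) r = (⟨_, hlt⟩, ⟨k, hk⟩) := by
    refine img_eq D non ?_
    show D.decM (eltc (idxTab.getD j 0)) *ᵥ D.decV (nonData.getD (r : ℕ) (0, 0, 0)) =
      D.sc k • D.decV (nonData.getD (PermCode.get (unitaryGens.getD j 0) r) (0, 0, 0))
    rw [← decV_appc, ← e, decV_smul]
    rfl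
  show ((D.img non (D.elt ⟨_, hi⟩) r).1 : ℕ) = _
  rw [himg]

include D in
theorem nonempty_equiv_SU : Nonempty (Cfsg.SU 3 F 3 ≃* unitary) := by
  have : Finite (Cfsg.SU 3 F 3) := Nat.finite_of_card_ne_zero (by rw [card_SU D]; norm_num)
  obtain ⟨e, hinj⟩ := bijective_of_span (D.lineHom non) (card_SU D) (unitary_le D)
  exact ⟨(MonoidHom.ofInjective hinj).trans (MulEquiv.subgroupCongr e)⟩

include D in
theorem nonempty_equiv_PSU : Nonempty (Cfsg.PSU 3 F 3 ≃* unitary) := by
  obtain ⟨e⟩ := nonempty_equiv_SU D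
  exact ⟨((QuotientGroup.quotientMulEquivOfEq (center_SU D)).trans QuotientGroup.quotientBot).trans e⟩

end

/-! ### the stabiliser side -/

theorem stab_gens_check : stabGens.all (fun s =>
    PermCode.okb 100 s && PermCode.sift 100 J2Perm.j2Chain s && Nat.beq (PermCode.get s 0) 0 &&
      PermCode.allLt 63 fun v => Nat.ble 37 (PermCode.get s (v + 37))) = true := by
  decide +kernel

theorem stab_le : stab ≤ J2Perm.J2sub := by
  refine (Subgroup.closure_le _).2 ?_
  rintro _ ⟨s, hs, rfl⟩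
  have h := List.all_eq_true.1 stab_gens_check s hs
  simp only [Bool.and_eq_true] at h
  exact PermCode.mem_span J2Perm.j2_check h.1.1.1 h.1.1.2

/-- The property kept by the stabiliser. -/
def Keeps (g : Equiv.Perm (Fin 100)) : Prop := g 0 = 0 ∧ ∀ x : Fin 100, 37 ≤ (x : ℕ) ↔ 37 ≤ (g x : ℕ)

theorem keeps_of_mem {g : Equiv.Perm (Fin 100)} (hg : g ∈ stab) : Keeps g := by
  induction hg using Subgroup.closure_induction with
  | mem g hg =>
    obtain ⟨s, hs, rfl⟩ := hg
    have h := List.all_eq_true.1 stab_gens_check s hs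
    simp only [Bool.and_eq_true, Nat.beq_eq] at h
    obtain ⟨⟨⟨hok, -⟩, h0⟩, hb⟩ := h
    have ho := PermCode.ok_of_okb hok
    have hfwd : ∀ x : {x : Fin 100 // 37 ≤ (x : ℕ)}, 37 ≤ (PermCode.val 100 s x.1 : ℕ) := fun x => by
      rw [PermCode.val_apply ho]
      have h := PermCode.allLt_spec hb ((x.1 : ℕ) - 37) (by have := x.1.2; omega)
      rw [Nat.sub_add_cancel x.2, Nat.ble_eq] at h
      exact h
    refine ⟨Fin.ext (by rw [PermCode.val_apply ho]; exact h0), fun x => ⟨fun hx => hfwd ⟨x, hx⟩, fun hx => ?_⟩⟩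
    have hinj : Function.Injective
        (fun z : {x : Fin 100 // 37 ≤ (x : ℕ)} => (⟨_, hfwd z⟩ : {x : Fin 100 // 37 ≤ (x : ℕ)})) :=
      fun a b h => Subtype.ext ((PermCode.val 100 s).injective (congrArg Subtype.val h))
    obtain ⟨y, hy⟩ := Finite.injective_iff_surjective.1 hinj ⟨_, hx⟩
    have := (PermCode.val 100 s).injective (congrArg Subtype.val hy)
    exact this ▸ y.2
  | one => exact ⟨rfl, fun x => Iff.rfl⟩
  | mul a b _ _ ha hb =>
    exact ⟨by rw [Equiv.Perm.mul_apply, hb.1, ha.1], fun x => (hb.2 x).trans (ha.2 _)⟩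
  | inv a _ ha =>
    refine ⟨Equiv.Perm.inv_eq_iff_eq.2 ha.1.symm, fun x => ?_⟩
    conv_lhs => rw [← Equiv.apply_symm_apply a x]
    exact (ha.2 _).symm

theorem adj_check : PermCode.allLt 63 (fun v => Nat.blt (adjTab.getD v 0) 63 && Nat.blt (adjInvTab.getD v 0) 63 &&
    Nat.beq (adjInvTab.getD (adjTab.getD v 0) 0) v && Nat.beq (adjTab.getD (adjInvTab.getD v 0) 0) v) = true := by
  decide +kernel

theorem adj_spec {v : ℕ} (hv : v < 63) : adjTab.getD v 0 < 63 ∧ adjInvTab.getD v 0 < 63 ∧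
    adjInvTab.getD (adjTab.getD v 0) 0 = v ∧ adjTab.getD (adjInvTab.getD v 0) 0 = v := by
  have h := PermCode.allLt_spec adj_check v hv
  simp only [Bool.and_eq_true, Nat.blt_eq, Nat.beq_eq] at h
  exact ⟨h.1.1.1, h.1.1.2, h.1.2, h.2⟩

/-- The 63 far points as numbers of lines. -/
def relabel : {x : Fin 100 // 37 ≤ (x : ℕ)} ≃ Fin 63 where
  toFun x := ⟨adjTab.getD ((x.1 : ℕ) - 37) 0, (adj_spec (by have := x.1.2; have := x.2; omega)).1⟩
  invFun p := ⟨⟨adjInvTab.getD p 0 + 37, by have := (adj_spec p.2).2.1; omega⟩, Nat.le_add_left _ _⟩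
  left_inv x := Subtype.ext (Fin.ext (by
    show adjInvTab.getD (adjTab.getD ((x.1 : ℕ) - 37) 0) 0 + 37 = (x.1 : ℕ)
    rw [(adj_spec (by have := x.1.2; have := x.2; omega)).2.2.1, Nat.sub_add_cancel x.2]))
  right_inv p := Fin.ext (by
    show adjTab.getD (adjInvTab.getD p 0 + 37 - 37) 0 = (p : ℕ)
    rw [Nat.add_sub_cancel, (adj_spec p.2).2.2.2])

/-- Restriction to the far points. -/
def farSub (K : Subgroup (Equiv.Perm (Fin 100))) (hK : ∀ g ∈ K, Keeps g) :
    K →* Equiv.Perm {x : Fin 100 // 37 ≤ (x : ℕ)} where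
  toFun g := Equiv.Perm.subtypePerm (g : Equiv.Perm (Fin 100)) fun x => ((hK _ g.2).2 x).symm
  map_one' := Equiv.ext fun _ => rfl
  map_mul' _ _ := Equiv.ext fun _ => rfl

theorem farSub_apply (K : Subgroup (Equiv.Perm (Fin 100))) (hK : ∀ g ∈ K, Keeps g) (g : K) (p : Fin 63) :
    ((relabel.permCongrHom.toMonoidHom.comp (farSub K hK)) g p : ℕ) =
      adjTab.getD (((g : Equiv.Perm (Fin 100)) (relabel.symm p).1 : ℕ) - 37) 0 := by
  have e : ∀ x, (relabel x : ℕ) = adjTab.getD ((x.1 : ℕ) - 37) 0 := fun x => by simp only [relabel, Equiv.coe_fn_mk]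
  have h : (relabel.permCongrHom.toMonoidHom.comp (farSub K hK)) g p = relabel (farSub K hK g (relabel.symm p)) := by
    simp [Equiv.permCongrHom]
  rw [h, e]
  congr 2

/-- The action of the stabiliser on the 63 far points. -/
noncomputable def farHom : stab →* Equiv.Perm (Fin 63) :=
  (relabel.permCongrHom.toMonoidHom).comp (farSub stab fun _ hg => keeps_of_mem hg)

theorem farHom_apply (g : stab) (p : Fin 63) :
    (farHom g p : ℕ) = adjTab.getD (((g : Equiv.Perm (Fin 100)) (relabel.symm p).1 : ℕ) - 37) 0 :=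
  farSub_apply stab _ g p

theorem far_gens_check : PermCode.allLt 2 (fun j =>
    PermCode.okb 100 (stabGens.getD j 0) && PermCode.okb 63 (unitaryGens.getD j 0) &&
      PermCode.allLt 63 fun p => Nat.beq
        (adjTab.getD (PermCode.get (stabGens.getD j 0) (adjInvTab.getD p 0 + 37) - 37) 0)
        (PermCode.get (unitaryGens.getD j 0) p)) = true := by
  decide +kernel

theorem unitary_le_far : unitary ≤ farHom.range := by
  refine (Subgroup.closure_le _).2 ?_
  rintro _ ⟨s, hs, rfl⟩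
  obtain ⟨n, hn, rfl⟩ := List.mem_iff_getElem.1 hs
  have hn2 : n < 2 := hn
  have hlen : n < stabGens.length := hn2
  have h := PermCode.allLt_spec far_gens_check n hn2
  rw [List.getD_eq_getElem (hn := hn), List.getD_eq_getElem (hn := hlen)] at h
  simp only [Bool.and_eq_true] at h
  obtain ⟨⟨h1, h2⟩, h3⟩ := h
  refine ⟨⟨_, PermCode.one_le 100 stabGens (List.getElem_mem hlen)⟩, ?_⟩
  refine (PermCode.val_eq_of h2 _ fun p => ?_).symm
  rw [farHom_apply, PermCode.val_apply (PermCode.ok_of_okb h1)]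
  exact Nat.eq_of_beq_eq_true (PermCode.allLt_spec h3 p p.2)

theorem card_stab : Nat.card stab = 6048 := stab_card

theorem nonempty_stab_equiv : Nonempty (stab ≃* unitary) := by
  obtain ⟨e, hinj⟩ := bijective_of_span farHom card_stab unitary_le_far
  exact ⟨(MonoidHom.ofInjective hinj).trans (MulEquiv.subgroupCongr e)⟩

end CfsgLib.Ico.U33
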