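import Cfsg.Agent.Lib.Ico.Coord

/-! Certificate tables for the icosian ring. -/

set_option autoImplicit false
set_option maxRecDepth 8000

namespace CfsgLib.Ico

/-- The 120 elements of norm one, doubled. -/
def unitTab : List Q :=
  [
  ⟨⟨2, 0⟩, ⟨0, 0⟩, ⟨0, 0⟩, ⟨0, 0⟩⟩, ⟨⟨0, 0⟩, ⟨2, 0⟩, ⟨0, 0⟩, ⟨0, 0⟩⟩,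
  ⟨⟨1, 0⟩, ⟨1, -1⟩, ⟨0, 0⟩, ⟨0, 1⟩⟩, ⟨⟨-2, 0⟩, ⟨0, 0⟩, ⟨0, 0⟩, ⟨0, 0⟩⟩,
  ⟨⟨-1, 1⟩, ⟨1, 0⟩, ⟨0, -1⟩, ⟨0, 0⟩⟩, ⟨⟨-1, 1⟩, ⟨1, 0⟩, ⟨0, 1⟩, ⟨0, 0⟩⟩,
  ⟨⟨-1, 0⟩, ⟨1, -1⟩, ⟨0, 0⟩, ⟨0, 1⟩⟩, ⟨⟨0, 0⟩, ⟨-2, 0⟩, ⟨0, 0⟩, ⟨0, 0⟩⟩,
  ⟨⟨-1, 0⟩, ⟨-1, 1⟩, ⟨0, 0⟩, ⟨0, -1⟩⟩, ⟨⟨-1, 0⟩, ⟨-1, 1⟩, ⟨0, 0⟩, ⟨0, 1⟩⟩,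
  ⟨⟨-1, 1⟩, ⟨-1, 0⟩, ⟨0, -1⟩, ⟨0, 0⟩⟩, ⟨⟨-1, 1⟩, ⟨0, 1⟩, ⟨0, 0⟩, ⟨1, 0⟩⟩,
  ⟨⟨-1, 1⟩, ⟨-1, 0⟩, ⟨0, 1⟩, ⟨0, 0⟩⟩, ⟨⟨1, -1⟩, ⟨-1, 0⟩, ⟨0, 1⟩, ⟨0, 0⟩⟩,
  ⟨⟨1, -1⟩, ⟨-1, 0⟩, ⟨0, -1⟩, ⟨0, 0⟩⟩, ⟨⟨1, 0⟩, ⟨-1, 1⟩, ⟨0, 0⟩, ⟨0, -1⟩⟩,
  ⟨⟨0, -1⟩, ⟨-1, 1⟩, ⟨-1, 0⟩, ⟨0, 0⟩⟩, ⟨⟨1, 0⟩, ⟨-1, 1⟩, ⟨0, 0⟩, ⟨0, 1⟩⟩,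
  ⟨⟨0, -1⟩, ⟨-1, 1⟩, ⟨1, 0⟩, ⟨0, 0⟩⟩, ⟨⟨0, 0⟩, ⟨-1, 1⟩, ⟨0, -1⟩, ⟨1, 0⟩⟩,
  ⟨⟨0, 0⟩, ⟨-1, 1⟩, ⟨0, 1⟩, ⟨1, 0⟩⟩, ⟨⟨1, 0⟩, ⟨1, -1⟩, ⟨0, 0⟩, ⟨0, -1⟩⟩,
  ⟨⟨1, -1⟩, ⟨1, 0⟩, ⟨0, 1⟩, ⟨0, 0⟩⟩, ⟨⟨1, -1⟩, ⟨0, -1⟩, ⟨0, 0⟩, ⟨-1, 0⟩⟩,
  ⟨⟨1, -1⟩, ⟨1, 0⟩, ⟨0, -1⟩, ⟨0, 0⟩⟩, ⟨⟨1, -1⟩, ⟨0, -1⟩, ⟨0, 0⟩, ⟨1, 0⟩⟩,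
  ⟨⟨1, -1⟩, ⟨0, 0⟩, ⟨-1, 0⟩, ⟨0, -1⟩⟩, ⟨⟨1, -1⟩, ⟨0, 0⟩, ⟨-1, 0⟩, ⟨0, 1⟩⟩,
  ⟨⟨1, -1⟩, ⟨0, 1⟩, ⟨0, 0⟩, ⟨-1, 0⟩⟩, ⟨⟨1, -1⟩, ⟨0, 0⟩, ⟨1, 0⟩, ⟨0, 1⟩⟩,
  ⟨⟨1, -1⟩, ⟨0, 0⟩, ⟨1, 0⟩, ⟨0, -1⟩⟩, ⟨⟨1, -1⟩, ⟨0, 1⟩, ⟨0, 0⟩, ⟨1, 0⟩⟩,
  ⟨⟨0, 1⟩, ⟨1, -1⟩, ⟨1, 0⟩, ⟨0, 0⟩⟩, ⟨⟨-1, 0⟩, ⟨1, -1⟩, ⟨0, 0⟩, ⟨0, -1⟩⟩,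
  ⟨⟨0, 1⟩, ⟨1, -1⟩, ⟨-1, 0⟩, ⟨0, 0⟩⟩, ⟨⟨0, 0⟩, ⟨1, -1⟩, ⟨0, 1⟩, ⟨-1, 0⟩⟩,
  ⟨⟨0, 0⟩, ⟨1, -1⟩, ⟨0, -1⟩, ⟨-1, 0⟩⟩, ⟨⟨0, -1⟩, ⟨1, -1⟩, ⟨1, 0⟩, ⟨0, 0⟩⟩,
  ⟨⟨0, 0⟩, ⟨1, -1⟩, ⟨0, -1⟩, ⟨1, 0⟩⟩, ⟨⟨0, 0⟩, ⟨1, -1⟩, ⟨0, 1⟩, ⟨1, 0⟩⟩,
  ⟨⟨0, -1⟩, ⟨1, -1⟩, ⟨-1, 0⟩, ⟨0, 0⟩⟩, ⟨⟨1, 0⟩, ⟨1, 0⟩, ⟨-1, 0⟩, ⟨-1, 0⟩⟩,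
  ⟨⟨0, -1⟩, ⟨1, 0⟩, ⟨0, 0⟩, ⟨-1, 1⟩⟩, ⟨⟨1, 0⟩, ⟨1, 0⟩, ⟨1, 0⟩, ⟨-1, 0⟩⟩,
  ⟨⟨-1, 1⟩, ⟨0, 1⟩, ⟨0, 0⟩, ⟨-1, 0⟩⟩, ⟨⟨-1, 1⟩, ⟨0, 0⟩, ⟨1, 0⟩, ⟨0, 1⟩⟩,
  ⟨⟨-1, 1⟩, ⟨0, 0⟩, ⟨1, 0⟩, ⟨0, -1⟩⟩, ⟨⟨-1, 1⟩, ⟨0, -1⟩, ⟨0, 0⟩, ⟨1, 0⟩⟩,
  ⟨⟨-1, 1⟩, ⟨0, 0⟩, ⟨-1, 0⟩, ⟨0, -1⟩⟩, ⟨⟨-1, 1⟩, ⟨0, 0⟩, ⟨-1, 0⟩, ⟨0, 1⟩⟩,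
  ⟨⟨-1, 1⟩, ⟨0, -1⟩, ⟨0, 0⟩, ⟨-1, 0⟩⟩, ⟨⟨-1, 0⟩, ⟨1, 0⟩, ⟨1, 0⟩, ⟨-1, 0⟩⟩,
  ⟨⟨-1, 0⟩, ⟨0, -1⟩, ⟨1, -1⟩, ⟨0, 0⟩⟩, ⟨⟨-1, 0⟩, ⟨1, 0⟩, ⟨1, 0⟩, ⟨1, 0⟩⟩,
  ⟨⟨-1, 0⟩, ⟨1, 0⟩, ⟨-1, 0⟩, ⟨1, 0⟩⟩, ⟨⟨-1, 0⟩, ⟨0, -1⟩, ⟨-1, 1⟩, ⟨0, 0⟩⟩,
  ⟨⟨-1, 0⟩, ⟨1, 0⟩, ⟨-1, 0⟩, ⟨-1, 0⟩⟩, ⟨⟨0, 1⟩, ⟨1, 0⟩, ⟨0, 0⟩, ⟨-1, 1⟩⟩,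
  ⟨⟨0, 1⟩, ⟨-1, 1⟩, ⟨-1, 0⟩, ⟨0, 0⟩⟩, ⟨⟨0, 0⟩, ⟨-1, 1⟩, ⟨0, 1⟩, ⟨-1, 0⟩⟩,
  ⟨⟨0, 0⟩, ⟨-1, 1⟩, ⟨0, -1⟩, ⟨-1, 0⟩⟩, ⟨⟨0, 1⟩, ⟨-1, 1⟩, ⟨1, 0⟩, ⟨0, 0⟩⟩,
  ⟨⟨-1, 0⟩, ⟨-1, 0⟩, ⟨1, 0⟩, ⟨1, 0⟩⟩, ⟨⟨0, 1⟩, ⟨-1, 0⟩, ⟨0, 0⟩, ⟨1, -1⟩⟩,
  ⟨⟨-1, 0⟩, ⟨-1, 0⟩, ⟨-1, 0⟩, ⟨1, 0⟩⟩, ⟨⟨-1, 0⟩, ⟨-1, 0⟩, ⟨-1, 0⟩, ⟨-1, 0⟩⟩,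
  ⟨⟨0, 1⟩, ⟨-1, 0⟩, ⟨0, 0⟩, ⟨-1, 1⟩⟩, ⟨⟨-1, 0⟩, ⟨-1, 0⟩, ⟨1, 0⟩, ⟨-1, 0⟩⟩,
  ⟨⟨-1, 0⟩, ⟨0, 1⟩, ⟨1, -1⟩, ⟨0, 0⟩⟩, ⟨⟨-1, 0⟩, ⟨0, 0⟩, ⟨0, -1⟩, ⟨1, -1⟩⟩,
  ⟨⟨-1, 0⟩, ⟨0, 0⟩, ⟨0, 1⟩, ⟨1, -1⟩⟩, ⟨⟨-1, 0⟩, ⟨0, 1⟩, ⟨-1, 1⟩, ⟨0, 0⟩⟩,
  ⟨⟨1, 0⟩, ⟨-1, 0⟩, ⟨-1, 0⟩, ⟨1, 0⟩⟩, ⟨⟨1, 0⟩, ⟨0, 1⟩, ⟨-1, 1⟩, ⟨0, 0⟩⟩,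
  ⟨⟨1, 0⟩, ⟨-1, 0⟩, ⟨-1, 0⟩, ⟨-1, 0⟩⟩, ⟨⟨1, 0⟩, ⟨-1, 0⟩, ⟨1, 0⟩, ⟨-1, 0⟩⟩,
  ⟨⟨1, 0⟩, ⟨0, 1⟩, ⟨1, -1⟩, ⟨0, 0⟩⟩, ⟨⟨1, 0⟩, ⟨-1, 0⟩, ⟨1, 0⟩, ⟨1, 0⟩⟩,
  ⟨⟨0, -1⟩, ⟨-1, 0⟩, ⟨0, 0⟩, ⟨1, -1⟩⟩, ⟨⟨0, 0⟩, ⟨-1, 0⟩, ⟨-1, 1⟩, ⟨0, -1⟩⟩,
  ⟨⟨0, 0⟩, ⟨-1, 0⟩, ⟨-1, 1⟩, ⟨0, 1⟩⟩, ⟨⟨0, -1⟩, ⟨-1, 0⟩, ⟨0, 0⟩, ⟨-1, 1⟩⟩,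
  ⟨⟨0, 0⟩, ⟨-1, 0⟩, ⟨1, -1⟩, ⟨0, 1⟩⟩, ⟨⟨0, 0⟩, ⟨-1, 0⟩, ⟨1, -1⟩, ⟨0, -1⟩⟩,
  ⟨⟨0, 0⟩, ⟨0, 1⟩, ⟨1, 0⟩, ⟨1, -1⟩⟩, ⟨⟨0, 0⟩, ⟨0, 1⟩, ⟨-1, 0⟩, ⟨1, -1⟩⟩,
  ⟨⟨1, 0⟩, ⟨1, 0⟩, ⟨1, 0⟩, ⟨1, 0⟩⟩, ⟨⟨0, -1⟩, ⟨1, 0⟩, ⟨0, 0⟩, ⟨1, -1⟩⟩,
  ⟨⟨1, 0⟩, ⟨1, 0⟩, ⟨-1, 0⟩, ⟨1, 0⟩⟩, ⟨⟨1, 0⟩, ⟨0, -1⟩, ⟨-1, 1⟩, ⟨0, 0⟩⟩,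
  ⟨⟨1, 0⟩, ⟨0, 0⟩, ⟨0, 1⟩, ⟨-1, 1⟩⟩, ⟨⟨1, 0⟩, ⟨0, 0⟩, ⟨0, -1⟩, ⟨-1, 1⟩⟩,
  ⟨⟨1, 0⟩, ⟨0, -1⟩, ⟨1, -1⟩, ⟨0, 0⟩⟩, ⟨⟨1, 0⟩, ⟨0, 0⟩, ⟨0, -1⟩, ⟨1, -1⟩⟩,
  ⟨⟨1, 0⟩, ⟨0, 0⟩, ⟨0, 1⟩, ⟨1, -1⟩⟩, ⟨⟨0, -1⟩, ⟨0, 0⟩, ⟨-1, 1⟩, ⟨1, 0⟩⟩,
  ⟨⟨0, -1⟩, ⟨0, 0⟩, ⟨-1, 1⟩, ⟨-1, 0⟩⟩, ⟨⟨0, -1⟩, ⟨0, 0⟩, ⟨1, -1⟩, ⟨-1, 0⟩⟩,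
  ⟨⟨0, -1⟩, ⟨0, 0⟩, ⟨1, -1⟩, ⟨1, 0⟩⟩, ⟨⟨0, 0⟩, ⟨1, 0⟩, ⟨1, -1⟩, ⟨0, 1⟩⟩,
  ⟨⟨0, 0⟩, ⟨1, 0⟩, ⟨1, -1⟩, ⟨0, -1⟩⟩, ⟨⟨0, 1⟩, ⟨1, 0⟩, ⟨0, 0⟩, ⟨1, -1⟩⟩,
  ⟨⟨0, 0⟩, ⟨1, 0⟩, ⟨-1, 1⟩, ⟨0, -1⟩⟩, ⟨⟨0, 0⟩, ⟨1, 0⟩, ⟨-1, 1⟩, ⟨0, 1⟩⟩,
  ⟨⟨0, 0⟩, ⟨0, -1⟩, ⟨-1, 0⟩, ⟨-1, 1⟩⟩, ⟨⟨0, 0⟩, ⟨0, -1⟩, ⟨1, 0⟩, ⟨-1, 1⟩⟩,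
  ⟨⟨0, 0⟩, ⟨0, -1⟩, ⟨1, 0⟩, ⟨1, -1⟩⟩, ⟨⟨0, 0⟩, ⟨0, -1⟩, ⟨-1, 0⟩, ⟨1, -1⟩⟩,
  ⟨⟨0, 0⟩, ⟨0, 0⟩, ⟨0, 0⟩, ⟨-2, 0⟩⟩, ⟨⟨-1, 0⟩, ⟨0, 0⟩, ⟨0, 1⟩, ⟨-1, 1⟩⟩,
  ⟨⟨-1, 0⟩, ⟨0, 0⟩, ⟨0, -1⟩, ⟨-1, 1⟩⟩, ⟨⟨0, 1⟩, ⟨0, 0⟩, ⟨1, -1⟩, ⟨-1, 0⟩⟩,
  ⟨⟨0, 1⟩, ⟨0, 0⟩, ⟨1, -1⟩, ⟨1, 0⟩⟩, ⟨⟨0, 1⟩, ⟨0, 0⟩, ⟨-1, 1⟩, ⟨1, 0⟩⟩,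
  ⟨⟨0, 1⟩, ⟨0, 0⟩, ⟨-1, 1⟩, ⟨-1, 0⟩⟩, ⟨⟨0, 0⟩, ⟨0, 0⟩, ⟨2, 0⟩, ⟨0, 0⟩⟩,
  ⟨⟨0, 0⟩, ⟨0, 0⟩, ⟨-2, 0⟩, ⟨0, 0⟩⟩, ⟨⟨0, 0⟩, ⟨0, 1⟩, ⟨-1, 0⟩, ⟨-1, 1⟩⟩,
  ⟨⟨0, 0⟩, ⟨0, 1⟩, ⟨1, 0⟩, ⟨-1, 1⟩⟩, ⟨⟨0, 0⟩, ⟨0, 0⟩, ⟨0, 0⟩, ⟨2, 0⟩⟩]

/-- Parent and generator of each element of the table. -/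
def parTab : List (ℕ × Bool) :=
  [
  (0, false), (0, false), (0, true), (1, false), (1, true), (2, false), (2, true), (3, false),
  (3, true), (4, false), (4, true), (5, true), (6, false), (7, true), (8, false), (8, true),
  (9, true), (10, false), (11, false), (11, true), (12, true), (13, false), (13, true), (14, true),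
  (15, false), (16, false), (16, true), (17, true), (18, true), (19, false), (20, false), (20, true),
  (21, true), (22, false), (23, false), (23, true), (24, true), (25, true), (26, false), (27, false),
  (27, true), (28, true), (29, true), (30, true), (32, false), (32, true), (33, true), (34, true),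
  (35, false), (36, false), (36, true), (37, true), (38, true), (39, true), (41, false), (42, false),
  (42, true), (43, true), (44, true), (45, false), (46, false), (46, true), (47, true), (48, true),
  (49, true), (51, false), (52, false), (52, true), (53, true), (54, true), (55, true), (57, false),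
  (58, true), (59, true), (60, true), (62, false), (63, false), (63, true), (64, true), (65, true),
  (66, true), (68, false), (69, false), (69, true), (70, true), (71, true), (72, false), (73, false),
  (73, true), (74, true), (75, true), (76, true), (78, false), (79, false), (79, true), (80, true),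
  (81, true), (84, false), (85, false), (86, true), (87, true), (89, false), (90, false), (90, true),
  (91, true), (92, true), (95, false), (96, false), (97, true), (99, false), (99, true), (100, true),
  (101, true), (104, false), (105, false), (106, true), (108, false), (111, false), (112, false), (113, true)]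

/-- The basis rows as sums of table elements. -/
def wordTab : List (List ℕ) :=
  [[1, 61], [0, 5], [0, 11], [1, 17], [0], [32, 58], [1], [11, 28]]

/-- Generators of the five left ideals of norm two. -/
def idealTab : List Q :=
  [
  ⟨⟨1, -2⟩, ⟨1, 0⟩, ⟨1, 0⟩, ⟨1, 0⟩⟩,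
  ⟨⟨1, -2⟩, ⟨-1, 0⟩, ⟨-1, 0⟩, ⟨-1, 0⟩⟩,
  ⟨⟨-2, 0⟩, ⟨-1, 0⟩, ⟨-1, 1⟩, ⟨0, 1⟩⟩,
  ⟨⟨-2, 0⟩, ⟨-1, 0⟩, ⟨1, -1⟩, ⟨0, -1⟩⟩,
  ⟨⟨-2, 0⟩, ⟨-1, 0⟩, ⟨1, -1⟩, ⟨0, 1⟩⟩]

end CfsgLib.Ico
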